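/-
Codes for the affine symplectic group `2^6 : Sp₆(2)` and for linear maps of `F₂^9`.
-/
import Mathlib.Data.Nat.Bitwise
import Mathlib.Tactic

set_option autoImplicit false

namespace Cfsg.Agent.FE

/-- bounded universal quantifier -/
noncomputable def al (n : ℕ) (f : ℕ → Bool) : Bool := Nat.rec true (fun i r => f i && r) n

theorem al_spec {n : ℕ} {f : ℕ → Bool} (h : al n f = true) {i : ℕ} (hi : i < n) : f i = true := by
  induction n with
  | zero => omega
  | succ n ih =>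
    have h' : (f n && al n f) = true := h
    rw [Bool.and_eq_true] at h'
    rcases Nat.lt_succ_iff_lt_or_eq.1 hi with h1 | rfl
    exacts [ih h'.2 h1, h'.1]

def bt (x i : ℕ) : ℕ := x >>> i % 2

/-- field `i` of an affine code: column `i` for `i < 6`, the translation for `i = 6` -/
def cl (c i : ℕ) : ℕ := c >>> (6 * i) % 64

def ap6 (c x : ℕ) : ℕ :=
  bt x 0 * cl c 0 ^^^ bt x 1 * cl c 1 ^^^ bt x 2 * cl c 2 ^^^ bt x 3 * cl c 3 ^^^
    bt x 4 * cl c 4 ^^^ bt x 5 * cl c 5

def pk6 (a b c d e f g : ℕ) : ℕ :=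
  a + 64 * (b + 64 * (c + 64 * (d + 64 * (e + 64 * (f + 64 * g)))))

/-- the product of affine maps `x ↦ k x + a` -/
def mm (c e : ℕ) : ℕ :=
  pk6 (ap6 c (cl e 0)) (ap6 c (cl e 1)) (ap6 c (cl e 2)) (ap6 c (cl e 3)) (ap6 c (cl e 4))
    (ap6 c (cl e 5)) (ap6 c (cl e 6) ^^^ cl c 6)

def one : ℕ := 34630287489

/-- the symplectic form, bit `i` paired with bit `5 - i` -/
def b6 (x y : ℕ) : ℕ :=
  (bt x 0 * bt y 5 + bt x 1 * bt y 4 + bt x 2 * bt y 3 + bt x 3 * bt y 2 + bt x 4 * bt y 1 +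
    bt x 5 * bt y 0) % 2

/-- valid codes -/
noncomputable def okc (c : ℕ) : Bool :=
  Nat.blt c 4398046511104 &&
    al 6 fun i => al 6 fun j => Nat.beq (b6 (cl c i) (cl c j)) (b6 (2 ^ i) (2 ^ j))

/-- the unitriangular codes (a Sylow 2-subgroup) -/
noncomputable def tri (c : ℕ) : Bool := okc c && al 6 fun i => Nat.beq (cl c i >>> i) 1

/-- translation -/
def tr (v : ℕ) : ℕ := one + v * 68719476736

/-- transvection -/
def tv (w : ℕ) : ℕ :=
  pk6 (1 ^^^ b6 1 w * w) (2 ^^^ b6 2 w * w) (4 ^^^ b6 4 w * w) (8 ^^^ b6 8 w * w)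
    (16 ^^^ b6 16 w * w) (32 ^^^ b6 32 w * w) 0

/-- the linear part -/
def ln (c : ℕ) : ℕ := c % 68719476736

def q0 (u : ℕ) : ℕ := (bt u 0 * bt u 3 + bt u 1 * bt u 2) % 2

/-- the elements of `J = 2 × 2^{1+8}` -/
def jc (v e : ℕ) : ℕ :=
  pk6 1 (2 + bt v 7) (4 + bt v 6) (8 + bt v 5) (16 + bt v 4)
    (32 + 2 * (v >>> 4 % 16) + (bt v 8 + q0 (v >>> 4)) % 2) (e + 2 * (v % 16))

/-- the image in `J / ⟨z⟩` -/
def pc (c : ℕ) : ℕ :=
  cl c 6 >>> 1 % 16 + 16 * (cl c 5 >>> 1 % 16) + 256 * ((cl c 5 + q0 (cl c 5 >>> 1)) % 2)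

def isJ (c : ℕ) : Bool := Nat.beq c (jc (pc c) (cl c 6 % 2))

/-- the codes of the 126 transpositions -/
noncomputable def isD (c : ℕ) : Bool :=
  !al 64 fun w => Nat.beq w 0 || !(Nat.beq (ln c) (tv w) && (Nat.beq (cl c 6) 0 || Nat.beq (cl c 6) w))

def cz : ℕ := 103349764225
def cd : ℕ := 35704029313
def ca : ℕ := 2233653543041
def cx : ℕ := 34663841921
def cw : ℕ := 172069240961

def c9 (c i : ℕ) : ℕ := c >>> (9 * i) % 512

def ap9 (c x : ℕ) : ℕ :=
  bt x 0 * c9 c 0 ^^^ bt x 1 * c9 c 1 ^^^ bt x 2 * c9 c 2 ^^^ bt x 3 * c9 c 3 ^^^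
    bt x 4 * c9 c 4 ^^^ bt x 5 * c9 c 5 ^^^ bt x 6 * c9 c 6 ^^^ bt x 7 * c9 c 7 ^^^ bt x 8 * c9 c 8

def pk9 (f : ℕ → ℕ) : ℕ :=
  f 0 + 512 * (f 1 + 512 * (f 2 + 512 * (f 3 + 512 * (f 4 + 512 * (f 5 + 512 * (f 6 +
    512 * (f 7 + 512 * f 8)))))))

def m9 (c e : ℕ) : ℕ := pk9 fun i => ap9 c (c9 e i)

def I9 : ℕ := 1210107565283851686118401
/-- the action of `a` -/
def ab : ℕ := 1210181424388178025907201
/-- the action of `x` -/
def t0 : ℕ := 1212616322477876319355905

def b4 (x y : ℕ) : ℕ := (bt x 0 * bt y 3 + bt x 1 * bt y 2 + bt x 2 * bt y 1 + bt x 3 * bt y 0) % 2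

def q9 (v : ℕ) : ℕ := b4 v (v >>> 4)

def B9 (v w : ℕ) : ℕ := (b4 v (w >>> 4) + b4 w (v >>> 4)) % 2

/-- `r` is the action on `J / ⟨z⟩` of the affine map `c` -/
noncomputable def rel (c r : ℕ) : Bool :=
  Nat.blt r (2 ^ 81) && al 9 fun i => Nat.beq (mm c (jc (2 ^ i) 0)) (mm (jc (c9 r i) 0) c) ||
    Nat.beq (mm c (jc (2 ^ i) 0)) (mm (jc (c9 r i) 1) c)

/-- column `i` of a `4 × 4` code -/
def c4 (y i : ℕ) : ℕ := y >>> (4 * i) % 16

noncomputable def sp4 (y : ℕ) : Bool :=
  al 4 fun i => al 4 fun j => Nat.beq (b4 (c4 y i) (c4 y j)) (b4 (2 ^ i) (2 ^ j))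

/-- the element `diag (1, y, 1)` of `Sp₆(2)` -/
def ky (y : ℕ) : ℕ := pk6 1 (2 * c4 y 0) (2 * c4 y 1) (2 * c4 y 2) (2 * c4 y 3) 32 0

/-- its action on `J / ⟨z⟩` -/
def act (y : ℕ) : ℕ :=
  pk9 fun i => if i < 4 then c4 y i else if i < 8 then 16 * c4 y (i - 4) + 256 * q0 (c4 y (i - 4))
    else 256

def blk (r : ℕ) : ℕ := c9 r 0 % 16 + 16 * (c9 r 1 % 16 + 16 * (c9 r 2 % 16 + 16 * (c9 r 3 % 16)))

/-- the group `C = ⟨ab⟩ × Sp₄(2)` of order 1440 -/
noncomputable def inC (r : ℕ) : Bool :=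
  sp4 (blk r) && (Nat.beq r (act (blk r)) || Nat.beq r (m9 ab (act (blk r))))

/-- generators of `Sp₄(2)`: three transvections and a swap -/
def g1 : ℕ := 34631336065
def g2 : ℕ := 34630320257
def g3 : ℕ := 34732523649
def g4 : ℕ := 34498158849

/-- the element of order three of `U₄(2)` outside `C` -/
def cg : ℕ := 1210184891034041744246032

/-- generators of `U₄(2)` on `J / ⟨z⟩`: the actions of `g1 .. g4`, and `cg` -/
def gn (i : ℕ) : ℕ := [
  1210112753430622417454081, 1210107576542850754546689, 1212916946760202823926785,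
  1209518421833146609697282, 1210184891034041744246032].getD i I9

/-- evaluation of a word -/
def wd (l : List ℕ) : ℕ := l.foldr (fun i r => m9 (gn i) r) I9

/-- a Sylow 2-subgroup of `U₄(2)` -/
def T0 : List ℕ := [
  1210107565283851686118401, 1210112753430622417454081, 1210274468686046739039233,
  1210278503911312862479361, 1210292042329931622917121, 1210292925035458592252929,
  1210315407004837348385793, 1210315677220814986945537, 1210403001419407459353601,
  1210408189566178190689281, 1210569328360849671980033, 1210573363586115795420161,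
  1210596701837526264194049, 1210597008082300930106369, 1210619490051679149368321,
  1210620336728409091351553, 1210697861657160882062849, 1210703338034307765372417,
  1210873700201018651575809, 1210878023656660926465537, 1210882337577339838277121,
  1210882932052490656163329, 1210914925624284431787521, 1210915484070638222321153,
  1211021562383984345220609, 1211025309378874317211137, 1211039423132344937358849,
  1211040017607495754720769, 1211052987974458686055937, 1211053546420812476065281,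
  1211140871745306465928705, 1211145771661701045290497, 1212488077974891751015425,
  1212492113200157874455553, 1212505651618776634893313, 1212506534324303604229121,
  1212529016293682360361985, 1212529286509659998921729, 1212616322477876319355905,
  1212621510624647050691585, 1212782937649694683956225, 1212786972874960807396353,
  1212810311126371544605697, 1212810617371146210518017, 1212833099340524429779969,
  1212833946017254371763201, 1212911758613432092591105, 1212916946760202823926785,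
  1213087309489863931987457, 1213091632945506206877185, 1213095946866184850253313,
  1213096541341335668139521, 1213128534913129712199169, 1213129093359483502732801,
  1213206618851185515300353, 1213212095228332398609921, 1213354481034151477904897,
  1213359380950546057266689, 1213530319578008710022657, 1213534066572898682013185,
  1213548180326369302160897, 1213548774801520119522817, 1213561745168483319293441,
  1213562303614837109302785]

/-- its five transvections -/
def tau : List ℕ := [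
  1210112753430622417454081, 1210274468686046739039233, 1210569328360849671980033,
  1212616322477876319355905, 1212916946760202823926785]

/-- the elements that fix the isotropic line `⟨1, 2, 16, 32⟩` -/
def e16 (r : ℕ) : Bool :=
  Nat.beq (c9 r 0) 1 && Nat.beq (c9 r 1) 2 && Nat.beq (c9 r 4) 16 && Nat.beq (c9 r 5) 32

theorem bt_lt (x i : ℕ) : bt x i < 2 := Nat.mod_lt _ (by decide)

theorem bt_xor (x y i : ℕ) : bt (x ^^^ y) i = bt x i ^^^ bt y i := by
  unfold bt
  rw [Nat.shiftRight_xor_distrib]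
  exact Nat.xor_mod_two_pow (n := 1)

theorem xor_mul' {a b : ℕ} (ha : a < 2) (hb : b < 2) (f : ℕ) :
    (a ^^^ b) * f = a * f ^^^ b * f := by
  interval_cases a <;> interval_cases b <;> simp

theorem bt_xor_mul (x y i f : ℕ) : bt (x ^^^ y) i * f = bt x i * f ^^^ bt y i * f := by
  rw [bt_xor, xor_mul' (bt_lt _ _) (bt_lt _ _)]

theorem ap6_xor (c x y : ℕ) : ap6 c (x ^^^ y) = ap6 c x ^^^ ap6 c y := by
  simp only [ap6, bt_xor_mul]
  ac_rfl

theorem ap9_xor (c x y : ℕ) : ap9 c (x ^^^ y) = ap9 c x ^^^ ap9 c y := by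
  simp only [ap9, bt_xor_mul]
  ac_rfl

theorem cl_lt (c i : ℕ) : cl c i < 64 := Nat.mod_lt _ (by decide)

theorem c9_lt (c i : ℕ) : c9 c i < 512 := Nat.mod_lt _ (by decide)

theorem bt_mul_lt {n f : ℕ} (x i : ℕ) (h : f < 2 ^ n) : bt x i * f < 2 ^ n := by
  have := bt_lt x i
  have : bt x i = 0 ∨ bt x i = 1 := by omega
  rcases this with e | e <;> simp [e, h]

theorem ap6_lt (c x : ℕ) : ap6 c x < 64 := by
  have h := fun i => bt_mul_lt (n := 6) x i (cl_lt c i)
  unfold ap6
  show _ < 2 ^ 6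
  repeat' apply Nat.xor_lt_two_pow
  all_goals exact h _

theorem ap9_lt (c x : ℕ) : ap9 c x < 512 := by
  have h := fun i => bt_mul_lt (n := 9) x i (c9_lt c i)
  unfold ap9
  show _ < 2 ^ 9
  repeat' apply Nat.xor_lt_two_pow
  all_goals exact h _

theorem ap6_pow (c : ℕ) {i : ℕ} (hi : i < 6) : ap6 c (2 ^ i) = cl c i := by
  interval_cases i <;> simp [ap6, bt]

theorem ap9_pow (c : ℕ) {i : ℕ} (hi : i < 9) : ap9 c (2 ^ i) = c9 c i := by
  interval_cases i <;> simp [ap9, bt]

theorem ap6_zero (c : ℕ) : ap6 c 0 = 0 := by simp [ap6, bt]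

theorem ap9_zero (c : ℕ) : ap9 c 0 = 0 := by simp [ap9, bt]

theorem c9_pk {f : ℕ → ℕ} (h : ∀ i < 9, f i < 512) {i : ℕ} (hi : i < 9) : c9 (pk9 f) i = f i := by
  have := h 0; have := h 1; have := h 2; have := h 3; have := h 4; have := h 5; have := h 6
  have := h 7; have := h 8
  interval_cases i <;> simp only [c9, pk9, Nat.shiftRight_eq_div_pow] <;> omega

theorem pk9_lt {f : ℕ → ℕ} (h : ∀ i < 9, f i < 512) : pk9 f < 2 ^ 81 := by
  have := h 0; have := h 1; have := h 2; have := h 3; have := h 4; have := h 5; have := h 6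
  have := h 7; have := h 8
  simp only [pk9]; omega

theorem pk9_c9 {c : ℕ} (h : c < 2 ^ 81) : pk9 (c9 c) = c := by
  simp only [c9, pk9, Nat.shiftRight_eq_div_pow]; omega

theorem ext9 {c e : ℕ} (hc : c < 2 ^ 81) (he : e < 2 ^ 81) (h : ∀ i < 9, c9 c i = c9 e i) :
    c = e := by
  rw [← pk9_c9 hc, ← pk9_c9 he]
  simp only [pk9, h 0, h 1, h 2, h 3, h 4, h 5, h 6, h 7, h 8, Nat.reduceLT]

theorem c9_m9 (c e : ℕ) {i : ℕ} (hi : i < 9) : c9 (m9 c e) i = ap9 c (c9 e i) :=
  c9_pk (fun _ _ => ap9_lt _ _) hi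

theorem m9_lt (c e : ℕ) : m9 c e < 2 ^ 81 := pk9_lt fun _ _ => ap9_lt _ _

theorem ap9_bt (c x i f : ℕ) : ap9 c (bt x i * f) = bt x i * ap9 c f := by
  have := bt_lt x i
  have : bt x i = 0 ∨ bt x i = 1 := by omega
  rcases this with e | e <;> simp [e, ap9_zero]

theorem ap9_m9 (c e v : ℕ) : ap9 (m9 c e) v = ap9 c (ap9 e v) := by
  rw [ap9, ap9.eq_def e]
  simp only [ap9_xor, ap9_bt, c9_m9, Nat.reduceLT]

theorem ap9_I9 {v : ℕ} (h : v < 512) : ap9 I9 v = v :=
  Nat.eq_of_beq_eq_true (al_spec (f := fun v => Nat.beq (ap9 I9 v) v) (n := 512)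
    (by decide +kernel) h)

theorem ap6_one {v : ℕ} (h : v < 64) : ap6 one v = v :=
  Nat.eq_of_beq_eq_true (al_spec (f := fun v => Nat.beq (ap6 one v) v) (n := 64)
    (by decide +kernel) h)

/-- an additive function is given by its values on the basis -/
theorem lin9 {f : ℕ → ℕ} (h : ∀ v < 512, ∀ w < 512, f (v ^^^ w) = f v ^^^ f w)
    (hl : ∀ v < 512, f v < 512) {v : ℕ} (hv : v < 512) :
    ap9 (pk9 fun i => f (2 ^ i)) v = f v := by
  have h0 : f 0 = 0 := by simpa using h 0 (by decide) 0 (by decide)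
  have hb : ∀ i < 9, bt v i * f (2 ^ i) = f (bt v i * 2 ^ i) := fun i _ => by
    have := bt_lt v i
    have : bt v i = 0 ∨ bt v i = 1 := by omega
    rcases this with e | e <;> simp [e, h0]
  have lt : ∀ i < 9, bt v i * 2 ^ i < 2 ^ 9 := fun i hi =>
    bt_mul_lt v i (Nat.pow_lt_pow_right (by decide) hi)
  have hp : ∀ i < 9, f (2 ^ i) < 512 := fun i hi =>
    hl _ (Nat.pow_lt_pow_right (a := 2) (n := 9) (by decide) hi)
  have X : ∀ a b, a < 2 ^ 9 → b < 2 ^ 9 → f a ^^^ f b = f (a ^^^ b) := fun a b ha hb =>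
    (h a ha b hb).symm
  conv_rhs => rw [← ap9_I9 hv]
  unfold ap9
  simp only [c9_pk hp, hb, Nat.reduceLT]
  have e : ∀ i < 9, c9 I9 i = 2 ^ i := by decide
  simp only [e, Nat.reduceLT]
  rw [X, X, X, X, X, X, X, X]
  all_goals
    repeat' apply Nat.xor_lt_two_pow
    all_goals exact lt _ (by decide)

theorem cl_pk {a b c d e f g : ℕ} (ha : a < 64) (hb : b < 64) (hc : c < 64) (hd : d < 64)
    (he : e < 64) (hf : f < 64) (hg : g < 64) :
    cl (pk6 a b c d e f g) 0 = a ∧ cl (pk6 a b c d e f g) 1 = b ∧ cl (pk6 a b c d e f g) 2 = c ∧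
    cl (pk6 a b c d e f g) 3 = d ∧ cl (pk6 a b c d e f g) 4 = e ∧ cl (pk6 a b c d e f g) 5 = f ∧
    cl (pk6 a b c d e f g) 6 = g := by
  simp only [cl, pk6, Nat.shiftRight_eq_div_pow]; omega

theorem pk6_cl {c : ℕ} (h : c < 4398046511104) :
    pk6 (cl c 0) (cl c 1) (cl c 2) (cl c 3) (cl c 4) (cl c 5) (cl c 6) = c := by
  simp only [cl, pk6, Nat.shiftRight_eq_div_pow]; omega

theorem okc_lt {c : ℕ} (h : okc c = true) : c < 4398046511104 := by
  rw [okc, Bool.and_eq_true] at h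
  simpa [Nat.blt_eq] using h.1

theorem okc_b6 {c : ℕ} (h : okc c = true) {i j : ℕ} (hi : i < 6) (hj : j < 6) :
    b6 (cl c i) (cl c j) = b6 (2 ^ i) (2 ^ j) := by
  rw [okc, Bool.and_eq_true] at h
  exact Nat.eq_of_beq_eq_true (al_spec (al_spec h.2 hi) hj)

theorem tri_ok {c : ℕ} (h : tri c = true) : okc c = true := by
  rw [tri, Bool.and_eq_true] at h; exact h.1

theorem tri_cl {c : ℕ} (h : tri c = true) {i : ℕ} (hi : i < 6) : cl c i >>> i = 1 := by
  rw [tri, Bool.and_eq_true] at h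
  exact Nat.eq_of_beq_eq_true (al_spec h.2 hi)

theorem b4_xor (x y w : ℕ) : b4 (x ^^^ y) w = (b4 x w + b4 y w) % 2 := by
  have k : ∀ a b : ℕ, a < 2 → b < 2 → ∀ f, (a ^^^ b) * f % 2 = (a * f + b * f) % 2 :=
    fun a b ha hb f => by interval_cases a <;> interval_cases b <;> first | (simp; omega) | simp
  have := k _ _ (bt_lt x 0) (bt_lt y 0) (bt w 3)
  have := k _ _ (bt_lt x 1) (bt_lt y 1) (bt w 2)
  have := k _ _ (bt_lt x 2) (bt_lt y 2) (bt w 1)
  have := k _ _ (bt_lt x 3) (bt_lt y 3) (bt w 0)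
  simp only [b4, bt_xor]
  omega

theorem b4_comm (x y : ℕ) : b4 x y = b4 y x := by
  simp only [b4, mul_comm (bt x _)]; congr 1; ring

theorem B9_comm (v w : ℕ) : B9 v w = B9 w v := by rw [B9, B9, add_comm]

theorem B9_lt (v w : ℕ) : B9 v w < 2 := Nat.mod_lt _ (by decide)

theorem q9_lt (v : ℕ) : q9 v < 2 := Nat.mod_lt _ (by decide)

theorem B9_xor (u v w : ℕ) : B9 (u ^^^ v) w = (B9 u w + B9 v w) % 2 := by
  simp only [B9, Nat.shiftRight_xor_distrib, b4_xor, b4_comm w]
  omega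

theorem q9_xor (v w : ℕ) : q9 (v ^^^ w) = (q9 v + q9 w + B9 v w) % 2 := by
  simp only [q9, B9, Nat.shiftRight_xor_distrib, b4_xor]
  simp only [b4_comm v, b4_comm w, b4_xor]
  omega

end Cfsg.Agent.FE
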