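/-
Tables for `J` and `Sp₄(2)`.
-/
import Cfsg.Agent.FE.Code

set_option autoImplicit false

namespace Cfsg.Agent.FE

theorem al_of {n : ℕ} {f : ℕ → Bool} (h : ∀ i < n, f i = true) : al n f = true := by
  induction n with
  | zero => rfl
  | succ n ih =>
    show (f n && al n f) = true
    rw [h n n.lt_succ_self, ih fun i hi => h i (by omega)]; rfl

theorem cl_mm (c e : ℕ) : cl (mm c e) 0 = ap6 c (cl e 0) ∧ cl (mm c e) 1 = ap6 c (cl e 1) ∧
    cl (mm c e) 2 = ap6 c (cl e 2) ∧ cl (mm c e) 3 = ap6 c (cl e 3) ∧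
    cl (mm c e) 4 = ap6 c (cl e 4) ∧ cl (mm c e) 5 = ap6 c (cl e 5) ∧
    cl (mm c e) 6 = ap6 c (cl e 6) ^^^ cl c 6 :=
  cl_pk (ap6_lt _ _) (ap6_lt _ _) (ap6_lt _ _) (ap6_lt _ _) (ap6_lt _ _) (ap6_lt _ _)
    (Nat.xor_lt_two_pow (n := 6) (ap6_lt _ _) (cl_lt _ _))

theorem mm_lt (c e : ℕ) : mm c e < 2 ^ 42 := by
  have h := ap6_lt c
  have := h (cl e 0); have := h (cl e 1); have := h (cl e 2); have := h (cl e 3)
  have := h (cl e 4); have := h (cl e 5)
  have := Nat.xor_lt_two_pow (n := 6) (ap6_lt c (cl e 6)) (cl_lt c 6)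
  simp only [mm, pk6]; omega

theorem pc_lt (c : ℕ) : pc c < 512 := by unfold pc; omega

theorem isJ_eq {c : ℕ} (h : isJ c = true) : c = jc (pc c) (cl c 6 % 2) := Nat.eq_of_beq_eq_true h

/-- generators of `J` -/
def gj (i : ℕ) : ℕ := if i < 9 then jc (2 ^ i) 0 else cz

theorem jc_tab : (al 512 fun v => al 2 fun e => tri (jc v e) && isJ (jc v e) &&
    Nat.beq (pc (jc v e)) v && Nat.beq (mm (jc v e) (jc v e)) (if q9 v = 0 then one else cz) &&
    Nat.beq (jc v 1) (mm (jc v 0) cz) &&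
    (!Nat.beq (mm (mm ca (jc v e)) (mm ca (jc v e))) one ||
      Nat.beq (mm ca (jc v e)) (tr (cl (mm ca (jc v e)) 6)))) = true := by decide +kernel

theorem jc_gen : (al 512 fun v => al 2 fun e => al 10 fun i =>
    isJ (mm (jc v e) (gj i)) && Nat.beq (pc (mm (jc v e) (gj i))) (v ^^^ 2 ^ i % 512)) = true := by
  decide +kernel

theorem jc_spec {v e : ℕ} (hv : v < 512) (he : e < 2) : tri (jc v e) = true ∧
    isJ (jc v e) = true ∧ pc (jc v e) = v ∧
    mm (jc v e) (jc v e) = (if q9 v = 0 then one else cz) ∧ jc v 1 = mm (jc v 0) cz ∧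
    (mm (mm ca (jc v e)) (mm ca (jc v e)) = one →
      mm ca (jc v e) = tr (cl (mm ca (jc v e)) 6)) := by
  have := al_spec (al_spec jc_tab hv) he
  simp only [Bool.and_eq_true, Nat.beq_eq, Bool.or_eq_true, Bool.not_eq_true', ← Bool.not_eq_true]
    at this
  obtain ⟨⟨⟨⟨⟨h1, h2⟩, h3⟩, h4⟩, h5⟩, h6⟩ := this
  exact ⟨h1, h2, h3, h4, h5, fun h => h6.resolve_left (not_not.2 h)⟩

theorem jc_cl (v : ℕ) {e : ℕ} (he : e < 2) : cl (jc v e) 0 = 1 ∧ cl (jc v e) 1 / 2 = 1 ∧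
    cl (jc v e) 2 / 2 = 2 ∧ cl (jc v e) 3 / 2 = 4 ∧ cl (jc v e) 4 / 2 = 8 ∧ cl (jc v e) 6 < 32 := by
  have := bt_lt v 7; have := bt_lt v 6; have := bt_lt v 5; have := bt_lt v 4
  obtain ⟨h0, h1, h2, h3, h4, -, h6⟩ := cl_pk (a := 1) (b := 2 + bt v 7) (c := 4 + bt v 6)
    (d := 8 + bt v 5) (e := 16 + bt v 4)
    (f := 32 + 2 * (v >>> 4 % 16) + (bt v 8 + q0 (v >>> 4)) % 2) (g := e + 2 * (v % 16))
    (by omega) (by omega) (by omega) (by omega) (by omega) (by omega) (by omega)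
  unfold jc
  omega

theorem ap6_half {c u : ℕ} (h0 : cl c 0 = 1) (h1 : cl c 1 / 2 = 1) (h2 : cl c 2 / 2 = 2)
    (h3 : cl c 3 / 2 = 4) (h4 : cl c 4 / 2 = 8) (hu : u < 32) : ap6 c u / 2 = u / 2 := by
  have k : ∀ a < 2, ∀ b < 2, ∀ e < 2, ∀ f < 2, ∀ u < 32, (bt u 0 * 1 ^^^ bt u 1 * (2 + a) ^^^
    bt u 2 * (4 + b) ^^^ bt u 3 * (8 + e) ^^^ bt u 4 * (16 + f)) / 2 = u / 2 := by decide +kernel
  have h5 : bt u 5 = 0 := by simp only [bt, Nat.shiftRight_eq_div_pow]; omega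
  have := k (cl c 1 % 2) (by omega) (cl c 2 % 2) (by omega) (cl c 3 % 2) (by omega) (cl c 4 % 2)
    (by omega) u hu
  rw [ap6, h5, h0, zero_mul, Nat.xor_zero, ← this]
  congr <;> omega

/-- the columns of a code that fixes `z` -/
theorem col_lt {c : ℕ} (h : okc c = true) (h0 : cl c 0 = 1) :
    (∀ i < 5, cl c i < 32) ∧ 32 ≤ cl c 5 := by
  have k : ∀ x < 64, (b6 1 x = 0 → x < 32) ∧ (b6 1 x = 1 → 32 ≤ x) := by decide +kernel
  refine ⟨fun i hi => (k _ (cl_lt c i)).1 ?_, (k _ (cl_lt c 5)).2 ?_⟩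
  · rw [← h0, okc_b6 h (by decide) (by omega)]
    interval_cases i <;> decide
  · have := okc_b6 h (by decide : 0 < 6) (by decide : 5 < 6)
    rw [h0] at this
    exact this

theorem bt5 {x : ℕ} (h : x < 64) : bt x 5 = x / 32 := by
  simp only [bt, Nat.shiftRight_eq_div_pow]; omega

theorem ap6_bt5 {c u : ℕ} (h : okc c = true) (h0 : cl c 0 = 1) : bt (ap6 c u) 5 = bt u 5 := by
  obtain ⟨k, k5⟩ := col_lt h h0
  have e : ∀ i < 5, bt (bt u i * cl c i) 5 = 0 := fun i hi => by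
    have := bt_mul_lt (n := 5) u i (k i hi)
    rw [bt5 (by omega)]; omega
  have := cl_lt c 5
  have := bt_lt u 5
  simp only [ap6, bt_xor, e, Nat.reduceLT, Nat.zero_xor]
  rcases (by omega : bt u 5 = 0 ∨ bt u 5 = 1) with f | f <;> rw [f]
  · rw [zero_mul]; rfl
  · rw [one_mul, bt5 (by omega)]; omega

theorem isJ_tab : (al 2 fun a => al 2 fun b => al 2 fun e => al 2 fun f => al 32 fun g =>
    !(Nat.beq (b6 (2 + a) (32 + g)) 0 && Nat.beq (b6 (4 + b) (32 + g)) 0 &&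
      Nat.beq (b6 (8 + e) (32 + g)) 0 && Nat.beq (b6 (16 + f) (32 + g)) 0) ||
    al 32 fun t => isJ (pk6 1 (2 + a) (4 + b) (8 + e) (16 + f) (32 + g) t)) = true := by
  decide +kernel

theorem isJ_of {c : ℕ} (h : okc c = true) (h0 : cl c 0 = 1) (h1 : cl c 1 / 2 = 1)
    (h2 : cl c 2 / 2 = 2) (h3 : cl c 3 / 2 = 4) (h4 : cl c 4 / 2 = 8) (h6 : cl c 6 < 32) :
    isJ c = true := by
  have := cl_lt c 5
  have := (col_lt h h0).2
  have k := al_spec (al_spec (al_spec (al_spec (al_spec isJ_tab (i := cl c 1 % 2) (by omega))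
    (i := cl c 2 % 2) (by omega)) (i := cl c 3 % 2) (by omega)) (i := cl c 4 % 2) (by omega))
    (i := cl c 5 - 32) (by omega)
  rw [show 2 + cl c 1 % 2 = cl c 1 by omega, show 4 + cl c 2 % 2 = cl c 2 by omega,
    show 8 + cl c 3 % 2 = cl c 3 by omega, show 16 + cl c 4 % 2 = cl c 4 by omega,
    show 32 + (cl c 5 - 32) = cl c 5 by omega, okc_b6 h (by decide) (by decide),
    okc_b6 h (by decide) (by decide), okc_b6 h (by decide) (by decide),
    okc_b6 h (by decide) (by decide)] at k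
  have k := al_spec ((Bool.or_eq_true _ _).mp k |>.resolve_left (by decide)) h6
  have e := pk6_cl (okc_lt h)
  rw [h0] at e
  rwa [e] at k

/-! ### `Sp₄(2)` -/

/-- the action on `z^⊥ / z` -/
def bk (c : ℕ) : ℕ :=
  cl c 1 / 2 % 16 + 16 * (cl c 2 / 2 % 16 + 16 * (cl c 3 / 2 % 16 + 16 * (cl c 4 / 2 % 16)))

theorem bk_lt (c : ℕ) : bk c < 65536 := by unfold bk; omega

theorem c4_bk (c : ℕ) {i : ℕ} (hi : i < 4) : c4 (bk c) i = cl c (i + 1) / 2 % 16 := by
  interval_cases i <;> simp only [c4, bk, Nat.shiftRight_eq_div_pow, Nat.reduceAdd, zero_add] <;>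
    omega

theorem sp4_bk {c : ℕ} (h : okc c = true) (h0 : cl c 0 = 1) : sp4 (bk c) = true := by
  have k : ∀ x < 32, ∀ y < 32, b4 (x / 2 % 16) (y / 2 % 16) = b6 x y := by decide +kernel
  have l := (col_lt h h0).1
  refine al_of fun i hi => al_of fun j hj => ?_
  rw [c4_bk c hi, c4_bk c hj, k _ (l _ (by omega)) _ (l _ (by omega)),
    okc_b6 h (by omega) (by omega), Nat.beq_eq]
  interval_cases i <;> interval_cases j <;> rfl

theorem blk_lt (r : ℕ) : blk r < 65536 := by unfold blk; omega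

/-- a quantifier over `Sp₄(2)` -/
noncomputable def alS (f : ℕ → Bool) : Bool :=
  al 16 fun a => al 16 fun e => !Nat.beq (b4 a e) 1 || al 16 fun b =>
    !(Nat.beq (b4 a b) 0 && Nat.beq (b4 b e) 0) || al 16 fun c =>
      !(Nat.beq (b4 a c) 0 && Nat.beq (b4 c e) 0 && Nat.beq (b4 b c) 1) ||
        f (a + 16 * (b + 16 * (c + 16 * e)))

theorem alS_spec {f : ℕ → Bool} (h : alS f = true) {y : ℕ} (hy : y < 65536) (hs : sp4 y = true) :
    f y = true := by
  have b : ∀ i < 4, ∀ j < 4, b4 (c4 y i) (c4 y j) = b4 (2 ^ i) (2 ^ j) := fun i hi j hj =>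
    Nat.eq_of_beq_eq_true (al_spec (al_spec hs hi) hj)
  have l : ∀ i, c4 y i < 16 := fun i => Nat.mod_lt _ (by decide)
  have k := al_spec (al_spec h (l 0)) (l 3)
  rw [b 0 (by decide) 3 (by decide)] at k
  have k := al_spec ((Bool.or_eq_true _ _).mp k |>.resolve_left (by decide)) (l 1)
  rw [b 0 (by decide) 1 (by decide), b 1 (by decide) 3 (by decide)] at k
  have k := al_spec ((Bool.or_eq_true _ _).mp k |>.resolve_left (by decide)) (l 2)
  rw [b 0 (by decide) 2 (by decide), b 2 (by decide) 3 (by decide),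
    b 1 (by decide) 2 (by decide)] at k
  have k := (Bool.or_eq_true _ _).mp k |>.resolve_left (by decide)
  rwa [show c4 y 0 + 16 * (c4 y 1 + 16 * (c4 y 2 + 16 * c4 y 3)) = y by
    simp only [c4, Nat.shiftRight_eq_div_pow]; omega] at k

theorem sp_tab : (alS fun y => okc (ky y) && Nat.beq (cl (ky y) 0) 1 &&
    Nat.beq (mm (ky y) cd) (mm cd (ky y)) && rel (ky y) (act y) && Nat.beq (blk (act y)) y &&
    Nat.beq (blk (m9 ab (act y))) y && Nat.beq (bk (ky y)) y) = true := by decide +kernel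

theorem sp_spec {y : ℕ} (hy : y < 65536) (hs : sp4 y = true) : okc (ky y) = true ∧
    cl (ky y) 0 = 1 ∧ mm (ky y) cd = mm cd (ky y) ∧ rel (ky y) (act y) = true ∧
    blk (act y) = y ∧ blk (m9 ab (act y)) = y ∧ bk (ky y) = y := by
  simpa only [Bool.and_eq_true, Nat.beq_eq, and_assoc] using alS_spec sp_tab hy hs

/-- evaluate first -/
noncomputable def frc {α : Type} (x : ℕ) (f : ℕ → α) : α := Nat.rec (f 0) (fun n _ => f (n + 1)) x

theorem frc_eq {α : Type} (x : ℕ) (f : ℕ → α) : frc x f = f x := by cases x <;> rfl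

def gg (i : ℕ) : ℕ := [g1, g2, g3, g4].getD i one

noncomputable def stp (W k s : ℕ) : ℕ :=
  frc (mm (gg (W >>> (2 * k) % 4)) (s % 2 ^ 42)) fun c => c + 2 ^ 42 * (s / 2 ^ 42 ||| 2 ^ bk c)

noncomputable def wlk (W n : ℕ) : ℕ → ℕ :=
  Nat.rec (fun s => s) (fun k r s => frc (stp W k s) r) n

theorem wlk_tab : (frc (wlk
    0xec9239218b99b9218b9c8c9cecdb8c7b464c8c44d121c8d39ecb86e2486e6e6c8632348e199e486e3b7719ed34872e72362e486e462e66d21cd898986e663b46646e271921ce789871b98b89b21ecb8ed9ecb8b9edec91b998b98b9edd99ced89b8ed3648c86e2c86262e6626cd89ed89e24ece1b62e62e2e2e4dcedde76e4ededcb8a48e2c86377b132e2e2ddb37b77b4e66e2c872774718931e24d219c6e2e2721989edc8c9b8d89dededcedb8b99b8b9c992274f6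
    728 (one + 2 ^ 42 * 2 ^ bk one) / 2 ^ 42) fun s => alS fun y => s.testBit y) = true := by
  decide +kernel

theorem wlk_inv {p : ℕ → Prop} (hs : ∀ c, p c → ∀ i < 4, p (mm (gg i) c)) (W n s : ℕ)
    (h : p (s % 2 ^ 42) ∧ ∀ y, (s / 2 ^ 42).testBit y → ∃ c, p c ∧ bk c = y) :
    ∀ y, (wlk W n s / 2 ^ 42).testBit y → ∃ c, p c ∧ bk c = y := by
  induction n generalizing s with
  | zero => exact h.2
  | succ n ih =>
    have e : wlk W (n + 1) s = wlk W n (stp W n s) := frc_eq _ _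
    have l := mm_lt (gg (W >>> (2 * n) % 4)) (s % 2 ^ 42)
    have k := hs _ h.1 _ (Nat.mod_lt (W >>> (2 * n)) (by decide : 0 < 4))
    rw [e]
    refine ih _ ?_
    rw [stp, frc_eq, Nat.add_mul_mod_self_left, Nat.mod_eq_of_lt l,
      Nat.add_mul_div_left _ _ (by decide), Nat.div_eq_of_lt l, zero_add]
    refine ⟨k, fun y hy => ?_⟩
    rw [Nat.testBit_or, Bool.or_eq_true, Nat.testBit_two_pow, decide_eq_true_eq] at hy
    exact hy.elim (h.2 y) fun e => ⟨_, k, e⟩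

/-- `g1 .. g4` generate `Sp₄(2)` -/
theorem sp_gen {p : ℕ → Prop} (h1 : p one) (hs : ∀ c, p c → ∀ i < 4, p (mm (gg i) c)) {y : ℕ}
    (hy : y < 65536) (h : sp4 y = true) : ∃ c, p c ∧ bk c = y := by
  have k := wlk_tab
  rw [frc_eq] at k
  refine wlk_inv hs _ _ _ ?_ y (alS_spec k hy h)
  rw [Nat.add_mul_mod_self_left, Nat.mod_eq_of_lt (by decide), Nat.add_mul_div_left _ _ (by decide),
    Nat.div_eq_of_lt (by decide), zero_add]
  refine ⟨h1, fun y hy => ?_⟩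
  rw [Nat.testBit_two_pow, decide_eq_true_eq] at hy
  exact ⟨_, h1, hy⟩

end Cfsg.Agent.FE
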