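/-
Vocabulary for groups with a 2-local subgroup `2^6 : Sp₆(2)` (see notes/FE.md).
-/
import Cfsg.Agent.FE.Code
import Cfsg.Agent.H42.SylIn
import Cfsg.Agent.H44.PGen

set_option autoImplicit false

namespace Cfsg.Agent.FE

open Subgroup H42

universe u

/-- number of `i < n` with `f i` -/
noncomputable def cnt (n : ℕ) (f : ℕ → Bool) : ℕ := Nat.rec 0 (fun i r => cond (f i) (r + 1) r) n

/-- the class of an involution code: 0 translation, 1 transposition, 2 the other lifts of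
transvections, 3, 4 type `a₂`, 5, 6 type `c₂`, 7 type `b₃` -/
noncomputable def ty (c : ℕ) : ℕ :=
  cond (Nat.beq (ln c) one) 0 (cond (isD c) 1
    (cond (Nat.beq (cnt 64 fun v => Nat.beq (ap6 c v) v) 32) 2
      (cond (Nat.beq (cnt 64 fun v => Nat.beq (ap6 c v) v) 8) 7
        (3 + cond (al 64 fun v => Nat.beq (b6 v (ap6 c v)) 0) 0 2 +
          cond (al 64 fun v => !Nat.beq (ap6 c v ^^^ v) (cl c 6)) 1 0))))

/-- class representatives, all in `E₉`; `rp 2 .. rp 6` are `jc 257 0, jc 16 0, jc 18 0, jc 272 0,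
jc 274 0` and `rp 7 = mm cx (jc 32 0)` -/
def rp (i : ℕ) : ℕ := [cz, cd, 173142982785, 36794548353, 311672455297, 37868290177, 312746197121,
  38959071361].getD i one

/-- the elementary abelian group `E₉ = 2^3 × 2^6` -/
noncomputable def isE (c : ℕ) : Bool :=
  tri c && Nat.beq (cl c 0) 1 && Nat.beq (cl c 1) 2 && Nat.beq (cl c 2) 4 &&
    Nat.beq (cl c 3 >>> 3) 1 && Nat.beq (cl c 4 >>> 3) 2 && Nat.beq (cl c 5 >>> 3) 4 &&
    Nat.blt (cl c 6) 8

/-- an involution of rank two of `U₄(2)`, the action of `mm (tv 2) (tv 4)` -/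
def f0 : ℕ := 1212621510624647050691585

/-- conjugation -/
abbrev cj {G : Type u} [Group G] (g x : G) : G := g * x * g⁻¹

/-- `N(A) / O = 2^6 : Sp₆(2)` in coordinates -/
structure St (G : Type u) [Group G] where
  A : Subgroup G
  O : Subgroup G
  κ : G → ℕ
  av : ℕ → G
  O_le : O ≤ normalizer (A : Set G)
  O_odd : Odd (Nat.card O)
  O_nm : ∀ n ∈ normalizer (A : Set G), ∀ o ∈ O, cj n o ∈ O
  κ_mul : ∀ g ∈ normalizer (A : Set G), ∀ h ∈ normalizer (A : Set G), κ (g * h) = mm (κ g) (κ h)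
  κ_ok : ∀ g ∈ normalizer (A : Set G), okc (κ g) = true
  κ_sur : ∀ c, okc c = true → ∃ g ∈ normalizer (A : Set G), κ g = c
  κ_ker : ∀ g ∈ normalizer (A : Set G), κ g = one ↔ g ∈ O
  av_mem : ∀ v, av v ∈ A
  av_sur : ∀ a ∈ A, ∃ v < 64, av v = a
  κ_av : ∀ v < 64, κ (av v) = tr v
  av_xor : ∀ v < 64, ∀ w < 64, av (v ^^^ w) = av v * av w
  cj_av : ∀ n ∈ normalizer (A : Set G), ∀ v < 64, cj n (av v) = av (ap6 (κ n) v)
  cen : ∀ g, (∀ a ∈ A, Commute g a) → ∃ a ∈ A, ∃ o ∈ O, g = a * o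
  card : Nat.card (normalizer (A : Set G)) = Nat.card O * (64 * 1451520)
  simp : ∀ Y : Subgroup G, Y ≤ normalizer (A : Set G) →
    (∀ n ∈ normalizer (A : Set G), ∀ y ∈ Y, cj n y ∈ Y) →
    (∀ y ∈ Y, ∀ a ∈ A, Commute y a) ∨ normalizer (A : Set G) ≤ Y ⊔ centralizer (A : Set G)

/-- with a Sylow 2-subgroup `S` of `N(A)` lying over the unitriangular codes -/
structure Fr (G : Type u) [Group G] extends St G where
  S : Subgroup G
  ι : ℕ → G
  S_tri : ∀ s ∈ S, tri (κ s) = true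
  ι_mem : ∀ c, tri c = true → ι c ∈ S
  κ_ι : ∀ c, tri c = true → κ (ι c) = c
  S_inj : ∀ s ∈ S, ∀ s' ∈ S, κ s = κ s' → s = s'
  S_card : Nat.card S = 32768
  S_syl : SylIn 2 S (normalizer (A : Set G))
  A_le : A ≤ S

namespace Fr

variable {G : Type u} [Group G] (F : Fr G)

abbrev N : Subgroup G := normalizer (F.A : Set G)
def z : G := F.ι cz
def d : G := F.ι cd
def a : G := F.ι ca
def x : G := F.ι cx
def w : G := F.ι cw
/-- `J = 2 × 2^{1+8}` -/
def J : Subgroup G := closure {g | g ∈ F.S ∧ isJ (F.κ g) = true}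
abbrev M : Subgroup G := normalizer (F.J : Set G)
/-- `O(C(J))` -/
def Y : Subgroup G := H44.Oppof 2 (centralizer (F.J : Set G))
abbrev H : Subgroup G := centralizer ({F.z} : Set G)
abbrev Cd : Subgroup G := centralizer ({F.d} : Set G)
/-- `O(C(z))` -/
def W : Subgroup G := H44.Oppof 2 F.H
/-- the preimage of `C = 2 × S₆` -/
def K : Subgroup G := (F.N ⊓ F.M) ⊔ F.Y
/-- its part centralising `d`, without `Y` -/
def K0 : Subgroup G := F.N ⊓ F.M ⊓ F.Cd
/-- coordinates on `J / ⟨z⟩` -/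
def π (g : G) : ℕ := pc (F.κ g)
def jv (v : ℕ) : G := F.ι (jc v 0)
/-- the action of `M` on `J / ⟨z⟩` -/
def ρ (g : G) : ℕ := pk9 fun i => F.π (cj g (F.jv (2 ^ i)))
/-- the class of `d` -/
def D (e : G) : Prop := ∃ g, cj g F.d = e
/-- the centre of `J` -/
def inZ (t : G) : Prop := t = 1 ∨ t = F.z ∨ t = F.d ∨ t = F.d * F.z
/-- `r` is the action of an element of `M ∩ C(d)` -/
def Rz (r : ℕ) : Prop := ∃ m ∈ F.M, Commute m F.d ∧ F.ρ m = r

/-- the case `M / J C(J) = W(E₆)` -/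
structure Tw (g : G) : Prop where
  mem : g ∈ F.M
  cd : Commute g F.d
  ρg : F.ρ g = cg
  cls : ∃ m ∈ F.M, g = F.a * cj m F.a
  dec : ∀ m ∈ F.M, ∃ k ∈ F.K0 ⊔ zpowers g, k⁻¹ * m ∈ F.K
  idx : F.K.relIndex F.M = 36

/-- a Sylow 2-subgroup `T` of `G` with `S ≤ T ≤ M` -/
structure Sy (T : Subgroup G) : Prop where
  le : F.S ≤ T
  leM : T ≤ F.M
  syl : SylIn 2 T ⊤
  in0 : ∀ t ∈ T, Commute t F.d → F.ρ t ∈ T0
  in1 : ∀ t ∈ T, ¬ Commute t F.d → m9 ab (F.ρ t) ∈ T0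
  TJ : ∀ t ∈ T, F.ρ t = I9 → t ∈ F.J
  zT : ∀ t ∈ T, (∀ s ∈ T, Commute t s) → t = 1 ∨ t = F.z
  wc : ∀ h ∈ F.H, (∀ j ∈ F.J, cj h j ∈ T) → h ∈ F.M
  sylR : SylIn 2 (T ⊓ F.Cd) F.Cd
  nd : ¬ F.D F.z

/-- the second case with its Sylow subgroup -/
structure Two (g : G) (T : Subgroup G) : Prop where
  tw : F.Tw g
  sy : F.Sy T
  sur : ∀ c ∈ T0, ∃ t ∈ T, Commute t F.d ∧ F.ρ t = c

/-- `E = ⟨D ∩ T⟩ = 2^10` -/
def E (T : Subgroup G) : Subgroup G := closure {e | F.D e ∧ e ∈ T}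

end Fr

section
variable {G : Type u} [Group G]

theorem cj_eq {g x : G} : cj g x = x ↔ Commute g x := mul_inv_eq_iff_eq_mul
theorem cj_mul (g x y : G) : cj g (x * y) = cj g x * cj g y := by simp [cj, mul_assoc]
theorem cj_cj (g h x : G) : cj g (cj h x) = cj (g * h) x := by simp [cj, mul_assoc]
theorem cj_inv (g x : G) : cj g⁻¹ (cj g x) = x := by simp [cj, mul_assoc]
theorem cj_inv' (g x : G) : cj g (cj g⁻¹ x) = x := by simp [cj, mul_assoc]
theorem cj_inj {g x y : G} : cj g x = cj g y ↔ x = y := by simp [cj]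
theorem cj_one (g : G) : cj g 1 = 1 := by simp [cj]
theorem cj_eq_one {g a : G} : cj g a = 1 ↔ a = 1 := by simp [cj]
theorem cj_iv (g x : G) : cj g x⁻¹ = (cj g x)⁻¹ := by simp [cj, mul_assoc]
theorem cj_sw (g h x : G) : cj (cj g h) (cj g x) = cj g (cj h x) := by simp [cj, mul_assoc]
theorem cj_comm {g x y : G} : Commute (cj g x) (cj g y) ↔ Commute x y := by
  rw [Commute, SemiconjBy, ← cj_mul, ← cj_mul, cj_inj]; rfl
theorem cj_sq {g x : G} (h : x * x = 1) : cj g x * cj g x = 1 := by rw [← cj_mul, h, cj_one]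
theorem cj_mem {P : Subgroup G} {g x : G} (hg : g ∈ P) (hx : x ∈ P) : cj g x ∈ P :=
  P.mul_mem (P.mul_mem hg hx) (P.inv_mem hg)
theorem cj_nm {P : Subgroup G} {g x : G} (hg : g ∈ normalizer (P : Set G)) (hx : x ∈ P) :
    cj g x ∈ P := (mem_normalizer_iff.1 hg x).1 hx
theorem mem_cen {a b : G} : a ∈ centralizer ({b} : Set G) ↔ Commute a b :=
  mem_centralizer_singleton_iff

/-- the index of `K` in `P` counts the values of a function whose fibres are the cosets -/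
theorem relIndex_eq_ncard {K P : Subgroup G} {α : Type*} (f : G → α)
    (h : ∀ a ∈ P, ∀ b ∈ P, f a = f b ↔ a⁻¹ * b ∈ K) : K.relIndex P = (f '' P).ncard := by
  rw [relIndex, index, ← Nat.card_coe_set_eq]
  refine Nat.card_congr (Equiv.ofBijective
    (Quotient.lift (fun a : P => (⟨f a, a, a.2, rfl⟩ : f '' P)) fun a b e =>
      Subtype.ext ((h a a.2 b b.2).2
        ((QuotientGroup.leftRel_apply (s := K.subgroupOf P)).1 e))) ⟨fun a b => ?_, ?_⟩)
  · induction a using Quotient.inductionOn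
    induction b using Quotient.inductionOn
    rename_i a b
    exact fun e => Quotient.sound ((QuotientGroup.leftRel_apply (s := K.subgroupOf P)).2
      ((h a a.2 b b.2).1 (congrArg Subtype.val e)))
  · rintro ⟨_, a, ha, rfl⟩
    exact ⟨Quotient.mk _ ⟨a, ha⟩, rfl⟩

end

end Cfsg.Agent.FE
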