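/-
The groups `N`, `S` and `J` in coordinates.
-/
import Cfsg.Agent.FE.Defs
import Cfsg.Agent.FE.BaseT
import Cfsg.Agent.H8.Dihedral

set_option autoImplicit false
set_option linter.unusedSectionVars false

namespace Cfsg.Agent.FE

open Subgroup H42

universe u

theorem zp2 {G : Type u} [Group G] {a x : G} (h : a * a = 1) (hx : x ∈ zpowers a) :
    x = 1 ∨ x = a := by
  obtain ⟨k, rfl⟩ := hx
  have : a ^ (2 : ℤ) = 1 := by rw [zpow_two, h]
  rcases Int.even_or_odd' k with ⟨m, rfl | rfl⟩ <;> simp [zpow_mul, zpow_add, this]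

namespace Fr

variable {G : Type u} [Group G] [Finite G] (F : Fr G)

/-! ### `N` and `S` -/
theorem S_le : F.S ≤ F.N := F.S_syl.le
theorem κ_one : F.κ 1 = one := (F.κ_ker 1 (one_mem _)).2 (one_mem _)
theorem κ_eq {g h : G} (hg : g ∈ F.N) (hh : h ∈ F.N) : F.κ g = F.κ h ↔ g * h⁻¹ ∈ F.O := by
  constructor
  · intro e
    rw [← F.κ_ker _ (mul_mem hg (inv_mem hh)), F.κ_mul _ hg _ (inv_mem hh), e,
      ← F.κ_mul _ hh _ (inv_mem hh), mul_inv_cancel, F.κ_one]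
  · intro e
    have h1 := F.κ_mul _ (F.O_le e) _ hh
    have h2 := F.κ_mul _ (one_mem _) _ hh
    rw [(F.κ_ker _ (F.O_le e)).2 e, inv_mul_cancel_right] at h1
    rw [one_mul, F.κ_one] at h2
    rw [h1, ← h2]
theorem ι_κ {s : G} (hs : s ∈ F.S) : F.ι (F.κ s) = s :=
  F.S_inj _ (F.ι_mem _ (F.S_tri s hs)) _ hs (F.κ_ι _ (F.S_tri s hs))
theorem ι_mul {c e : ℕ} (hc : tri c = true) (he : tri e = true) :
    F.ι (mm c e) = F.ι c * F.ι e := by
  rw [← F.ι_κ (mul_mem (F.ι_mem c hc) (F.ι_mem e he)),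
    F.κ_mul _ (F.S_le (F.ι_mem c hc)) _ (F.S_le (F.ι_mem e he)), F.κ_ι c hc, F.κ_ι e he]
theorem ι_one : F.ι one = 1 := by rw [← F.κ_one, F.ι_κ (one_mem _)]
theorem av_ι {v : ℕ} (hv : v < 64) : F.av v = F.ι (tr v) := by
  rw [← F.κ_av v hv, F.ι_κ (F.A_le (F.av_mem v))]
theorem av_inj {v w : ℕ} (hv : v < 64) (hw : w < 64) (h : F.av v = F.av w) : v = w := by
  have := congrArg F.κ h
  rw [F.κ_av v hv, F.κ_av w hw, tr, tr] at this
  omega
theorem O_cen {o a : G} (ho : o ∈ F.O) (ha : a ∈ F.A) : Commute o a := by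
  obtain ⟨v, hv, rfl⟩ := F.av_sur a ha
  rw [← cj_eq, F.cj_av _ (F.O_le ho) v hv, (F.κ_ker _ (F.O_le ho)).2 ho, ap6_one hv]
theorem O_ord {o : G} (ho : o ∈ F.O) : Odd (orderOf o) :=
  F.O_odd.of_dvd_nat (orderOf_dvd_natCard _ ho)
/-- involutions with the same code are conjugate -/
theorem conj_O {s t : G} (hs : s ∈ F.N) (ht : t ∈ F.N) (ss : s * s = 1) (tt : t * t = 1)
    (h : F.κ s = F.κ t) : ∃ o ∈ zpowers (s * t), o ∈ F.O ∧ cj o s = t := by
  have := (F.κ_eq hs ht).1 h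
  rw [inv_eq_of_mul_eq_one_right tt] at this
  obtain ⟨o, h1, h2⟩ := H8.exists_conj_of_odd ss tt (F.O_ord this)
  exact ⟨o, h1, zpowers_le.2 this h1, h2⟩
theorem z_av : F.z = F.av 1 := (F.av_ι (v := 1) (by decide)).symm
theorem w_av : F.w = F.av 2 := (F.av_ι (v := 2) (by decide)).symm
theorem a_av : F.a = F.av 32 := (F.av_ι (v := 32) (by decide)).symm
theorem tz : tri cz = true := by decide +kernel
theorem td : tri cd = true := by decide +kernel
theorem ta : tri ca = true := by decide +kernel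
theorem tx : tri cx = true := by decide +kernel
theorem tw : tri cw = true := by decide +kernel
theorem zS : F.z ∈ F.S := F.ι_mem _ tz
theorem dS : F.d ∈ F.S := F.ι_mem _ td
theorem aS : F.a ∈ F.S := F.ι_mem _ ta
theorem xS : F.x ∈ F.S := F.ι_mem _ tx
theorem wS : F.w ∈ F.S := F.ι_mem _ tw
theorem κz : F.κ F.z = cz := F.κ_ι _ tz
theorem κd : F.κ F.d = cd := F.κ_ι _ td
theorem κa : F.κ F.a = ca := F.κ_ι _ ta
theorem κx : F.κ F.x = cx := F.κ_ι _ tx
theorem κw : F.κ F.w = cw := F.κ_ι _ tw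
theorem κS {s t : G} (hs : s ∈ F.S) (ht : t ∈ F.S) : F.κ (s * t) = mm (F.κ s) (F.κ t) :=
  F.κ_mul _ (F.S_le hs) _ (F.S_le ht)
theorem ι_sq {c : ℕ} (hc : tri c = true) (h : mm c c = one) : F.ι c * F.ι c = 1 := by
  rw [← F.ι_mul hc hc, h, F.ι_one]
theorem ι_comm {c e : ℕ} (hc : tri c = true) (he : tri e = true) (h : mm c e = mm e c) :
    Commute (F.ι c) (F.ι e) := by
  rw [Commute, SemiconjBy, ← F.ι_mul hc he, h, F.ι_mul he hc]
theorem zz : F.z * F.z = 1 := F.ι_sq tz (by decide +kernel)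
theorem dd : F.d * F.d = 1 := F.ι_sq td (by decide +kernel)
theorem aa : F.a * F.a = 1 := F.ι_sq ta (by decide +kernel)
theorem xx : F.x * F.x = 1 := F.ι_sq tx (by decide +kernel)
theorem ww : F.w * F.w = 1 := F.ι_sq tw (by decide +kernel)
theorem z_ne : F.z ≠ 1 := fun h => absurd (F.κz.symm.trans (h ▸ F.κ_one)) (by decide)
theorem d_ne : F.d ≠ 1 := fun h => absurd (F.κd.symm.trans (h ▸ F.κ_one)) (by decide)
theorem dz_ne : F.d ≠ F.z := fun h => absurd (F.κd.symm.trans (h ▸ F.κz)) (by decide)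
theorem ad : cj F.a F.d = F.d * F.z := by
  rw [cj, mul_inv_eq_iff_eq_mul]
  apply F.S_inj _ (mul_mem F.aS F.dS) _ (mul_mem (mul_mem F.dS F.zS) F.aS)
  rw [F.κS F.aS F.dS, F.κS (mul_mem F.dS F.zS) F.aS, F.κS F.dS F.zS, F.κa, F.κd, F.κz]
  decide +kernel
theorem ax : Commute F.a F.x := F.ι_comm ta tx (by decide +kernel)
theorem xd : Commute F.x F.d := F.ι_comm tx td (by decide +kernel)
theorem fz_iff {n : G} (hn : n ∈ F.N) : Commute n F.z ↔ cl (F.κ n) 0 = 1 := by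
  rw [← cj_eq, F.z_av, F.cj_av n hn 1 (by decide), ← ap6_pow (F.κ n) (by decide : 0 < 6)]
  exact ⟨F.av_inj (ap6_lt _ _) (by decide), fun h => congrArg _ h⟩
theorem S_z {s : G} (hs : s ∈ F.S) : Commute s F.z :=
  (F.fz_iff (F.S_le hs)).2 (tri_cl (F.S_tri s hs) (by decide : 0 < 6))

/-! ### `J` -/
theorem jc_tri {v e : ℕ} (hv : v < 512) (he : e < 2) : tri (jc v e) = true := (jc_spec hv he).1
theorem π_lt (g : G) : F.π g < 512 := pc_lt _
theorem ι_jc {v : ℕ} (hv : v < 512) : F.ι (jc v 1) = F.jv v * F.z := by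
  rw [(jc_spec hv (by decide : 0 < 2)).2.2.2.2.1, F.ι_mul (jc_spec hv (by decide)).1 tz]; rfl
theorem tgj {i : ℕ} (hi : i < 10) : tri (gj i) = true ∧ mm (gj i) (gj i) = one := by
  revert i; decide +kernel

/-- the elements of `J` -/
def JP (g : G) : Prop := g ∈ F.S ∧ isJ (F.κ g) = true

theorem JP_gen {j : G} (hj : F.JP j) {i : ℕ} (hi : i < 10) :
    F.JP (j * F.ι (gj i)) ∧ F.π (j * F.ι (gj i)) = F.π j ^^^ 2 ^ i % 512 := by
  have h := al_spec (al_spec (al_spec jc_gen (pc_lt (F.κ j)))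
    (Nat.mod_lt (cl (F.κ j) 6) two_pos)) hi
  rw [← isJ_eq hj.2, Bool.and_eq_true, Nat.beq_eq] at h
  have hg := F.ι_mem _ (tgj hi).1
  rw [JP, π, F.κS hj.1 hg, F.κ_ι _ (tgj hi).1]
  exact ⟨⟨mul_mem hj.1 hg, h.1⟩, h.2⟩

theorem JP_one : F.JP 1 := ⟨one_mem _, by rw [F.κ_one]; decide +kernel⟩

theorem JP_eq {j : G} (hj : F.JP j) : j = F.jv (F.π j) ∨ j = F.jv (F.π j) * F.z := by
  have h := F.ι_κ hj.1
  rw [isJ_eq hj.2] at h
  rcases Nat.mod_two_eq_zero_or_one (cl (F.κ j) 6) with e | e <;> rw [e] at h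
  · exact .inl h.symm
  · exact .inr (h.symm.trans (F.ι_jc (pc_lt _)))

theorem jv_zero : F.jv 0 = 1 := F.ι_one

theorem JP_ind {p : G → Prop} (h1 : p 1)
    (hs : ∀ j, F.JP j → p j → ∀ i < 10, p (j * F.ι (gj i))) {j : G} (hj : F.JP j) : p j := by
  induction hn : F.π j using Nat.strong_induction_on generalizing j with
  | _ v ih =>
    by_cases v0 : v = 0
    · rcases F.JP_eq hj with e | e <;> rw [hn, v0, F.jv_zero] at e <;> rw [e]
      · exact h1
      · exact hs 1 F.JP_one h1 9 (by decide)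
    · have : ∀ v < 512, v ≠ 0 → ∃ i < 9, v ^^^ 2 ^ i % 512 < v := by decide +kernel
      obtain ⟨i, hi, h⟩ := this v (hn ▸ F.π_lt j) v0
      have hi' : i < 10 := by omega
      obtain ⟨h2, h3⟩ := F.JP_gen hj hi'
      have := hs _ h2 (ih _ h h2 (hn ▸ h3)) i hi'
      rwa [mul_assoc, F.ι_sq (tgj hi').1 (tgj hi').2, mul_one] at this

theorem JP_mul {j k : G} (hj : F.JP j) (hk : F.JP k) :
    F.JP (j * k) ∧ F.π (j * k) = F.π j ^^^ F.π k := by
  refine F.JP_ind (p := fun k => F.JP (j * k) ∧ F.π (j * k) = F.π j ^^^ F.π k) ?_ ?_ hk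
  · rw [mul_one, π, π, F.κ_one]
    exact ⟨hj, (Nat.xor_zero _).symm⟩
  · intro k hk ⟨h1, h2⟩ i hi
    rw [← mul_assoc, (F.JP_gen h1 hi).2, (F.JP_gen hk hi).2, h2, Nat.xor_assoc]
    exact ⟨(F.JP_gen h1 hi).1, rfl⟩

theorem JP_sq {j : G} (hj : F.JP j) : j * j = if q9 (F.π j) = 0 then 1 else F.z := by
  have h := (jc_spec (pc_lt (F.κ j)) (Nat.mod_lt (cl (F.κ j) 6) two_pos)).2.2.2.1
  rw [← isJ_eq hj.2] at h
  rw [← F.ι_κ (mul_mem hj.1 hj.1), F.κS hj.1 hj.1, h, π]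
  split_ifs
  exacts [F.ι_one, rfl]

theorem JP_z : F.JP F.z := ⟨F.zS, by rw [F.κz]; decide +kernel⟩

theorem mem_J {g : G} : g ∈ F.J ↔ g ∈ F.S ∧ isJ (F.κ g) = true := by
  refine ⟨fun h => ?_, fun h => subset_closure h⟩
  induction h using closure_induction with
  | mem x h => exact h
  | one => exact F.JP_one
  | mul x y _ _ h1 h2 => exact (F.JP_mul h1 h2).1
  | inv x _ h =>
    have := F.JP_sq h
    split_ifs at this
    · rwa [inv_eq_of_mul_eq_one_right this]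
    · rw [inv_eq_of_mul_eq_one_right (by rw [← mul_assoc, this, F.zz] : x * (x * F.z) = 1)]
      exact (F.JP_mul h F.JP_z).1
theorem J_le : F.J ≤ F.S := fun _ h => (F.mem_J.1 h).1
theorem ι_J {v e : ℕ} (hv : v < 512) (he : e < 2) : F.ι (jc v e) ∈ F.J :=
  F.mem_J.2 ⟨F.ι_mem _ (jc_spec hv he).1, by
    rw [F.κ_ι _ (jc_spec hv he).1]; exact (jc_spec hv he).2.1⟩
theorem π_ι {v e : ℕ} (hv : v < 512) (he : e < 2) : F.π (F.ι (jc v e)) = v := by
  rw [π, F.κ_ι _ (jc_spec hv he).1]; exact (jc_spec hv he).2.2.1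
theorem jv_mem {v : ℕ} (hv : v < 512) : F.jv v ∈ F.J := F.ι_J hv two_pos
theorem π_jv {v : ℕ} (hv : v < 512) : F.π (F.jv v) = v := F.π_ι hv two_pos
theorem π_mul {j k : G} (hj : j ∈ F.J) (hk : k ∈ F.J) : F.π (j * k) = F.π j ^^^ F.π k :=
  (F.JP_mul (F.mem_J.1 hj) (F.mem_J.1 hk)).2
theorem π_one : F.π 1 = 0 := by rw [π, F.κ_one]; decide +kernel
theorem π_inv {j : G} (hj : j ∈ F.J) : F.π j⁻¹ = F.π j := by
  have := F.π_mul (inv_mem hj) hj
  rw [inv_mul_cancel, F.π_one] at this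
  exact Nat.xor_eq_zero_iff.1 this.symm
theorem J_eq {j : G} (hj : j ∈ F.J) : j = F.jv (F.π j) ∨ j = F.jv (F.π j) * F.z :=
  F.JP_eq (F.mem_J.1 hj)
theorem zJ : F.z ∈ F.J := F.mem_J.2 F.JP_z
theorem dJ : F.d ∈ F.J := F.mem_J.2 ⟨F.dS, by rw [F.κd]; decide +kernel⟩
theorem wJ : F.w ∈ F.J := F.mem_J.2 ⟨F.wS, by rw [F.κw]; decide +kernel⟩
theorem πz : F.π F.z = 0 := by rw [π, F.κz]; decide +kernel
theorem πd : F.π F.d = 256 := by rw [π, F.κd]; decide +kernel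
theorem πw : F.π F.w = 1 := by rw [π, F.κw]; decide +kernel
theorem π_zero {j : G} (hj : j ∈ F.J) : F.π j = 0 ↔ j = 1 ∨ j = F.z := by
  refine ⟨fun h => by simpa [h, F.jv_zero] using F.J_eq hj, ?_⟩
  rintro (rfl | rfl)
  exacts [F.π_one, F.πz]
theorem jv_d : F.jv 256 = F.d := congrArg F.ι (by decide +kernel)
theorem π_Z {j : G} (hj : j ∈ F.J) : F.π j % 256 = 0 ↔ F.inZ j := by
  constructor
  · intro h
    have := F.π_lt j
    rcases (by omega : F.π j = 0 ∨ F.π j = 256) with e | e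
    · rcases (F.π_zero hj).1 e with e | e
      exacts [.inl e, .inr (.inl e)]
    · have := F.J_eq hj
      rw [e, F.jv_d] at this
      exact .inr (.inr this)
  · rintro (rfl | rfl | rfl | rfl) <;> simp [F.π_one, F.πz, F.πd, F.π_mul F.dJ F.zJ]
theorem sq_J {j : G} (hj : j ∈ F.J) : j * j = if q9 (F.π j) = 0 then 1 else F.z :=
  F.JP_sq (F.mem_J.1 hj)
theorem cj_J {j k : G} (hj : j ∈ F.J) (hk : k ∈ F.J) :
    cj j k = if B9 (F.π j) (F.π k) = 0 then k else F.z * k := by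
  have h1 := F.sq_J hj
  have h2 := F.sq_J hk
  have h3 := F.sq_J (mul_mem hj hk)
  rw [F.π_mul hj hk, q9_xor] at h3
  have e : cj j k = j * k * (j * k) * (k * k)⁻¹ * (k * (j * j)⁻¹ * k⁻¹) * k := by
    unfold cj; group
  have zk : k * F.z * k⁻¹ = F.z := cj_eq.2 (F.S_z (F.J_le hk))
  have := q9_lt (F.π j)
  have := q9_lt (F.π k)
  have := B9_lt (F.π j) (F.π k)
  have zi : F.z⁻¹ = F.z := inv_eq_of_mul_eq_one_right F.zz
  rw [e, h1, h2, h3]
  split_ifs <;> first | omega | simp [zk, F.zz, zi]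
theorem comm_J {j k : G} (hj : j ∈ F.J) (hk : k ∈ F.J) :
    Commute j k ↔ B9 (F.π j) (F.π k) = 0 := by
  rw [← cj_eq, F.cj_J hj hk]
  split_ifs with h <;> simp [h, F.z_ne]
theorem J_d {j : G} (hj : j ∈ F.J) : Commute j F.d := by
  rw [F.comm_J hj F.dJ, F.πd]
  exact (by decide +kernel : ∀ v < 512, B9 v 256 = 0) _ (F.π_lt j)
theorem card_J : Nat.card F.J = 1024 := by
  have : Nat.card (Fin 512 × Fin 2) = 1024 := by simp
  rw [← this]
  refine (Nat.card_congr (Equiv.ofBijective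
    (fun p : Fin 512 × Fin 2 => (⟨F.ι (jc p.1 p.2), F.ι_J p.1.2 p.2.2⟩ : F.J)) ⟨?_, ?_⟩)).symm
  · rintro ⟨v, e⟩ ⟨w, f⟩ h
    have h := congrArg Subtype.val h
    have h1 : v = w := Fin.ext (by simpa [F.π_ι v.2 e.2, F.π_ι w.2 f.2] using congrArg F.π h)
    subst h1
    have n : F.ι (jc v 0) ≠ F.ι (jc v 1) := by
      rw [F.ι_jc v.2]; simpa [jv] using F.z_ne
    fin_cases e <;> fin_cases f
    exacts [rfl, absurd h n, absurd h.symm n, rfl]
  · rintro ⟨j, hj⟩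
    refine ⟨(⟨_, pc_lt (F.κ j)⟩, ⟨_, Nat.mod_lt (cl (F.κ j) 6) two_pos⟩), Subtype.ext ?_⟩
    show F.ι (jc _ _) = j
    rw [← isJ_eq (F.mem_J.1 hj).2, F.ι_κ (F.J_le hj)]

/-- abelian subgroups of `J` have order at most 64 -/
theorem ab_J {P : Subgroup G} (hP : P ≤ F.J) (h : ∀ p ∈ P, ∀ q ∈ P, Commute p q) :
    Nat.card P ≤ 64 := by
  classical
  have := Fintype.ofFinite P
  have := Fintype.ofFinite F.J
  let χ : G → G → ℤ := fun p j => (-1) ^ B9 (F.π p) (F.π j)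
  have χc : ∀ p j, χ p j = χ j p := fun p j => by simp only [χ, B9_comm]
  have χ1 : ∀ j, χ 1 j = 1 := fun j => by simp [χ, F.π_one, B9, b4, bt]
  have χm : ∀ p ∈ F.J, ∀ q ∈ F.J, ∀ j, χ (p * q) j = χ p j * χ q j := fun p hp q hq j => by
    simp only [χ]
    rw [F.π_mul hp hq, B9_xor, ← neg_one_pow_eq_pow_mod_two, pow_add]
  let f : ∀ Q : Subgroup G, Q ≤ F.J → G → Q →* ℤ := fun Q hQ j =>
    ⟨⟨fun p => χ p j, χ1 j⟩, fun p q => χm _ (hQ p.2) _ (hQ q.2) j⟩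
  have s1 : ∀ j : F.J, (if (j : G) ∈ P then (Fintype.card P : ℤ) else 0) ≤ ∑ p : P, χ p j := by
    intro j
    split_ifs with hj
    · have : ∀ p : P, χ p j = 1 := fun p => by
        simp [χ, (F.comm_J (hP p.2) j.2).1 (h _ p.2 _ hj)]
      simp [this]
    · have := sum_hom_units (f P hP j)
      change ∑ p : P, χ p j = _ at this
      rw [this]; split_ifs <;> simp
  have s2 : ∀ p : P, ∑ j : F.J, χ p j ≤
      if (p : G) ∈ ({1, F.z, F.d, F.d * F.z} : Finset G) then 1024 else 0 := by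
    intro p
    have := sum_hom_units (f F.J le_rfl p)
    change ∑ j : F.J, χ j p = _ at this
    simp only [χc p]
    rw [this, ← Nat.card_eq_fintype_card, F.card_J]
    split_ifs with h1 h2 <;> try simp
    refine h2 ?_
    have k : ∀ v < 512, (∀ i < 8, (-1 : ℤ) ^ B9 (2 ^ i) v = 1) → v % 256 = 0 := by decide +kernel
    have := (F.π_Z (hP p.2)).1 (k _ (F.π_lt p) fun i hi => by
      have l : 2 ^ i < 512 := Nat.pow_lt_pow_right (a := 2) (n := 9) (by decide) (by omega)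
      have := DFunLike.congr_fun h1 ⟨F.jv (2 ^ i), F.jv_mem l⟩
      change (-1) ^ B9 (F.π (F.jv _)) _ = _ at this
      rwa [F.π_jv l] at this)
    simpa [inZ] using this
  have t1 := Finset.sum_le_sum fun (j : F.J) (_ : j ∈ Finset.univ) => s1 j
  have t2 := Finset.sum_le_sum fun (p : P) (_ : p ∈ Finset.univ) => s2 p
  rw [Finset.sum_comm] at t2
  rw [← Finset.sum_filter, Finset.sum_const] at t1 t2
  have c1 : Fintype.card P ≤ (Finset.univ.filter fun j : F.J => (j : G) ∈ P).card :=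
    Finset.card_le_card_of_injOn (fun p => ⟨p, hP p.2⟩) (fun p _ => by simp)
      fun p _ q _ e => Subtype.ext (congrArg Subtype.val e :)
  have c2 : (Finset.univ.filter fun p : P =>
      (p : G) ∈ ({1, F.z, F.d, F.d * F.z} : Finset G)).card ≤ 4 :=
    (Finset.card_le_card_of_injOn (t := {1, F.z, F.d, F.d * F.z}) Subtype.val
      (fun p hp => by simpa using hp) Subtype.val_injective.injOn).trans Finset.card_le_four
  have t := t1.trans t2
  simp only [nsmul_eq_mul] at t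
  rw [Nat.card_eq_fintype_card]
  have t' : (Finset.univ.filter fun j : F.J => (j : G) ∈ P).card * Fintype.card P ≤
    (Finset.univ.filter fun p : P =>
      (p : G) ∈ ({1, F.z, F.d, F.d * F.z} : Finset G)).card * 1024 := by exact_mod_cast t
  nlinarith

/-- the involutions of `a J` lie in `A` -/
theorem aJ_inv {j : G} (hj : j ∈ F.J) (h : F.a * j * (F.a * j) = 1) : F.a * j ∈ F.A := by
  have hs := mul_mem F.aS (F.J_le hj)
  have k := (jc_spec (pc_lt (F.κ j)) (Nat.mod_lt (cl (F.κ j) 6) two_pos)).2.2.2.2.2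
  rw [← isJ_eq (F.mem_J.1 hj).2, ← F.κa, ← F.κS F.aS (F.J_le hj), ← F.κS hs hs, h, F.κ_one] at k
  rw [← F.ι_κ hs, k rfl, ← F.av_ι (cl_lt _ _)]
  exact F.av_mem _

end Fr

end Cfsg.Agent.FE
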