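/-
The normaliser `M` and the centraliser `Z × Y` of `J`, the action `ρ`.
-/
import Cfsg.Agent.FE.BaseA

set_option autoImplicit false
set_option linter.unusedSectionVars false

namespace Cfsg.Agent.FE

open Subgroup H42

universe u

theorem mem_of_sq {G : Type u} [Group G] {P : Subgroup G} {o : G} (h : Odd (orderOf o))
    (h2 : o * o ∈ P) : o ∈ P := by
  obtain ⟨k, hk⟩ := h
  have : o = (o * o) ^ (k + 1) := by
    rw [← pow_two, ← pow_mul, show 2 * (k + 1) = 2 * k + 1 + 1 by ring, ← hk, pow_succ,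
      pow_orderOf_eq_one, one_mul]
  exact this ▸ pow_mem h2 _

theorem eq_one_of_odd {G : Type u} [Group G] {o : G} (h : Odd (orderOf o)) {n : ℕ}
    (h2 : o ^ 2 ^ n = 1) : o = 1 :=
  orderOf_eq_one_iff.1 (((Nat.coprime_two_right.2 h).pow_right n).eq_one_of_dvd
    (orderOf_dvd_of_pow_eq_one h2))

theorem two_zp {G : Type u} [Group G] {g : G} {n : ℕ} (h2 : g ^ 2 ^ n = 1) :
    IsPGroup 2 (zpowers g) := by
  obtain ⟨k, -, hk⟩ := (Nat.dvd_prime_pow Nat.prime_two).1 (orderOf_dvd_of_pow_eq_one h2)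
  exact .of_card (by rw [Nat.card_zpowers, hk])

namespace Fr

variable {G : Type u} [Group G] [Finite G] (F : Fr G)

theorem S_pow {s : G} (hs : s ∈ F.S) : ∃ n, s ^ 2 ^ n = 1 := by
  obtain ⟨n, h⟩ := F.S_syl.isP ⟨s, hs⟩
  exact ⟨n, congrArg Subtype.val h⟩
theorem OS {o : G} (ho : o ∈ F.O) (hs : o ∈ F.S) : o = 1 :=
  (F.S_pow hs).elim fun _ h => eq_one_of_odd (F.O_ord ho) h
theorem J_two : IsPGroup 2 F.J := F.S_syl.isP.to_le F.J_le
theorem JN : F.J ≤ F.N := F.J_le.trans F.S_le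
theorem A_N {a : G} (ha : a ∈ F.A) : a ∈ F.N := F.S_le (F.A_le ha)
theorem κ_cj {n j : G} (hn : n ∈ F.N) (hj : j ∈ F.N) :
    mm (F.κ (cj n j)) (F.κ n) = mm (F.κ n) (F.κ j) := by
  rw [← F.κ_mul _ (cj_mem hn hj) _ hn, ← F.κ_mul _ hn _ hj, cj, inv_mul_cancel_right]

theorem av_half {u v : ℕ} (hu : u < 64) (hv : v < 64) :
    u / 2 = v / 2 ↔ F.av u = F.av v ∨ F.av u = F.av v * F.z := by
  have k : ∀ u < 64, ∀ v < 64, u / 2 = v / 2 ↔ u = v ∨ u = v ^^^ 1 := by decide +kernel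
  rw [k u hu v hv, F.z_av, ← F.av_xor v hv 1 (by decide)]
  have l : v ^^^ 1 < 64 := Nat.xor_lt_two_pow (n := 6) hv (by decide)
  exact ⟨fun h => h.imp (congrArg _) (congrArg _), fun h => h.imp (F.av_inj hu hv) (F.av_inj hu l)⟩

theorem cl_av {n : G} (hn : n ∈ F.N) {i : ℕ} (hi : i < 6) :
    cj n (F.av (2 ^ i)) = F.av (cl (F.κ n) i) := by
  rw [F.cj_av n hn _ (Nat.pow_lt_pow_right (a := 2) (n := 6) (by decide) hi), ap6_pow _ hi]

/-- recognising the codes of `J` -/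
theorem isJ_N {n : G} (hn : n ∈ F.N) (hz : Commute n F.z)
    (h : ∀ i < 4, cj n (F.av (2 ^ (i + 1))) = F.av (2 ^ (i + 1)) ∨
      cj n (F.av (2 ^ (i + 1))) = F.av (2 ^ (i + 1)) * F.z) (h6 : cl (F.κ n) 6 < 32) :
    isJ (F.κ n) = true := by
  have k : ∀ i < 4, cl (F.κ n) (i + 1) / 2 = 2 ^ (i + 1) / 2 := fun i hi => by
    rw [F.av_half (cl_lt _ _) (Nat.pow_lt_pow_right (a := 2) (n := 6) (by decide) (by omega)),
      ← F.cl_av hn (by omega)]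
    exact h i hi
  exact isJ_of (F.κ_ok n hn) ((F.fz_iff hn).1 hz) (k 0 (by decide)) (k 1 (by decide))
    (k 2 (by decide)) (k 3 (by decide)) h6

theorem isJ_cj {n j : G} (hn : n ∈ F.N) (hz : Commute n F.z) (hj : j ∈ F.N)
    (h : isJ (F.κ j) = true) : isJ (F.κ (cj n j)) = true := by
  obtain ⟨h0, h1, h2, h3, h4, h6⟩ := jc_cl (pc (F.κ j)) (Nat.mod_lt (cl (F.κ j) 6) two_pos)
  rw [← isJ_eq h] at h0 h1 h2 h3 h4 h6
  have jz : Commute (cj n j) F.z := by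
    rw [← cj_eq.2 hz, cj_comm]; exact (F.fz_iff hj).2 h0
  have hj' := cj_mem hn hj
  refine F.isJ_N hj' jz (fun i hi => ?_) ?_
  · have n0 := (F.fz_iff (inv_mem hn)).1 hz.inv_left
    have l := (col_lt (F.κ_ok _ (inv_mem hn)) n0).1 (i + 1) (by omega)
    have e := F.cl_av (inv_mem hn) (by omega : i + 1 < 6)
    have := (F.av_half (ap6_lt _ _) (cl_lt _ _)).1 (ap6_half h0 h1 h2 h3 h4 l)
    rw [← F.cj_av j hj _ (cl_lt _ _), ← e] at this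
    rw [← cj_inv' n (F.av _), cj_sw]
    refine this.imp (congrArg _) fun e => ?_
    rw [e, cj_mul, cj_eq.2 hz]
  · have e := congrArg (fun c => bt (cl c 6) 5) (F.κ_cj hn hj)
    simp only [(cl_mm _ _).2.2.2.2.2.2, bt_xor, ap6_bt5 (F.κ_ok _ hn) ((F.fz_iff hn).1 hz),
      ap6_bt5 (F.κ_ok _ hj') ((F.fz_iff hj').1 jz)] at e
    rw [Nat.xor_comm, Nat.xor_left_inj, bt5 (cl_lt _ _), bt5 (cl_lt _ _)] at e
    omega

theorem S_M : F.S ≤ F.M := fun _ hs => mem_normalizer_of_conj_mem fun _ hj =>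
  F.mem_J.2 ⟨cj_mem hs (F.J_le hj), F.isJ_cj (F.S_le hs) (F.S_z hs) (F.JN hj) (F.mem_J.1 hj).2⟩
theorem J_M : F.J ≤ F.M := le_normalizer
theorem aM : F.a ∈ F.M := F.S_M F.aS
theorem M_z {m : G} (hm : m ∈ F.M) : Commute m F.z := by
  have hj := F.jv_mem (v := 129) (by decide)
  have h := F.sq_J hj
  rw [F.π_jv (by decide), if_neg (by decide)] at h
  have h' := F.sq_J (cj_nm hm hj)
  rw [← cj_mul, h] at h'
  split_ifs at h'
  exacts [absurd (cj_eq_one.1 h') F.z_ne, cj_eq.1 h']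
theorem J_z {j : G} (hj : j ∈ F.J) : Commute j F.z := F.S_z (F.J_le hj)
theorem inZ_of {t : G} (ht : t ∈ F.J) (h : ∀ j ∈ F.J, Commute t j) : F.inZ t := by
  have k : ∀ v < 512, (∀ i < 8, B9 v (2 ^ i) = 0) → v % 256 = 0 := by decide +kernel
  refine (F.π_Z ht).1 (k _ (F.π_lt t) fun i hi => ?_)
  have l : 2 ^ i < 512 := Nat.pow_lt_pow_right (a := 2) (n := 9) (by decide) (by omega)
  rw [← F.π_jv l]
  exact (F.comm_J ht (F.jv_mem l)).1 (h _ (F.jv_mem l))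
theorem M_d {m : G} (hm : m ∈ F.M) : cj m F.d = F.d ∨ cj m F.d = F.d * F.z := by
  rcases F.inZ_of (cj_nm hm F.dJ) fun j hj => by
    rw [← cj_inv' m j, cj_comm]; exact (F.J_d (cj_nm (inv_mem hm) hj)).symm with h | h | h | h
  · exact absurd (cj_eq_one.1 h) F.d_ne
  · rw [← cj_eq.2 (F.M_z hm), cj_inj] at h; exact absurd h F.dz_ne
  exacts [.inl h, .inr h]
variable {F} in
theorem inZ.mem {t : G} (h : F.inZ t) : t ∈ F.J := by
  rcases h with rfl | rfl | rfl | rfl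
  exacts [one_mem _, F.zJ, F.dJ, mul_mem F.dJ F.zJ]
variable {F} in
theorem inZ.comm {t g : G} (h : F.inZ t) (hz : Commute g F.z) (hd : Commute g F.d) :
    Commute g t := by
  rcases h with rfl | rfl | rfl | rfl
  exacts [.one_right _, hz, hd, hd.mul_right hz]
variable {F} in
theorem inZ.sq {t : G} (h : F.inZ t) : t * t = 1 := by
  rw [F.sq_J h.mem, if_pos]
  exact (by decide +kernel : ∀ v < 512, v % 256 = 0 → q9 v = 0) _ (F.π_lt _) ((F.π_Z h.mem).2 h)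
theorem a_nd : ¬ Commute F.a F.d := fun h => F.z_ne (by simpa [F.ad] using cj_eq.2 h)
theorem Y_odd : Odd (Nat.card F.Y) := Nat.coprime_two_right.1 (H44.pPrimeCoreOf_coprime _)
theorem Y_ord {y : G} (hy : y ∈ F.Y) : Odd (orderOf y) :=
  F.Y_odd.of_dvd_nat (orderOf_dvd_natCard _ hy)
theorem Y_cen {y j : G} (hy : y ∈ F.Y) (hj : j ∈ F.J) : Commute y j :=
  (H44.Oppof_le _ hy j hj).symm
theorem Y_M : F.Y ≤ F.M := (H44.Oppof_le _).trans (centralizer_le_normalizer _)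
theorem M_NY : F.M ≤ normalizer (F.Y : Set G) :=
  (normalizer_le_normalizer_centralizer _).trans (H44.normalizer_le_normalizer_pPrimeCoreOf _)
theorem Y_nm {m y : G} (hm : m ∈ F.M) (hy : y ∈ F.Y) : cj m y ∈ F.Y := cj_nm (F.M_NY hm) hy
theorem YS {y : G} (hy : y ∈ F.Y) (hs : y ∈ F.S) : y = 1 :=
  (F.S_pow hs).elim fun _ h => eq_one_of_odd (F.Y_ord hy) h

theorem av_J {v : ℕ} (hv : v < 32) : F.av v ∈ F.J :=
  F.mem_J.2 ⟨F.A_le (F.av_mem v), by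
    rw [F.κ_av v (by omega)]; exact (by decide +kernel : ∀ v < 32, isJ (tr v) = true) v hv⟩
theorem av_sq {a : G} (ha : a ∈ F.A) : a * a = 1 := by
  obtain ⟨v, hv, rfl⟩ := F.av_sur a ha
  rw [← F.av_xor v hv v hv, Nat.xor_self, F.av_ι (by decide)]
  exact F.ι_one
theorem aA : F.a ∈ F.A := F.a_av ▸ F.av_mem _

/-- the normaliser of `J ⟨a⟩` normalises `A` -/
theorem mem_N {m : G} (hm : m ∈ F.M) (h : F.a * cj m F.a ∈ F.J) : m ∈ F.N := by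
  have k : ∀ j ∈ F.J, F.a * j ∈ F.A → cj m (F.a * j) ∈ F.A := fun j hj ha => by
    have e : cj m (F.a * j) = F.a * (F.a * cj m F.a * cj m j) := by
      rw [cj_mul, ← mul_assoc F.a, ← mul_assoc F.a, F.aa, one_mul]
    rw [e]
    exact F.aJ_inv (mul_mem h (cj_nm hm hj)) (e ▸ cj_sq (F.av_sq ha))
  have l : ∀ v < 32, cj m (F.a * F.av v) ∈ F.A := fun v hv =>
    k _ (F.av_J hv) (mul_mem F.aA (F.av_mem v))
  refine mem_normalizer_of_conj_mem fun b hb => ?_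
  obtain ⟨v, hv, rfl⟩ := F.av_sur b hb
  by_cases h : v < 32
  · have := mul_mem (k 1 (one_mem _) (by simpa using F.aA)) (l v h)
    rwa [← cj_mul, mul_one, ← mul_assoc, F.aa, one_mul] at this
  · have := l (v - 32) (by omega)
    rwa [F.a_av, ← F.av_xor _ (by decide) _ (by omega),
      (by decide +kernel : ∀ v < 64, ¬ v < 32 → 32 ^^^ (v - 32) = v) v hv h] at this

theorem cl6_d {n : G} (hn : n ∈ F.N) (h : Commute n F.d) : cl (F.κ n) 6 < 32 := by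
  have e := congrArg (fun c => cl c 6) (F.κ_cj hn (F.JN F.dJ))
  simp only [cj_eq.2 h, F.κd, (cl_mm _ _).2.2.2.2.2.2, (by decide : cl cd 6 = 0), ap6_zero,
    Nat.xor_zero, Nat.zero_xor] at e
  exact (by decide +kernel : ∀ t < 64, ap6 cd t = t → t < 32) _ (cl_lt _ _) e

theorem J_κ {n : G} (hn : n ∈ F.N) (h : isJ (F.κ n) = true) :
    ∃ j ∈ F.J, n * j⁻¹ ∈ F.O := by
  have ht : tri (F.κ n) = true := by
    rw [isJ_eq h]; exact jc_tri (pc_lt _) (Nat.mod_lt _ two_pos)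
  have hs := F.ι_mem _ ht
  exact ⟨_, F.mem_J.2 ⟨hs, by rwa [F.κ_ι _ ht]⟩, (F.κ_eq hn (F.S_le hs)).1 (F.κ_ι _ ht).symm⟩

theorem OM_cen {o j : G} (ho : o ∈ F.O) (hm : o ∈ F.M) (hj : j ∈ F.J) : Commute o j := by
  have h1 : cj o j * j⁻¹ ∈ F.O := by
    have := mul_mem ho (F.O_nm j (F.JN hj) _ (inv_mem ho))
    simpa [cj, mul_assoc] using this
  exact cj_eq.1 (mul_inv_eq_one.1 (F.OS h1 (F.J_le (mul_mem (cj_nm hm hj) (inv_mem hj)))))

theorem cenJ_two {g : G} (h : ∀ j ∈ F.J, Commute g j) {n : ℕ} (h2 : g ^ 2 ^ n = 1) : F.inZ g := by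
  let C := centralizer (F.J : Set G)
  let Q := zpowers F.a ⊔ F.J
  have QS : Q ≤ F.S := sup_le (zpowers_le.2 F.aS) F.J_le
  have QC : Q ≤ normalizer (C : Set G) :=
    QS.trans (F.S_M.trans (normalizer_le_normalizer_centralizer _))
  have Qd : ∀ q ∈ Q, q ∈ F.J ∨ F.a * q ∈ F.J := fun q hq => by
    obtain ⟨b, hb, j, hj, rfl⟩ := exists_mul_of_mem_sup (zpowers_le.2 F.aM) hq
    rcases zp2 F.aa hb with rfl | rfl
    · exact .inl (by simpa using hj)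
    · exact .inr (by rwa [← mul_assoc, F.aa, one_mul])
  obtain ⟨P, hP, QP⟩ := exists_sylIn (F.S_syl.isP.to_le QS) (le_sup_left : Q ≤ Q ⊔ C)
  have PQ : P = Q := by
    by_contra ne
    obtain ⟨y, ⟨hy, yn⟩, yQ⟩ := SetLike.exists_of_lt (lt_inf_normalizer hP.isP
      (lt_of_le_of_ne QP (Ne.symm ne)))
    obtain ⟨q, hq, c, hc, rfl⟩ := exists_mul_of_mem_sup QC (hP.le hy)
    have cP : c ∈ P := (mul_mem_cancel_left (QP hq)).1 hy
    have cn : c ∈ normalizer (Q : Set G) := (mul_mem_cancel_left (le_normalizer hq)).1 yn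
    have cM : c ∈ F.M := centralizer_le_normalizer _ hc
    have cc : ∀ j ∈ F.J, Commute c j := fun j hj => (hc j hj).symm
    have cN : c ∈ F.N := F.mem_N cM ((Qd _ (cj_nm cn (mem_sup_left (mem_zpowers _)))).resolve_left
      fun h => F.a_nd (by
        have := F.J_d h
        rwa [← cj_eq.2 (cc _ F.dJ), cj_comm] at this))
    obtain ⟨j, hj, ho⟩ := F.J_κ cN (F.isJ_N cN (cc _ F.zJ) (fun i hi => .inl (cj_eq.2 (cc _
      (F.av_J (Nat.pow_lt_pow_right (a := 2) (n := 5) (by decide) (by omega))))))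
      (F.cl6_d cN (cc _ F.dJ)))
    obtain ⟨k, hk⟩ := hP.isP ⟨c * j⁻¹, mul_mem cP (inv_mem (QP (mem_sup_right hj)))⟩
    have := mul_inv_eq_one.1 (eq_one_of_odd (F.O_ord ho) (congrArg Subtype.val hk))
    exact yQ (mul_mem hq (this ▸ mem_sup_right hj))
  have gC : g ∈ C := fun j hj => (h j hj).symm
  obtain ⟨c, hc, e⟩ := (hP.inf_normal le_sup_right (sup_le QC le_normalizer)).exists_conj
    (two_zp h2) (zpowers_le.2 gC)
  obtain ⟨e1, e2⟩ := e g (mem_zpowers g)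
  have cc : ∀ j ∈ F.J, Commute (cj c g) j := fun j hj => (e2 j hj).symm
  have hJ : cj c g ∈ F.J := (Qd _ (PQ ▸ e1)).resolve_right fun h => F.a_nd (by
    have := (F.J_d h).mul_left (cc _ F.dJ).inv_left
    rwa [mul_inv_cancel_right] at this)
  have := F.inZ_of hJ cc
  rwa [← cj_inv c g, cj_eq.2 (Commute.inv_left (hc _ hJ).symm)]

theorem cenJ {g : G} (h : ∀ j ∈ F.J, Commute g j) : ∃ t, F.inZ t ∧ ∃ y ∈ F.Y, g = t * y := by
  let C := centralizer (F.J : Set G)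
  let P : Sylow 2 C := default
  have hP : ∀ p ∈ (P : Subgroup C), F.inZ (p : G) := fun p hp => by
    obtain ⟨k, hk⟩ := P.2 ⟨p, hp⟩
    exact F.cenJ_two (fun j hj => (p.2 j hj).symm)
      (congrArg (fun x : (P : Subgroup C) => ((x : C) : G)) hk)
  have hN : normalizer ((P : Subgroup C) : Set C) ≤ centralizer ((P : Subgroup C) : Set C) :=
    fun g _ x hx => Subtype.ext (g.2 _ (hP x hx).mem)
  obtain ⟨⟨k, p⟩, e⟩ := (MonoidHom.ker_transferSylow_isComplement' P hN).2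
    (⟨g, fun j hj => (h j hj).symm⟩ : C)
  refine ⟨p, hP p p.2, k, ?_, ?_⟩
  · refine ⟨k, H44.le_pPrimeCore inferInstance ?_ k.2, rfl⟩
    exact (Nat.Prime.coprime_iff_not_dvd Nat.prime_two).2
      (MonoidHom.not_dvd_card_ker_transferSylow P hN) |>.symm
  · exact (congrArg Subtype.val e).symm.trans ((k : C).2 _ (hP p p.2).mem).symm

theorem OM_Y : F.O ⊓ F.M ≤ F.Y := fun o ho => by
  obtain ⟨t, ht, y, hy, e⟩ := F.cenJ fun j hj => F.OM_cen ho.1 ho.2 hj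
  refine mem_of_sq (F.O_ord ho.1) ?_
  rw [e, ← (F.Y_cen hy ht.mem).eq, mul_assoc, (F.Y_cen hy ht.mem).eq, ← mul_assoc t, ht.sq, one_mul]
  exact mul_mem hy hy

/-! ### `ρ` -/
theorem π_cj {m j k : G} (hm : m ∈ F.M) (hj : j ∈ F.J) (hk : k ∈ F.J) (h : F.π j = F.π k) :
    F.π (cj m j) = F.π (cj m k) := by
  have : F.π (j⁻¹ * k) = 0 := by rw [F.π_mul (inv_mem hj) hk, F.π_inv hj, h, Nat.xor_self]
  rcases (F.π_zero (mul_mem (inv_mem hj) hk)).1 this with e | e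
  · rw [inv_mul_eq_one.1 e]
  · rw [inv_mul_eq_iff_eq_mul.1 e, cj_mul, cj_eq.2 (F.M_z hm), F.π_mul (cj_nm hm hj) F.zJ, F.πz,
      Nat.xor_zero]
theorem ρ_ap {m j : G} (hm : m ∈ F.M) (hj : j ∈ F.J) : F.π (cj m j) = ap9 (F.ρ m) (F.π j) := by
  rw [F.π_cj hm hj (F.jv_mem (F.π_lt j)) (F.π_jv (F.π_lt j)).symm]
  refine (lin9 (f := fun v => F.π (cj m (F.jv v))) (fun v hv w hw => ?_) (fun _ _ => F.π_lt _)
    (F.π_lt j)).symm
  have l : v ^^^ w < 512 := Nat.xor_lt_two_pow (n := 9) hv hw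
  rw [← F.π_mul (cj_nm hm (F.jv_mem hv)) (cj_nm hm (F.jv_mem hw)), ← cj_mul]
  refine F.π_cj hm (F.jv_mem l) (mul_mem (F.jv_mem hv) (F.jv_mem hw)) ?_
  rw [F.π_mul (F.jv_mem hv) (F.jv_mem hw), F.π_jv hv, F.π_jv hw, F.π_jv l]
theorem ρ_lt (m : G) : F.ρ m < 2 ^ 81 := pk9_lt fun _ _ => F.π_lt _
theorem c9_ρ (m : G) {i : ℕ} (hi : i < 9) : c9 (F.ρ m) i = F.π (cj m (F.jv (2 ^ i))) :=
  c9_pk (fun _ _ => F.π_lt _) hi
theorem ρ_ext {m : G} (hm : m ∈ F.M) {r : ℕ} (hr : r < 2 ^ 81)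
    (h : ∀ i < 9, F.π (cj m (F.jv (2 ^ i))) = c9 r i) : F.ρ m = r :=
  ext9 (F.ρ_lt m) hr fun i hi => (F.c9_ρ m hi).trans (h i hi)
theorem p9 {i : ℕ} (hi : i < 9) : 2 ^ i < 512 := Nat.pow_lt_pow_right (a := 2) (n := 9) (by decide) hi
theorem ρ_mul {m k : G} (hm : m ∈ F.M) (hk : k ∈ F.M) : F.ρ (m * k) = m9 (F.ρ m) (F.ρ k) :=
  F.ρ_ext (mul_mem hm hk) (m9_lt _ _) fun i hi => by
    rw [c9_m9 _ _ hi, ← cj_cj, F.ρ_ap hm (cj_nm hk (F.jv_mem (p9 hi))), F.c9_ρ k hi]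
theorem ρ_I {m : G} (hm : m ∈ F.M) (h : ∀ j ∈ F.J, F.π (cj m j) = F.π j) : F.ρ m = I9 :=
  F.ρ_ext hm (by decide) fun i hi => by
    rw [h _ (F.jv_mem (p9 hi)), F.π_jv (p9 hi)]
    exact ((by decide : ∀ i < 9, c9 I9 i = 2 ^ i) i hi).symm
theorem ρ_one : F.ρ 1 = I9 := F.ρ_I (one_mem _) fun j _ => by simp [cj]
theorem ρ_J {j : G} (hj : j ∈ F.J) : F.ρ j = I9 := F.ρ_I (F.J_M hj) fun k hk => by
  rw [F.cj_J hj hk]
  split_ifs
  · rfl
  · rw [F.π_mul F.zJ hk, F.πz, Nat.zero_xor]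
theorem ρ_Y {y : G} (hy : y ∈ F.Y) : F.ρ y = I9 :=
  F.ρ_I (F.Y_M hy) fun k hk => by rw [cj_eq.2 (F.Y_cen hy hk)]
theorem ρ_mul_I {m k : G} (hm : m ∈ F.M) (hk : k ∈ F.M) (h : F.ρ k = I9) : F.ρ (m * k) = F.ρ m := by
  rw [F.ρ_mul hm hk, h, ← F.ρ_one, ← F.ρ_mul hm (one_mem _), mul_one]
theorem ρ_I_mul {m k : G} (hm : m ∈ F.M) (hk : k ∈ F.M) (h : F.ρ k = I9) : F.ρ (k * m) = F.ρ m := by
  rw [F.ρ_mul hk hm, h, ← F.ρ_one, ← F.ρ_mul (one_mem _) hm, one_mul]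
theorem ρ_q {m : G} (hm : m ∈ F.M) {v : ℕ} (hv : v < 512) : q9 (ap9 (F.ρ m) v) = q9 v := by
  have h1 := F.sq_J (F.jv_mem hv)
  have h2 := F.sq_J (cj_nm hm (F.jv_mem hv))
  rw [← cj_mul, h1, F.ρ_ap hm (F.jv_mem hv), F.π_jv hv] at h2
  have := q9_lt v
  have := q9_lt (ap9 (F.ρ m) v)
  split_ifs at h2
  · omega
  · exact absurd ((cj_one m).symm.trans h2).symm F.z_ne
  · exact absurd (cj_eq_one.1 h2) F.z_ne
  · omega
theorem ρ_B {m : G} (hm : m ∈ F.M) {v w : ℕ} (hv : v < 512) (hw : w < 512) :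
    B9 (ap9 (F.ρ m) v) (ap9 (F.ρ m) w) = B9 v w := by
  have h1 := F.comm_J (F.jv_mem hv) (F.jv_mem hw)
  have h2 := F.comm_J (cj_nm hm (F.jv_mem hv)) (cj_nm hm (F.jv_mem hw))
  rw [cj_comm, h1, F.ρ_ap hm (F.jv_mem hv), F.ρ_ap hm (F.jv_mem hw), F.π_jv hv, F.π_jv hw] at h2
  have := B9_lt v w
  have := B9_lt (ap9 (F.ρ m) v) (ap9 (F.ρ m) w)
  omega
theorem ρ_d {m : G} (hm : m ∈ F.M) : ap9 (F.ρ m) 256 = 256 := by
  have := F.ρ_ap hm F.dJ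
  rw [F.πd] at this
  rcases F.M_d hm with e | e <;> rw [← this, e]
  · exact F.πd
  · rw [F.π_mul F.dJ F.zJ, F.πd, F.πz, Nat.xor_zero]
theorem ρ_rel {n : G} (hn : n ∈ F.N) (hm : n ∈ F.M) {r : ℕ} (h : rel (F.κ n) r = true) :
    F.ρ n = r := by
  rw [rel, Bool.and_eq_true, Nat.blt_eq] at h
  refine F.ρ_ext hm h.1 fun i hi => ?_
  obtain ⟨e, he, k⟩ : ∃ e < 2, mm (F.κ n) (jc (2 ^ i) 0) = mm (jc (c9 r i) e) (F.κ n) := by
    have := al_spec h.2 hi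
    rw [Bool.or_eq_true, Nat.beq_eq, Nat.beq_eq] at this
    exact this.elim (fun h => ⟨0, two_pos, h⟩) fun h => ⟨1, one_lt_two, h⟩
  have hj := F.ι_J (p9 hi) two_pos
  have hk := F.ι_J (c9_lt r i) he
  rw [← F.κ_ι _ (jc_tri (p9 hi) two_pos), ← F.κ_ι _ (jc_tri (c9_lt r i) he),
    ← F.κ_mul _ hn _ (F.JN hj), ← F.κ_mul _ (F.JN hk) _ hn,
    F.κ_eq (mul_mem hn (F.JN hj)) (mul_mem (F.JN hk) hn), mul_inv_rev, ← mul_assoc] at k
  rw [jv, cj, mul_inv_eq_one.1 (F.OS k (F.J_le (mul_mem (cj_nm hm hj) (inv_mem hk)))),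
    F.π_ι (c9_lt r i) he]
theorem ρa : F.ρ F.a = ab := F.ρ_rel (F.S_le F.aS) F.aM (by rw [F.κa]; decide +kernel)
theorem ρx : F.ρ F.x = t0 := F.ρ_rel (F.S_le F.xS) (F.S_M F.xS) (by rw [F.κx]; decide +kernel)

end Fr

end Cfsg.Agent.FE
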