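/-
The subgroup `K` of `M` and the kernel of `ρ`.
-/
import Cfsg.Agent.FE.BaseB

set_option autoImplicit false
set_option linter.unusedSectionVars false

namespace Cfsg.Agent.FE

open Subgroup H42

universe u

namespace Fr

variable {G : Type u} [Group G] [Finite G] (F : Fr G)

theorem lift {c : ℕ} (hc : okc c = true) (h : cl c 0 = 1) : ∃ n ∈ F.N ⊓ F.M, F.κ n = c := by
  obtain ⟨n, hn, rfl⟩ := F.κ_sur c hc
  have hz := (F.fz_iff hn).2 h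
  have JO : F.J ≤ normalizer (F.O : Set G) := fun j hj =>
    mem_normalizer_of_conj_mem (F.O_nm j (F.JN hj))
  have sy : SylIn 2 F.J (F.J ⊔ F.O) := ⟨le_sup_left, F.J_two, fun h =>
    F.O_odd.not_two_dvd_nat (h.trans (H44.relIndex_sup_dvd_card JO))⟩
  obtain ⟨l, hl, e⟩ := sy.exists_conj (isPGroup_cj n F.J_two) (cj_le_iff.2 fun j hj => by
    obtain ⟨k, hk, ho⟩ := F.J_κ (cj_mem hn (F.JN hj)) (F.isJ_cj hn hz (F.JN hj) (F.mem_J.1 hj).2)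
    simpa using mul_mem (mem_sup_right (S := F.J) ho) (mem_sup_left hk))
  obtain ⟨j, hj, o, ho, rfl⟩ := exists_mul_of_mem_sup JO hl
  have hm : j * o * n ∈ F.M := mem_normalizer_of_conj_mem fun k hk => by
    simpa [mul_assoc] using e _ (conj_mem_cj hk)
  refine ⟨o * n, ⟨mul_mem (F.O_le ho) hn, ?_⟩, (F.κ_eq (mul_mem (F.O_le ho) hn) hn).2 (by simpa)⟩
  rwa [mul_assoc, mul_mem_cancel_left (F.J_M hj)] at hm

/-- an element of `N ∩ M` whose code commutes with the code of `d` centralises `d` -/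
theorem lift_d {n : G} (hn : n ∈ F.N ⊓ F.M) (h : mm (F.κ n) cd = mm cd (F.κ n)) :
    Commute n F.d := by
  have hd := F.JN F.dJ
  rw [← F.κd, ← F.κ_mul _ hn.1 _ hd, ← F.κ_mul _ hd _ hn.1,
    F.κ_eq (mul_mem hn.1 hd) (mul_mem hd hn.1), mul_inv_rev, ← mul_assoc] at h
  exact cj_eq.1 (mul_inv_eq_one.1 (F.OS h (F.J_le (mul_mem (cj_nm hn.2 F.dJ) (inv_mem F.dJ)))))

theorem mem_K0 {n : G} : n ∈ F.K0 ↔ n ∈ F.N ⊓ F.M ∧ Commute n F.d := and_congr_right' mem_cen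

theorem lift0 {c : ℕ} (hc : okc c = true) (h : cl c 0 = 1) (hd : mm c cd = mm cd c) :
    ∃ n ∈ F.K0, F.κ n = c := by
  obtain ⟨n, hn, rfl⟩ := F.lift hc h
  exact ⟨n, F.mem_K0.2 ⟨hn, F.lift_d hn hd⟩, rfl⟩

theorem same_bk {n k : G} (hn : n ∈ F.K0) (hk : k ∈ F.K0) (h : bk (F.κ n) = bk (F.κ k)) :
    ∃ o ∈ F.O ⊓ F.M, ∃ j ∈ F.J, n = k * (o * j) := by
  have ht := F.mem_K0.1 (mul_mem (inv_mem hk) hn)
  obtain ⟨j, hj, ho⟩ := F.J_κ ht.1.1 (F.isJ_N ht.1.1 (F.M_z ht.1.2) (fun i hi => by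
    have e := c4_bk (F.κ n) hi
    rw [h, c4_bk _ hi] at e
    have := (col_lt (F.κ_ok _ hn.1.1) ((F.fz_iff hn.1.1).1 (F.M_z hn.1.2))).1 (i + 1) (by omega)
    have := (col_lt (F.κ_ok _ hk.1.1) ((F.fz_iff hk.1.1).1 (F.M_z hk.1.2))).1 (i + 1) (by omega)
    have := (F.av_half (cl_lt (F.κ n) (i + 1)) (cl_lt (F.κ k) (i + 1))).1 (by omega)
    rw [← F.cl_av hn.1.1 (by omega), ← F.cl_av hk.1.1 (by omega)] at this
    rw [← cj_cj]
    refine this.imp (fun e => ?_) fun e => ?_ <;> rw [e]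
    · exact cj_inv _ _
    · rw [cj_mul, cj_inv, cj_eq.2 (F.M_z hk.1.2).inv_left]) (F.cl6_d ht.1.1 ht.2))
  exact ⟨_, ⟨ho, F.M.mul_mem ht.1.2 (F.M.inv_mem (F.J_M hj))⟩, j, hj, by simp⟩

theorem K0_sp {n : G} (hn : n ∈ F.K0) : sp4 (bk (F.κ n)) = true :=
  sp4_bk (F.κ_ok _ hn.1.1) ((F.fz_iff hn.1.1).1 (F.M_z hn.1.2))

theorem rz_gn {i : ℕ} (hi : i < 4) : ∃ n ∈ F.K0, F.κ n = [g1, g2, g3, g4].getD i one ∧
    F.ρ n = gn i := by
  have k : ∀ i < 4, okc (gg i) = true ∧ cl (gg i) 0 = 1 ∧ mm (gg i) cd = mm cd (gg i) ∧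
    rel (gg i) (gn i) = true := by decide +kernel
  obtain ⟨h1, h2, h3, h4⟩ := k i hi
  obtain ⟨n, hn, e⟩ := F.lift0 h1 h2 h3
  exact ⟨n, hn, e, F.ρ_rel hn.1.1 hn.1.2 (e ▸ h4)⟩

theorem gen0 {P : Subgroup G} (hJ : F.J ≤ P) (hO : F.O ⊓ F.M ≤ P)
    (hg : ∀ n ∈ F.K0, F.κ n ∈ [g1, g2, g3, g4] → n ∈ P) : F.K0 ≤ P := fun n hn => by
  obtain ⟨_, ⟨k, hk, hP, rfl⟩, e⟩ := sp_gen (p := fun c => ∃ k ∈ F.K0, k ∈ P ∧ F.κ k = c)
    ⟨1, one_mem _, one_mem _, F.κ_one⟩ (by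
      rintro _ ⟨k, hk, hP, rfl⟩ i hi
      obtain ⟨m, hm, e, -⟩ := F.rz_gn hi
      refine ⟨m * k, mul_mem hm hk, mul_mem (hg m hm ?_) hP, ?_⟩
      · rw [e]; interval_cases i <;> simp
      · rw [F.κ_mul _ hm.1.1 _ hk.1.1, e, gg]) (bk_lt _) (F.K0_sp hn)
  obtain ⟨o, ho, j, hj, rfl⟩ := F.same_bk hn hk e.symm
  exact mul_mem hP (mul_mem (hO ho) (hJ hj))

theorem a_mul_d {m : G} (hm : m ∈ F.M) (h : ¬ Commute m F.d) : Commute (F.a * m) F.d := by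
  rw [← cj_eq, ← cj_cj, (F.M_d hm).resolve_left fun e => h (cj_eq.1 e), cj_mul, F.ad,
    cj_eq.2 (F.M_z F.aM), mul_assoc, F.zz, mul_one]

theorem NM_dec {n : G} (hn : n ∈ F.N ⊓ F.M) : n ∈ F.K0 ∨ F.a * n ∈ F.K0 := by
  by_cases h : Commute n F.d
  · exact .inl (F.mem_K0.2 ⟨hn, h⟩)
  · exact .inr (F.mem_K0.2 ⟨mul_mem ⟨F.S_le F.aS, F.aM⟩ hn, F.a_mul_d hn.2 h⟩)
theorem K_le : F.K ≤ F.M := sup_le inf_le_right F.Y_M
theorem K_dec {k : G} (hk : k ∈ F.K) : ∃ n ∈ F.N ⊓ F.M, ∃ y ∈ F.Y, k = n * y :=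
  exists_mul_of_mem_sup (inf_le_right.trans F.M_NY) hk
theorem act_K0' {y : ℕ} (hy : y < 65536) (h : sp4 y = true) :
    ∃ n ∈ F.K0, F.κ n = ky y ∧ F.ρ n = act y := by
  obtain ⟨h1, h2, h3, h4, -⟩ := sp_spec hy h
  obtain ⟨n, hn, e⟩ := F.lift0 h1 h2 h3
  exact ⟨n, hn, e, F.ρ_rel hn.1.1 hn.1.2 (e ▸ h4)⟩
theorem act_K0 {y : ℕ} (hy : y < 65536) (h : sp4 y = true) : ∃ n ∈ F.K0, F.ρ n = act y :=
  (F.act_K0' hy h).imp fun _ h => ⟨h.1, h.2.2⟩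
theorem K0_ρ {n : G} (hn : n ∈ F.K0) : F.ρ n = act (bk (F.κ n)) := by
  obtain ⟨k, hk, e, e'⟩ := F.act_K0' (bk_lt _) (F.K0_sp hn)
  obtain ⟨o, ho, j, hj, h⟩ := F.same_bk hn hk
    (by rw [e, (sp_spec (bk_lt _) (F.K0_sp hn)).2.2.2.2.2.2])
  rw [← e', h, F.ρ_mul_I hk.1.2 (mul_mem ho.2 (F.J_M hj))]
  rw [F.ρ_mul_I ho.2 (F.J_M hj) (F.ρ_J hj), F.ρ_Y (F.OM_Y ho)]
theorem K0_act {n : G} (hn : n ∈ F.K0) : sp4 (blk (F.ρ n)) = true ∧ F.ρ n = act (blk (F.ρ n)) := by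
  rw [F.K0_ρ hn, (sp_spec (bk_lt _) (F.K0_sp hn)).2.2.2.2.1]
  exact ⟨F.K0_sp hn, rfl⟩
theorem K_inC {k : G} (hk : k ∈ F.K) : inC (F.ρ k) = true := by
  obtain ⟨n, hn, y, hy, rfl⟩ := F.K_dec hk
  rw [F.ρ_mul_I hn.2 (F.Y_M hy) (F.ρ_Y hy), inC, Bool.and_eq_true, Bool.or_eq_true, Nat.beq_eq,
    Nat.beq_eq]
  rcases F.NM_dec hn with h | h
  · exact ⟨(F.K0_act h).1, .inl (F.K0_act h).2⟩
  · have e := F.ρ_mul F.aM h.1.2
    rw [← mul_assoc, F.aa, one_mul, F.ρa, F.K0_ρ h] at e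
    rw [e, (sp_spec (bk_lt _) (F.K0_sp h)).2.2.2.2.2.1]
    exact ⟨F.K0_sp h, .inr rfl⟩
theorem S_sylK : SylIn 2 F.S F.K := by
  have l : F.S ≤ F.N ⊓ F.M := le_inf F.S_le F.S_M
  refine ⟨l.trans le_sup_left, F.S_syl.isP, fun h => ?_⟩
  rw [K, ← relIndex_mul_relIndex _ _ _ l le_sup_left] at h
  rcases (Nat.Prime.dvd_mul Nat.prime_two).1 h with h | h
  · exact (F.S_syl.of_le l inf_le_left).ndvd h
  · exact F.Y_odd.not_two_dvd_nat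
      (h.trans (H44.relIndex_sup_dvd_card (inf_le_right.trans F.M_NY)))
theorem JY_dec {k : G} (hk : k ∈ F.J ⊔ F.Y) : ∃ j ∈ F.J, ∃ y ∈ F.Y, k = j * y :=
  exists_mul_of_mem_sup (F.J_M.trans F.M_NY) hk

theorem comm_of_gen {m : G} (hz : Commute m F.z) (h : ∀ i < 9, Commute m (F.jv (2 ^ i))) {j : G}
    (hj : j ∈ F.J) : Commute m j := by
  refine F.JP_ind (p := Commute m) (.one_right _) (fun j _ hc i hi => hc.mul_right ?_)
    (F.mem_J.1 hj)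
  unfold gj
  split_ifs with h'
  exacts [h i h', hz]

/-- automorphisms trivial on `J / ⟨z⟩` and on `Z` are inner -/
theorem inner {m : G} (hm : m ∈ F.M) (hd : Commute m F.d) (h : F.ρ m = I9) : m ∈ F.J ⊔ F.Y := by
  have b : ∀ i < 8, ∀ k < 8, B9 (2 ^ (7 - k)) (2 ^ i) = 0 ↔ i ≠ k := by decide +kernel
  have key : ∀ k ≤ 8, ∃ j ∈ F.J, ∀ i < k, Commute (j * m) (F.jv (2 ^ i)) := by
    intro k hk
    induction k with
    | zero => exact ⟨1, one_mem _, fun _ h => absurd h (by omega)⟩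
    | succ k ih =>
      obtain ⟨j, hj, c⟩ := ih (by omega)
      have l := p9 (by omega : k < 9)
      have l' := p9 (by omega : 7 - k < 9)
      have hm' := mul_mem (F.J_M hj) hm
      have e := F.ρ_ap hm' (F.jv_mem l)
      rw [F.ρ_I_mul hm (F.J_M hj) (F.ρ_J hj), h, F.π_jv l, ap9_I9 l] at e
      rcases e ▸ F.J_eq (cj_nm hm' (F.jv_mem l)) with e | e
      · refine ⟨j, hj, fun i hi => ?_⟩
        rcases Nat.lt_succ_iff_lt_or_eq.1 hi with h | rfl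
        exacts [c i h, cj_eq.1 e]
      · refine ⟨_, mul_mem (F.jv_mem l') hj, fun i hi => ?_⟩
        have li := p9 (by omega : i < 9)
        have e' := F.cj_J (F.jv_mem l') (F.jv_mem li)
        rw [F.π_jv l', F.π_jv li] at e'
        rw [mul_assoc, ← cj_eq, ← cj_cj]
        rcases Nat.lt_succ_iff_lt_or_eq.1 hi with h | rfl
        · rw [cj_eq.2 (c i h), e', if_pos ((b i (by omega) k (by omega)).2 h.ne)]
        · rw [e, cj_mul, e', if_neg (by simp [b i (by omega) i (by omega)]),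
            cj_eq.2 (F.J_z (F.jv_mem l')), ← (F.J_z (F.jv_mem l)).eq, mul_assoc, F.zz, mul_one]
  obtain ⟨j, hj, c⟩ := key 8 le_rfl
  obtain ⟨t, ht, y, hy, e⟩ := F.cenJ fun k hk => F.comm_of_gen (F.M_z (mul_mem (F.J_M hj) hm))
    (fun i hi => by
      rcases Nat.lt_succ_iff_lt_or_eq.1 hi with h | rfl
      · exact c i h
      · rw [show 2 ^ 8 = 256 from rfl, F.jv_d]; exact (F.J_d hj).mul_left hd) hk
  rw [← mul_mem_cancel_left (mem_sup_left hj), e]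
  exact mul_mem (mem_sup_left ht.mem) (mem_sup_right hy)

theorem cj_nd {m t : G} (hm : m ∈ F.M) (ht : t ∈ F.M) : Commute (cj m t) F.d ↔ Commute t F.d := by
  rw [← cj_comm (g := m) (x := t)]
  have := F.M_z (cj_mem hm ht)
  rcases F.M_d hm with e | e <;> rw [e]
  refine ⟨fun h => h.mul_right this, fun h => ?_⟩
  simpa [mul_assoc, F.zz] using h.mul_right this

/-- elements that commute with `a` on `J / ⟨z⟩` -/
theorem k2 {m : G} (hm : m ∈ F.M) (h : m9 (F.ρ m) ab = m9 ab (F.ρ m)) : m ∈ F.K := by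
  have hb := cj_mem hm F.aM
  have e : F.ρ (F.a * cj m F.a) = I9 := by
    rw [F.ρ_mul F.aM hb, cj, F.ρ_mul (mul_mem hm F.aM) (inv_mem hm), F.ρ_mul hm F.aM, F.ρa, h,
      ← F.ρa, ← F.ρ_mul F.aM hm, ← F.ρ_mul (mul_mem F.aM hm) (inv_mem hm), mul_inv_cancel_right,
      ← F.ρ_mul F.aM F.aM, F.aa, F.ρ_one]
  obtain ⟨j, hj, y, hy, e⟩ := F.JY_dec (F.inner (mul_mem F.aM hb)
    (F.a_mul_d hb fun h => F.a_nd ((F.cj_nd hm F.aM).1 h)) e)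
  have hs := mul_mem F.aS (F.J_le hj)
  have e' : cj m F.a = F.a * j * y := by rw [mul_assoc, ← e, ← mul_assoc, F.aa, one_mul]
  have bb : F.a * j * y * (F.a * j * y) = 1 := e' ▸ cj_sq F.aa
  have ss : F.a * j * (F.a * j) = 1 := by
    refine F.YS ?_ (mul_mem hs hs)
    have := inv_mem (mul_mem (F.Y_nm (inv_mem (F.S_M hs)) hy) hy)
    generalize F.a * j = s at *
    rwa [← mul_eq_one_iff_eq_inv.1 (show s * s * (cj s⁻¹ y * y) = 1 by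
      rw [← bb]; simp [cj, mul_assoc])] at this
  have ey : F.a * j * (F.a * j * y) = y := by rw [← mul_assoc, ss, one_mul]
  obtain ⟨k, hk, e2⟩ := H8.exists_conj_of_odd ss bb (by rw [ey]; exact F.Y_ord hy)
  rw [ey] at hk
  have hk := zpowers_le.2 hy hk
  have hm' := mul_mem (inv_mem (F.Y_M hk)) hm
  have := F.mem_N hm' (by
    rw [← cj_cj, e', ← e2, cj_inv k, ← mul_assoc, F.aa, one_mul]; exact hj)
  rw [K, ← mul_mem_cancel_left (inv_mem (mem_sup_right hk))]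
  exact mem_sup_left ⟨this, hm'⟩

theorem ρ_ker {m : G} (hm : m ∈ F.M) : F.ρ m = I9 ↔ m ∈ F.J ⊔ F.Y := by
  refine ⟨fun h => F.inner hm (by_contra fun hd => ?_) h, fun h => ?_⟩
  · obtain ⟨n, hn, y, hy, rfl⟩ := F.K_dec (F.k2 hm (by rw [h]; decide +kernel))
    rw [F.ρ_mul_I hn.2 (F.Y_M hy) (F.ρ_Y hy)] at h
    rcases F.NM_dec hn with h' | h'
    · exact hd ((F.mem_K0.1 h').2.mul_left (F.Y_cen hy F.dJ))
    · have := (F.K0_act h').2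
      rw [F.ρ_mul_I F.aM hn.2 h, F.ρa] at this
      exact absurd this (by decide +kernel)
  · obtain ⟨j, hj, y, hy, rfl⟩ := F.JY_dec h
    rw [F.ρ_mul_I (F.J_M hj) (F.Y_M hy) (F.ρ_Y hy), F.ρ_J hj]
theorem ρ_eq {m k : G} (hm : m ∈ F.M) (hk : k ∈ F.M) :
    F.ρ m = F.ρ k ↔ m⁻¹ * k ∈ F.J ⊔ F.Y := by
  rw [← F.ρ_ker (mul_mem (inv_mem hm) hk)]
  refine ⟨fun h => ?_, fun h => ?_⟩
  · rw [F.ρ_mul (inv_mem hm) hk, ← h, ← F.ρ_mul (inv_mem hm) hm, inv_mul_cancel, F.ρ_one]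
  · rw [← F.ρ_mul_I hm (mul_mem (inv_mem hm) hk) h, mul_inv_cancel_left]
theorem JY_K : F.J ⊔ F.Y ≤ F.K := sup_le_sup_right (le_inf F.JN F.J_M) _
theorem inC_K {m : G} (hm : m ∈ F.M) (h : inC (F.ρ m) = true) : m ∈ F.K := by
  rw [inC, Bool.and_eq_true, Bool.or_eq_true, Nat.beq_eq, Nat.beq_eq] at h
  obtain ⟨n, hn, e⟩ := F.act_K0 (blk_lt _) h.1
  obtain ⟨k, hk, e⟩ : ∃ k ∈ F.N ⊓ F.M, F.ρ k = F.ρ m := by
    rcases h.2 with h | h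
    · exact ⟨n, hn.1, e.trans h.symm⟩
    · exact ⟨_, mul_mem ⟨F.S_le F.aS, F.aM⟩ hn.1, by rw [F.ρ_mul F.aM hn.1.2, F.ρa, e, ← h]⟩
  exact (mul_mem_cancel_left (inv_mem (mem_sup_left hk))).1 (F.JY_K ((F.ρ_eq hk.2 hm).1 e))

/-- an automorphism of order two centralises its singular commutators -/
theorem star {t j : G} (ht : t ∈ F.M) (hd : Commute t F.d) (tt : F.inZ (t * t)) (hj : j ∈ F.J)
    (hq : q9 (F.π j) = 0) {v : ℕ} (hv : v < 512)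
    (h : (ap9 (F.ρ t) v ^^^ v) % 256 = F.π j % 256) : Commute t j := by
  have hk := F.jv_mem hv
  have hc := mul_mem (cj_nm ht hk) (inv_mem hk)
  have e : F.π (cj t (F.jv v) * (F.jv v)⁻¹) % 256 = F.π j % 256 := by
    rw [F.π_mul (cj_nm ht hk) (inv_mem hk), F.π_inv hk, F.ρ_ap ht hk, F.π_jv hv, h]
  have i : cj t (cj t (F.jv v) * (F.jv v)⁻¹) = (cj t (F.jv v) * (F.jv v)⁻¹)⁻¹ := by
    rw [cj_mul, cj_cj, cj_eq.2 (tt.comm (F.J_z hk) (F.J_d hk)).symm, cj_iv, mul_inv_rev (cj _ _),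
      inv_inv]
  generalize cj t (F.jv v) * (F.jv v)⁻¹ = c at hc e i
  have hZ : F.inZ (c⁻¹ * j) := by
    rw [← F.π_Z (mul_mem (inv_mem hc) hj), F.π_mul (inv_mem hc) hj, F.π_inv hc]
    exact (Nat.xor_mod_two_pow (n := 8)).trans (by rw [show 2 ^ 8 = 256 from rfl, e, Nat.xor_self])
  have jj := F.sq_J hj
  rw [if_pos hq, ← mul_inv_cancel_left c j, (hZ.comm (F.J_z hc) (F.J_d hc)).symm.mul_mul_mul_comm,
    hZ.sq, mul_one] at jj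
  rw [← mul_inv_cancel_left c j]
  exact (cj_eq.1 (i.trans (inv_eq_of_mul_eq_one_right jj))).mul_right (hZ.comm (F.M_z ht) hd)

theorem Rz.mul {r s : ℕ} (hr : F.Rz r) (hs : F.Rz s) : F.Rz (m9 r s) := by
  obtain ⟨m, hm, h1, rfl⟩ := hr
  obtain ⟨k, hk, h2, rfl⟩ := hs
  exact ⟨m * k, mul_mem hm hk, h1.mul_left h2, F.ρ_mul hm hk⟩

theorem Tw.rz_wd {g : G} (h : F.Tw g) (l : List ℕ) : F.Rz (wd l) := by
  have o : F.Rz I9 := ⟨1, one_mem _, .one_left _, F.ρ_one⟩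
  induction l with
  | nil => exact o
  | cons i l ih =>
    refine Rz.mul F ?_ ih
    rcases lt_trichotomy i 4 with hi | rfl | hi
    · obtain ⟨n, hn, -, e⟩ := F.rz_gn hi
      exact ⟨n, hn.1.2, (F.mem_K0.1 hn).2, e⟩
    · exact ⟨g, h.mem, h.cd, h.ρg⟩
    · rwa [gn, List.getD_eq_default _ _ (by simp; omega)]

end Fr

end Cfsg.Agent.FE
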