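import Cfsg.Agent.FE.Base

/-! Involution classes and other computations with codes. -/

set_option autoImplicit false

namespace Cfsg.Agent.FE

open Subgroup H42

universe u

namespace Cl

theorem al_ex {n : ℕ} {f : ℕ → Bool} (h : al n f = false) : ∃ i < n, f i = false := by
  by_contra k
  push Not at k
  induction n with
  | zero => exact absurd h (by simp [al])
  | succ n ih =>
    have h' : (f n && al n f) = false := h
    rw [Bool.and_eq_false_iff] at h'
    exact h'.elim (k n (by omega)) fun e => ih e fun i hi => k i (by omega)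

/-- all linear unitriangular codes -/
noncomputable def alT (P : ℕ → Bool) : Bool :=
  al 2 fun a => al 4 fun b => al 8 fun c => al 16 fun d =>
    !(Nat.beq (b6 (4 + b) (16 + d)) 0 && Nat.beq (b6 (8 + c) (16 + d)) 0) || al 32 fun e =>
      !(Nat.beq (b6 (4 + b) (32 + e)) 0 && Nat.beq (b6 (8 + c) (32 + e)) 0 &&
        Nat.beq (b6 (2 + a) (32 + e)) 0 && Nat.beq (b6 (16 + d) (32 + e)) 0) ||
      P (pk6 1 (2 + a) (4 + b) (8 + c) (16 + d) (32 + e) 0)

theorem ln_eq (c : ℕ) : ln c = pk6 (cl c 0) (cl c 1) (cl c 2) (cl c 3) (cl c 4) (cl c 5) 0 := by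
  simp only [ln, cl, pk6, Nat.shiftRight_eq_div_pow]; omega

theorem alT_spec {P : ℕ → Bool} (h : alT P = true) {c : ℕ} (hc : tri c = true) : P (ln c) = true := by
  have t := fun i => tri_cl (i := i) hc
  have b := fun i j => okc_b6 (i := i) (j := j) (tri_ok hc)
  have t0 := t 0 (by decide)
  have t1 := t 1 (by decide)
  have t2 := t 2 (by decide)
  have t3 := t 3 (by decide)
  have t4 := t 4 (by decide)
  have t5 := t 5 (by decide)
  simp only [Nat.shiftRight_eq_div_pow] at t0 t1 t2 t3 t4 t5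
  have := al_spec (al_spec (al_spec (al_spec h (i := cl c 1 - 2) (by omega)) (i := cl c 2 - 4) (by omega))
    (i := cl c 3 - 8) (by omega)) (i := cl c 4 - 16) (by omega)
  rw [show 2 + (cl c 1 - 2) = cl c 1 by omega, show 4 + (cl c 2 - 4) = cl c 2 by omega,
    show 8 + (cl c 3 - 8) = cl c 3 by omega, show 16 + (cl c 4 - 16) = cl c 4 by omega,
    b 2 4 (by decide) (by decide), b 3 4 (by decide) (by decide)] at this
  have := al_spec ((Bool.or_eq_true _ _).mp this |>.resolve_left (by decide)) (i := cl c 5 - 32) (by omega)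
  rw [show 32 + (cl c 5 - 32) = cl c 5 by omega, b 2 5 (by decide) (by decide), b 3 5 (by decide) (by decide),
    b 1 5 (by decide) (by decide), b 4 5 (by decide) (by decide)] at this
  rw [ln_eq, show cl c 0 = 1 by omega]
  exact this

theorem cl_ln (c : ℕ) {i : ℕ} (hi : i < 7) : cl (ln c) i = if i = 6 then 0 else cl c i := by
  have := cl_pk (cl_lt c 0) (cl_lt c 1) (cl_lt c 2) (cl_lt c 3) (cl_lt c 4) (cl_lt c 5) (show 0 < 64 by decide)
  rw [← ln_eq] at this
  interval_cases i <;> simp [this]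

theorem ap6_ln (c v : ℕ) : ap6 (ln c) v = ap6 c v := by simp [ap6, cl_ln]

theorem cl_mm6 (c e : ℕ) {i : ℕ} (hi : i < 7) :
    cl (mm c e) i = if i = 6 then ap6 c (cl e 6) ^^^ cl c 6 else ap6 c (cl e i) := by
  have := cl_pk (ap6_lt c (cl e 0)) (ap6_lt c (cl e 1)) (ap6_lt c (cl e 2)) (ap6_lt c (cl e 3))
    (ap6_lt c (cl e 4)) (ap6_lt c (cl e 5))
    (Nat.xor_lt_two_pow (n := 6) (ap6_lt c (cl e 6)) (cl_lt c 6))
  rw [← mm] at this
  interval_cases i <;> simp [this]

theorem ln_mm (c e : ℕ) : ln (mm c e) = mm (ln c) (ln e) := by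
  rw [ln_eq, mm.eq_def (ln c)]
  simp [cl_mm6, cl_ln, ap6_ln, ap6_zero]

theorem ln_add {c : ℕ} (h : okc c = true) : ln c + cl c 6 * 68719476736 = c := by
  have := okc_lt h
  simp only [ln, cl, Nat.shiftRight_eq_div_pow]; omega

/-- lookup of `k` in a list of packed pairs -/
noncomputable def lk (l : List ℕ) (k : ℕ) : ℕ :=
  List.rec 0 (fun p _ r => cond (Nat.beq (p % 512) k) (p / 512) r) l

def ix (k : ℕ) : ℕ := cl k 1 % 2 + 2 * (cl k 2 % 4) + 8 * (cl k 3 % 8) + 64 * (cl k 4 % 4) + 256 * (cl k 5 % 2)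

def t1 : List ℕ := [
  17730707194368, 17730707194624, 17730707194432, 17730707194688, 10747090338944, 18022764971904, 10747090339008,
  18022764971968, 17715402244616, 17715402244872, 17733391680072, 17733391680328, 17730707194504, 32660017742728,
  17816610734792, 27076556063688, 7289232754704, 10747090339088, 17735539034704, 15213862618448, 6557884517520,
  14801543661456, 12983157689552, 10334773479376, 16087473424408, 27231174886680, 17737686649432, 27299900654936,
  18022764971672, 18059809197976, 18091488642776, 17956725788632, 7289232754720, 17719428777760, 17715402244704,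
  30352406184800, 8792743939232, 29682122853792, 17822516383456, 17994575122400, 11669831025704, 17735539034920,
  17699296182888, 34766558757736, 18059809197736, 18062224986024, 12987855441128, 11776399937000, 7289232754736,
  27272782384432, 17994575122032, 17737686649712, 8792743939248, 18030012860336, 17818221413104, 29278398022640,
  16087473424440, 12987855441208, 8107694591608, 17735539035000, 17733391680184, 33761274266552, 17450869654776,
  18062224986104, 17712768352770, 17712768353026, 17730757788226, 17730757788482, 17730178712194, 34893140689794,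
  17850710426306, 27076027581378, 17681906795018, 17681906795274, 17732360143434, 17732360143690, 17730723971722,
  32660034519946, 17816627512010, 27076572840906, 7284484804612, 10746561856772, 17730791084612, 15213730497860,
  4321198511236, 14801279420292, 15213906662596, 10334244997060, 5091241302036, 10747107116308, 17734540794452,
  17447658751316, 4324411350164, 17035207673748, 17448891882708, 10334790256596, 16080611676166, 27230646404358,
  17730824901190, 27299768534342, 18022236489350, 18091535046534, 18091224401606, 17918931048390, 13889515788318,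
  27231191663902, 17736722225758, 27334673532254, 18022781748894, 18127497142174, 18126129399518, 17922144018398,
  17610448568833, 17610448569089, 17730707718721, 17730707718977, 17647761228297, 17647761228553, 17733392204361,
  17733392204617, 17629503226401, 30300866773793, 17680774398561, 29226856514401, 17647756771881, 34680659739433,
  17681848074857, 33623829349225, 17679222833667, 17679222833923, 17730758312515, 17730758312771, 17715453362699,
  17715453362955, 17732360667723, 17732360667979, 17732334977715, 29364318536627, 17835682628339, 30421148926963,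
  17768041022139, 34886837044155, 17819312194299, 33675387831291]

def t2 : List ℕ := [
  17730707194369, 17730707210785, 688276979744, 18022764987939, 2088436319266, 17735539051045, 2892266293284,
  18062225002023, 4327053806630, 17730791100969, 5086409478184, 18091572549163, 6555292488746, 17734540810797,
  7289316661292, 18129950432815, 8792827845678, 17730708791857, 9484371615792, 17885327550003, 10747091936306,
  17737688246837, 11690508544052, 17926935178807, 12987857038390, 17730826498617, 13882537930808, 17954168927803,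
  15213981922362, 17736723823165, 16087592728636, 17994694426175, 17453664894014, 18022764971523, 17735539034629,
  18062224985607, 17730791084553, 18091572532747, 17734540794381, 18129950416399, 17730708775441, 17885327533587,
  17737688230421, 17926935162391, 17730826482201, 17954168911387, 17736723806749, 17994694409759, 9776429376530,
  10455034142736, 11982566304790, 12695799244820, 14174595691546, 14921924128792, 16379650489374, 17161607100444,
  5091241302028, 6560124312590, 7284484804616, 8787995989002, 7289232754692, 8792743939078, 10747090338818,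
  17730707194432, 1143630614037057, 17730707194434, 17730707718738, 27076556587603, 17610448568912, 28064399000145,
  17733392204374, 29278398546519, 17647761228372, 30300869132885, 17730758312538, 31474655789659, 17679222833752,
  32531221873241, 17732360667742, 33675415618143, 17715453362780, 34766609875549, 1143630614037059, 17733391680070,
  29278398022215, 17730757788234, 31474655265355, 17732360143438, 33675415093839, 17681906795084, 32533905834573,
  17712768352840, 34763924865609, 17715402244676, 34766558757445, 17730707194560, 580680660615873, 1143630614037186,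
  1706580567458499, 17730707194564, 17730723971788, 22678528393933, 17816627512014, 23872533496527, 17730178712264,
  24877140607689, 17850710426314, 26105773884107, 580680660615877, 1143630614037190, 23872516719303, 17730707194688,
  580680660616001, 1143630614037315, 1706580567458626, 17730707194692, 17730723971916, 22678528394061, 17816627512142,
  23872533496655, 17730178712392, 24877140607817, 17850710426442, 26105773884235, 580680660616005, 1143630614037319,
  17816610734918, 17730707194816, 299205683905473, 580680660616130, 1143630614037444, 862155637326787,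
  1425105590748101, 1706580567458758, 2023239916258247]

noncomputable def iD (k a : ℕ) : Bool :=
  !al 64 fun w => Nat.beq w 0 || !(Nat.beq k (tv w) && (Nat.beq a 0 || Nat.beq a w))

noncomputable def ty2 (k a : ℕ) : ℕ :=
  cond (Nat.beq k one) 0 (cond (iD k a) 1
    (cond (Nat.beq (cnt 64 fun v => Nat.beq (ap6 k v) v) 32) 2
      (cond (Nat.beq (cnt 64 fun v => Nat.beq (ap6 k v) v) 8) 7
        (3 + cond (al 64 fun v => Nat.beq (b6 v (ap6 k v)) 0) 0 2 +
          cond (al 64 fun v => !Nat.beq (ap6 k v ^^^ v) a) 1 0))))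

theorem ty_eq (c : ℕ) : ty2 (ln c) (cl c 6) = ty c := by simp only [ty2, ap6_ln]; rfl

/-- evaluate the argument first -/
noncomputable def frc (f : ℕ → Bool) (x : ℕ) : Bool := Nat.rec (f 0) (fun n _ => f n.succ) x

theorem frc_eq (f : ℕ → Bool) (x : ℕ) : frc f x = f x := by cases x <;> rfl

noncomputable def ck (k a g h : ℕ) : Bool :=
  Nat.blt (ty2 k a) 8 && (Nat.beq (ty2 k a) 0 == Nat.beq k one) && (Nat.beq (ty2 k a) 1 == iD k a) &&
    okc g && frc okc h && Nat.beq (mm (mm h g) (k + a * 68719476736)) (mm (rp (ty2 k a)) (mm h g))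

theorem cls_ck : alT (frc fun k => !Nat.beq (mm k k) one || al 64 fun a =>
    !Nat.beq (ap6 k a) a || Nat.beq (k + a * 68719476736) one || ck k a (lk t1 (ix k))
      (lk t2 (64 * ty2 k 0 + ap6 (lk t1 (ix k)) a))) = true := by decide +kernel

theorem rp_ck : al 8 (fun i => tri (rp i) && Nat.beq (mm (rp i) (rp i)) one) = true := by decide +kernel

theorem nsq_ck : alT (fun k => !Nat.beq (mm k k) cd) = true := by decide +kernel

/-- generators -/
def gG (i : ℕ) : ℕ := cond (Nat.beq i 32) 17718853698 (tv i)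

def ws : List ℕ := [
  0, 0, 32, 132113, 132638, 132639, 132116, 132117, 132382, 132383, 132120, 132121, 132378, 132379, 132124, 132125,
  2066, 2067, 2064, 2065, 2070, 2071, 2068, 2069, 2074, 2075, 2072, 2073, 2078, 2079, 2076, 2077, 132256, 132128,
  132320, 132192, 132512, 132384, 132576, 132448, 132768, 132640, 132832, 132704, 133024, 132896, 133088, 132960,
  8456209, 8460306, 8456211, 8460304, 8456213, 8460310, 8456215, 8460308, 8456217, 8460314, 8456219, 8460312, 8456221,
  8460318, 8456223, 8460316]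

theorem gG_ck : al 33 (fun i => okc (gG i) && (Nat.beq (cl (gG i) 0) 1 ||
    (Nat.blt (cl (gG i) 0) 8 && Nat.blt (cl (gG i) 1) 8 && Nat.blt (cl (gG i) 2) 8))) = true := by
  decide +kernel

theorem ws_ck : al 64 (fun v => Nat.beq v 0 || (al 4 (fun i => Nat.blt (cl (ws.getD v 0) i) 33) &&
    Nat.beq (ap6 (gG (cl (ws.getD v 0) 3)) (ap6 (gG (cl (ws.getD v 0) 2)) (ap6 (gG (cl (ws.getD v 0) 1))
      (ap6 (gG (cl (ws.getD v 0) 0)) v)))) 1)) = true := by decide +kernel

def dx : List ℕ := [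
  0, 0, 0, 0, 34630287489, 1134141915265, 52883898561, 1152395526337, 34600395009, 1546428883201, 67903435073,
  1648451400001, 34635530625, 1958780879233, 57184371137, 2050049196481]

noncomputable def dk (c h : ℕ) : Bool :=
  !tri c || (Nat.beq (mm c c) one && (Nat.beq c cd || Nat.beq c (mm cd cz) || (okc h && Nat.beq (cl h 0) 1 &&
    Nat.beq (mm h cd) (mm cd h) && Nat.beq (mm h c) (mm cx h))))

theorem dx_ck : al 64 (fun w => Nat.beq w 0 || al 2 fun e =>
    dk (tv w + e * w * 68719476736) (dx.getD (2 * w + e) 0)) = true := by decide +kernel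

theorem blk_ck : al 512 (fun v => al 2 fun e => (!isD (mm cx (jc v e)) || Nat.beq (2 * v + e) 0 ||
    Nat.beq (2 * v + e) 2 || Nat.beq (2 * v + e) 544 || Nat.beq (2 * v + e) 547) &&
    (Nat.beq (mm (jc v e) cx) (mm cx (jc v e)) == Nat.beq (ap9 t0 v) v) &&
    (!(Nat.blt (v % 16) 4 && Nat.blt (v % 256) 32) || !Nat.beq (ty (mm cx (jc v e))) 7)) = true := by
  decide +kernel

variable {G : Type u} [Group G] [Finite G] (F : Fr G)

theorem κm {a b : G} (ha : a ∈ F.S) (hb : b ∈ F.S) : F.κ (a * b) = mm (F.κ a) (F.κ b) :=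
  F.κ_mul a (F.S_le ha) b (F.S_le hb)

omit [Finite G] in
theorem κjv {v : ℕ} (hv : v < 512) : F.κ (F.jv v) = jc v 0 := F.κ_ι _ (Fr.jc_tri hv (by decide))

theorem Jc {j : G} (hj : j ∈ F.J) : ∃ e < 2, j = F.ι (jc (F.π j) e) ∧ F.κ j = jc (F.π j) e := by
  obtain ⟨e, he, h⟩ : ∃ e < 2, j = F.ι (jc (F.π j) e) := (F.J_eq hj).elim (fun h => ⟨0, by decide, h⟩)
    fun h => ⟨1, by decide, h.trans (F.ι_jc (F.π_lt j)).symm⟩
  exact ⟨e, he, h, (congrArg F.κ h).trans (F.κ_ι _ (Fr.jc_tri (F.π_lt j) he))⟩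

theorem cjk {s t n : G} (hs : s ∈ F.N) (ht : t ∈ F.N) (hn : n ∈ F.N) (ss : s * s = 1) (tt : t * t = 1)
    (h : mm (F.κ n) (F.κ s) = mm (F.κ t) (F.κ n)) :
    ∃ o ∈ zpowers (cj n s * t), o ∈ F.O ∧ cj (o * n) s = t := by
  rw [← F.κ_mul n hn s hs, ← F.κ_mul t ht n hn, F.κ_eq (mul_mem hn hs) (mul_mem ht hn), mul_inv_rev,
    ← mul_assoc, ← F.κ_eq (cj_mem hn hs) ht] at h
  simpa only [cj_cj] using F.conj_O (cj_mem hn hs) ht (cj_sq ss) tt h

theorem tr1 {P : Subgroup G} (h1 : F.N ⊓ F.M ≤ P)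
    (h3 : ∀ n ∈ F.N, cl (F.κ n) 0 < 8 → cl (F.κ n) 1 < 8 → cl (F.κ n) 2 < 8 → n ∈ P)
    {v : ℕ} (hv : v < 64) (v0 : v ≠ 0) : ∃ p ∈ P ⊓ F.N, cj p (F.av v) = F.z := by
  have st : ∀ i < 33, ∃ p ∈ P ⊓ F.N, ∀ v < 64, cj p (F.av v) = F.av (ap6 (gG i) v) := fun i hi => by
    have := al_spec gG_ck hi
    simp only [Bool.and_eq_true, Bool.or_eq_true, Nat.beq_eq, Nat.blt_eq] at this
    obtain ⟨p, hp, e⟩ : ∃ p ∈ P ⊓ F.N, F.κ p = gG i := by
      rcases this.2 with h | h
      · obtain ⟨n, hn, e⟩ := F.lift this.1 h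
        exact ⟨n, ⟨h1 hn, hn.1⟩, e⟩
      · obtain ⟨n, hn, e⟩ := F.κ_sur _ this.1
        exact ⟨n, ⟨h3 n hn (e ▸ h.1.1) (e ▸ h.1.2) (e ▸ h.2), hn⟩, e⟩
    exact ⟨p, hp, fun v hv => e ▸ F.cj_av p hp.2 v hv⟩
  have := al_spec ws_ck hv
  simp only [Bool.and_eq_true, Bool.or_eq_true, Nat.beq_eq, v0, false_or] at this
  have k := fun i hi => st _ (Nat.blt_eq.mp (al_spec this.1 (i := i) hi))
  obtain ⟨p0, a0, e0⟩ := k 0 (by decide)
  obtain ⟨p1, a1, e1⟩ := k 1 (by decide)
  obtain ⟨p2, a2, e2⟩ := k 2 (by decide)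
  obtain ⟨p3, a3, e3⟩ := k 3 (by decide)
  exact ⟨p3 * (p2 * (p1 * p0)), mul_mem a3 (mul_mem a2 (mul_mem a1 a0)), by
    rw [← cj_cj, ← cj_cj, ← cj_cj, e0 _ hv, e1 _ (ap6_lt _ _), e2 _ (ap6_lt _ _), e3 _ (ap6_lt _ _), this.2,
      F.z_av]⟩

end Cl

namespace Fr

open Cl

variable {G : Type u} [Group G] [Finite G] (F : Fr G)

theorem cls {s : G} (hs : s ∈ F.S) (ss : s * s = 1) (s1 : s ≠ 1) :
    ty (F.κ s) < 8 ∧ (ty (F.κ s) = 0 ↔ s ∈ F.A) ∧ (ty (F.κ s) = 1 ↔ isD (F.κ s) = true) ∧
      ∃ n ∈ F.N, cj n s = F.ι (rp (ty (F.κ s))) := by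
  have t := F.S_tri s hs
  have e : mm (F.κ s) (F.κ s) = one := by rw [← κm F hs hs, ss, F.κ_one]
  have h := alT_spec cls_ck t
  rw [Cl.frc_eq, ← ln_mm, e, show Nat.beq (ln one) one = true by decide, Bool.not_true, Bool.false_or] at h
  have h := al_spec h (cl_lt (F.κ s) 6)
  have e6 : ap6 (F.κ s) (cl (F.κ s) 6) = cl (F.κ s) 6 := Nat.xor_eq_zero_iff.1 (by
    have := cl_mm6 (F.κ s) (F.κ s) (i := 6) (by decide)
    rw [e, if_pos rfl] at this
    exact this.symm)
  have n1 : F.κ s ≠ one := fun e => s1 (F.S_inj s hs 1 (one_mem _) (e.trans F.κ_one.symm))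
  rw [ap6_ln, e6, ck, ln_add (tri_ok t), ty_eq, Cl.frc_eq] at h
  simp only [Nat.beq_refl, Bool.not_true, Bool.false_or, Bool.or_eq_true, Nat.beq_eq, n1, false_or,
    Bool.and_eq_true, Nat.blt_eq, beq_iff_eq] at h
  obtain ⟨⟨⟨⟨⟨h1, h2⟩, h3⟩, h4⟩, h4'⟩, h5⟩ := h
  refine ⟨h1, ?_, by rw [← Nat.beq_eq, h3]; rfl, ?_⟩
  · rw [← Nat.beq_eq, h2, Nat.beq_eq]
    refine ⟨fun e => ?_, fun hA => ?_⟩
    · rw [F.S_inj s hs _ (F.A_le (F.av_mem (cl (F.κ s) 6))) (by
        rw [F.κ_av _ (cl_lt _ _), tr, ← e, ln_add (tri_ok t)])]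
      exact F.av_mem _
    · obtain ⟨v, hv, rfl⟩ := F.av_sur s hA
      rw [F.κ_av v hv]
      simp only [ln, tr, one]; omega
  · obtain ⟨n1, hn1, e1⟩ := F.κ_sur _ h4
    obtain ⟨n2, hn2, e2⟩ := F.κ_sur _ h4'
    have hn := mul_mem hn2 hn1
    have e := F.κ_mul _ hn2 _ hn1
    have r := al_spec rp_ck h1
    simp only [Bool.and_eq_true, Nat.beq_eq] at r
    obtain ⟨o, -, ho, e'⟩ := cjk F (F.S_le hs) (F.S_le (F.ι_mem _ r.1)) hn ss
      (by rw [← F.ι_mul r.1 r.1, r.2, F.ι_one]) (by rw [e, e1, e2, F.κ_ι _ r.1, h5])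
    exact ⟨_, mul_mem (F.O_le ho) hn, e'⟩

theorem nsq {s : G} (hs : s ∈ F.S) : s * s ≠ F.d ∧ s * s ≠ F.d * F.z := by
  have h := alT_spec nsq_ck (F.S_tri s hs)
  rw [← ln_mm, ← κm F hs hs] at h
  constructor <;> intro e <;> rw [e] at h
  · rw [F.κd] at h
    exact absurd h (by decide)
  · rw [κm F F.dS F.zS, F.κd, F.κz] at h
    exact absurd h (by decide +kernel)

theorem trN {P : Subgroup G} (h1 : F.N ⊓ F.M ≤ P) (h2 : F.O ≤ P)
    (h3 : ∀ n ∈ F.N, cl (F.κ n) 0 < 8 → cl (F.κ n) 1 < 8 → cl (F.κ n) 2 < 8 → n ∈ P) :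
    F.N ≤ P := fun n hn => by
  have c0 : ∀ c, ap6 c 1 = cl c 0 := fun c => ap6_pow c (i := 0) (by decide)
  obtain ⟨p, hp, e⟩ := tr1 F h1 h3 (cl_lt (F.κ n) 0) fun e => by
    have := okc_b6 (F.κ_ok n hn) (i := 0) (j := 5) (by decide) (by decide)
    rw [e] at this
    exact absurd this (by simp [b6, bt])
  have pn := mul_mem hp.2 hn
  rw [← c0, ← F.cj_av n hn 1 (by decide), cj_cj, F.cj_av _ pn 1 (by decide), c0, F.z_av] at e
  obtain ⟨m, hm, e'⟩ := F.lift (F.κ_ok _ pn) (F.av_inj (cl_lt _ _) (by decide) e)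
  exact (P.mul_mem_cancel_left hp.1).1 ((P.mul_mem_cancel_right (inv_mem (h1 hm))).1
    (h2 ((F.κ_eq pn hm.1).1 e'.symm)))

theorem trA {v : ℕ} (hv : v < 64) (v0 : v ≠ 0) : ∃ n ∈ F.N, cj n F.z = F.av v :=
  let ⟨p, hp, e⟩ := tr1 F (P := ⊤) le_top (fun _ _ _ _ _ => trivial) hv v0
  ⟨p⁻¹, inv_mem hp.2, by rw [← e, cj_inv]⟩

theorem Dx {s : G} (hs : s ∈ F.S) (h : isD (F.κ s) = true) :
    s = F.d ∨ s = F.d * F.z ∨ ∃ m ∈ F.M, Commute m F.d ∧ cj m F.x = s := by
  have t := F.S_tri s hs
  rw [isD, Bool.not_eq_true'] at h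
  obtain ⟨w, hw, h⟩ := al_ex h
  simp only [Bool.or_eq_false_iff, Bool.not_eq_false', Bool.and_eq_true, Bool.or_eq_true, Nat.beq_eq] at h
  obtain ⟨e, he, h2⟩ : ∃ e < 2, tv w + e * w * 68719476736 = F.κ s := by
    rcases h.2.2 with e | e
    exacts [⟨0, by decide, by rw [← h.2.1, ← ln_add (tri_ok t), e]; simp [ln]⟩,
      ⟨1, by decide, by rw [one_mul, ← h.2.1, ← e, ln_add (tri_ok t)]⟩]
  have := al_spec dx_ck hw
  rw [h.1, Bool.false_or] at this
  have := al_spec this he
  simp only [h2, dk, t, Bool.not_true, Bool.false_or, Bool.and_eq_true, Bool.or_eq_true, Nat.beq_eq] at this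
  rcases this with ⟨c, (e | e) | ⟨⟨⟨e1, e2⟩, e3⟩, e4⟩⟩
  · exact .inl (F.S_inj _ hs _ F.dS (e.trans F.κd.symm))
  · exact .inr (.inl (F.S_inj _ hs _ (mul_mem F.dS F.zS) (by rw [e, κm F F.dS F.zS, F.κd, F.κz])))
  obtain ⟨n, hn, e⟩ := F.lift e1 e2
  obtain ⟨o, h1, ho, e'⟩ := cjk F (F.S_le hs) (F.S_le F.xS) hn.1
    (F.S_inj _ (mul_mem hs hs) _ (one_mem _) (by rw [κm F hs hs, c, F.κ_one])) F.xx (by rw [e, F.κx, e4])
  have oM := zpowers_le.2 (mul_mem (cj_mem hn.2 (F.S_M hs)) (F.S_M F.xS)) h1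
  exact .inr (.inr ⟨(o * n)⁻¹, inv_mem (mul_mem oM hn.2),
    ((F.Y_cen (F.OM_Y ⟨ho, oM⟩) F.dJ).mul_left (F.lift_d hn (e ▸ e3))).inv_left, by rw [← e', cj_inv]⟩)

theorem D_x : F.D F.x := by
  obtain ⟨n, hn, e⟩ := F.κ_sur 17718853698 (by decide +kernel)
  obtain ⟨o, -, -, e'⟩ := cjk F (F.S_le F.dS) (F.S_le F.xS) hn F.dd F.xx
    (by rw [e, F.κd, F.κx]; decide +kernel)
  exact ⟨_, e'⟩

theorem blkx {j : G} (hj : j ∈ F.J) (h : isD (F.κ (F.x * j)) = true) :
    j = 1 ∨ j = F.w ∨ j = F.jv 272 ∨ j = F.jv 273 * F.z := by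
  obtain ⟨e, he, e1, e2⟩ := Jc F hj
  have := al_spec (al_spec blk_ck (F.π_lt j)) he
  rw [κm F F.xS (F.J_le hj), F.κx, e2] at h
  simp only [h, Bool.not_true, Bool.false_or, Bool.and_eq_true, Bool.or_eq_true, Nat.beq_eq] at this
  rcases this.1.1 with ((k | k) | k) | k
  · rw [show F.π j = 0 by omega, show e = 0 by omega] at e1
    exact .inl (e1.trans F.ι_one)
  · rw [show F.π j = 1 by omega, show e = 0 by omega] at e1
    exact .inr (.inl e1)
  · rw [show F.π j = 272 by omega, show e = 0 by omega] at e1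
    exact .inr (.inr (.inl e1))
  · rw [show F.π j = 273 by omega, show e = 1 by omega, F.ι_jc (by decide)] at e1
    exact .inr (.inr (.inr e1))

theorem xJ : (∃ j ∈ F.J, cj j F.x = F.x * F.w) ∧ (∃ j ∈ F.J, cj j F.x = F.x * F.jv 272) ∧
    (∃ j ∈ F.J, cj j F.x = F.x * (F.jv 273 * F.z)) ∧
    F.w * F.jv 272 * (F.jv 273 * F.z) = F.z := by
  have m : ∀ v < 512, F.jv v ∈ F.S := fun v hv => F.J_le (F.jv_mem hv)
  have k : ∀ v < 512, ∀ y ∈ F.S, mm (jc v 0) cx = mm (mm cx (F.κ y)) (jc v 0) →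
      ∃ j ∈ F.J, cj j F.x = F.x * y := fun v hv y hy e => ⟨_, F.jv_mem hv, mul_inv_eq_iff_eq_mul.2
    (F.S_inj _ (mul_mem (m v hv) F.xS) _ (mul_mem (mul_mem F.xS hy) (m v hv)) (by
      rw [κm F (m v hv) F.xS, κm F (mul_mem F.xS hy) (m v hv), κm F F.xS hy, κjv F hv, F.κx, e]))⟩
  have m1 := m 272 (by decide)
  have m2 := mul_mem (m 273 (by decide)) F.zS
  have k2 : F.κ (F.jv 273 * F.z) = mm (jc 273 0) cz := by
    rw [κm F (m 273 (by decide)) F.zS, κjv F (by decide), F.κz]
  refine ⟨k 8 (by decide) _ F.wS (by rw [F.κw]; decide +kernel),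
    k 128 (by decide) _ m1 (by rw [κjv F (by decide)]; decide +kernel),
    k 136 (by decide) _ m2 (by rw [k2]; decide +kernel),
    F.S_inj _ (mul_mem (mul_mem F.wS m1) m2) _ F.zS ?_⟩
  rw [κm F (mul_mem F.wS m1) m2, κm F F.wS m1, k2, κjv F (by decide), F.κw, F.κz]
  decide +kernel

theorem CJx {j : G} (hj : j ∈ F.J) : Commute j F.x ↔ ap9 t0 (F.π j) = F.π j := by
  obtain ⟨e, he, -, e2⟩ := Jc F hj
  have := al_spec (al_spec blk_ck (F.π_lt j)) he
  simp only [Bool.and_eq_true, beq_iff_eq] at this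
  have hS := F.J_le hj
  rw [← Nat.beq_eq, ← this.1.2, Nat.beq_eq, ← e2, ← F.κx, ← κm F hS F.xS, ← κm F F.xS hS]
  exact ⟨fun h => congrArg F.κ h, F.S_inj _ (mul_mem hS F.xS) _ (mul_mem F.xS hS)⟩

/-- off type `b₃` -/
theorem xJ_ty {j : G} (hj : j ∈ F.J) (h : F.π j % 256 ∈ [0, 1, 2, 3, 16, 17, 18, 19]) :
    ty (F.κ (F.x * j)) ≠ 7 := by
  obtain ⟨e, he, -, e2⟩ := Jc F hj
  have := al_spec (al_spec blk_ck (F.π_lt j)) he
  simp only [List.mem_cons, List.not_mem_nil, or_false] at h
  simp only [Bool.and_eq_true, Bool.or_eq_true, Bool.not_eq_true', Nat.blt_eq,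
    ← Bool.not_eq_true, Nat.beq_eq] at this
  rw [κm F F.xS (F.J_le hj), F.κx, e2]
  exact this.2.resolve_left (by omega)

end Fr

end Cfsg.Agent.FE
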