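import Cfsg.Agent.FE.Defs
import Cfsg.Agent.GOLD.Main

set_option autoImplicit false

namespace Cfsg.Agent.FE

open Subgroup H42

universe u

/-- either `⟨A^H⟩ ≤ A O(H)`, or there is a component `L` with `U = A ∩ L`, `B = C_A(L / O(L))` -/
theorem gold {G : Type u} [Group G] [Finite G] {H A : Subgroup G} (hsc : GOLD.SC H A)
    (hA : GOLD.EA A) :
    (∀ h ∈ H, ∀ a ∈ A, cj h a ∈ A ⊔ H44.Oppof 2 H) ∨
    ∃ L U B R : Subgroup G, L ≤ H ∧ U ≤ A ∧ B ≤ A ∧ A ≤ B ⊔ U ∧ 4 ≤ B.relIndex A ∧
      R ≤ L ∧ GOLD.TransOn R A B ∧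
      (∀ m ∈ L ⊓ normalizer (A : Set G), ∃ r ∈ R, ∀ a ∈ A, cj m a * (cj r a)⁻¹ ∈ B) ∧
      ∀ n ∈ H ⊓ normalizer (A : Set G),
        ((∀ l ∈ L, cj n l ∈ L) ∧ (∀ b ∈ B, cj n b ∈ B) ∧ ∀ u ∈ U, cj n u ∈ U) ∨
        ∀ u ∈ U, cj n u ∈ B := by
  have hs := GOLD.str hsc hA
  by_cases hex : ∃ L, GOLD.AC H A L
  · obtain ⟨L, hL⟩ := hex
    have hd := hs.acd L hL
    obtain ⟨R, r1, r2, r3⟩ := hd.trans
    refine Or.inr ⟨L, A ⊓ L, A ⊓ GOLD.CO L, R, hL.1.le, inf_le_left, inf_le_left, hd.sup, ?_, r1,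
      r2, fun m hm => ?_, fun n hn => ?_⟩
    · rw [inf_comm, inf_relIndex_right]; exact hd.four
    · obtain ⟨r, h1, h2⟩ := r3 m hm
      exact ⟨r, h1, fun a ha => ⟨A.mul_mem (cj_nm hm.2 ha) (A.inv_mem (cj_nm (r2.norm h1) ha)),
        h2 a ha⟩⟩
    · by_cases e : H49.cj n L = L
      · have hnL : n ∈ normalizer (L : Set G) := H49.mem_norm_iff_cj.2 e
        exact Or.inl ⟨fun l hl => cj_nm hnL hl,
          fun b hb => ⟨cj_nm hn.2 hb.1, cj_nm (GOLD.norm_le_norm_CO L hnL) hb.2⟩,
          fun u hu => ⟨cj_nm hn.2 hu.1, cj_nm hnL hu.2⟩⟩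
      · refine Or.inr fun u hu => ⟨cj_nm hn.2 hu.1, ?_⟩
        exact GOLD.le_CO_of_ne hL.1 (H71.pcomp_cj hL.1 hn.1) (Ne.symm e)
          (H49.mem_cj'.2 ⟨u, hu.2, rfl⟩)
  · left
    intro h hh a ha
    have h1 := hs.K_le (GOLD.cj_le_Kof hh (H49.mem_cj'.2 ⟨a, ha, rfl⟩))
    have e : {J | GOLD.AC H A J} = ∅ := Set.eq_empty_of_forall_notMem fun J hJ => hex ⟨J, hJ⟩
    rwa [e, sSup_empty, sup_bot_eq] at h1

section
open Equiv

theorem alt_key {n : ℕ} {x : alternatingGroup (Fin n)} (xx : x * x = 1) {β : Type} (f : β → Fin n)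
    (hf : Function.Injective f) (x0 h0 : Perm β) (hx : ∀ b, x.1 (f b) = f (x0 b))
    (h4 : (x0 * (h0 * h0) * x0⁻¹ * (h0 * h0)⁻¹) ^ 4 = 1)
    (h2 : (x0 * (h0 * h0) * x0⁻¹ * (h0 * h0)⁻¹) ^ 2 ≠ 1) :
    ∃ g, (x * cj g x) ^ 4 = 1 ∧ (x * cj g x) ^ 2 ≠ 1 := by
  classical
  let i := Perm.viaEmbeddingHom (⟨f, hf⟩ : β ↪ Fin n)
  have i1 : ∀ p b, i p (f b) = f (p b) := fun p b => Perm.viaEmbedding_apply p ⟨f, hf⟩ b
  have i2 : ∀ p a, a ∉ Set.range f → i p a = a := fun p a ha =>
    Perm.viaEmbedding_apply_of_notMem p ⟨f, hf⟩ a ha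
  have x2 : x.1 * x.1 = 1 := congrArg Subtype.val xx
  have xa : ∀ a, x.1 (x.1 a) = a := fun a => by rw [← Perm.mul_apply, x2, Perm.one_apply]
  have k : ∀ p, x.1 * i p = i (x0 * p * x0⁻¹) * x.1 := fun p => by
    refine Equiv.ext fun a => ?_
    rw [Perm.mul_apply, Perm.mul_apply]
    by_cases ha : a ∈ Set.range f
    · obtain ⟨b, rfl⟩ := ha
      rw [i1, hx, hx, i1]
      simp
    · rw [i2 p a ha, i2]
      rintro ⟨b, e⟩
      exact ha ⟨x0 b, by rw [← hx, e, xa]⟩
  have hs : Perm.sign (i (h0 * h0)) = 1 := by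
    rw [map_mul, Perm.sign_mul, Int.units_mul_self]
  have e : (x * cj (⟨i (h0 * h0), Perm.mem_alternatingGroup.2 hs⟩ : alternatingGroup (Fin n)) x).1 =
      i (x0 * (h0 * h0) * x0⁻¹ * (h0 * h0)⁻¹) := by
    change x.1 * (i (h0 * h0) * x.1 * (i (h0 * h0))⁻¹) = _
    rw [← mul_assoc, ← mul_assoc, k, mul_assoc _ x.1 x.1, x2, mul_one, map_mul _ _ (h0 * h0)⁻¹,
      map_inv]
  refine ⟨⟨i (h0 * h0), Perm.mem_alternatingGroup.2 hs⟩, Subtype.ext ?_, fun h => h2 ?_⟩
  · rw [SubgroupClass.coe_pow, e, ← map_pow, h4, map_one]; rfl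
  · have := congrArg Subtype.val h
    rw [SubgroupClass.coe_pow, e, ← map_pow] at this
    exact Perm.viaEmbeddingHom_injective _ (this.trans (map_one i).symm)

theorem pairs {α : Type} [Fintype α] [DecidableEq α] {x : Perm α} (xa : ∀ a, x (x a) = a) (m : ℕ)
    (hm : 2 * m ≤ x.support.card) : ∃ a : Fin m → α, (∀ i, x (a i) ≠ a i) ∧
      ∀ i j, i ≠ j → a i ≠ a j ∧ a i ≠ x (a j) := by
  induction m with
  | zero => exact ⟨Fin.elim0, fun i => i.elim0, fun i => i.elim0⟩
  | succ m ih =>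
    obtain ⟨a, h1, h2⟩ := ih (by omega)
    have hc : (Finset.univ.image a ∪ Finset.univ.image fun i => x (a i)).card < x.support.card := by
      have e1 := Finset.card_image_le (s := Finset.univ) (f := a)
      have e2 := Finset.card_image_le (s := Finset.univ) (f := fun i => x (a i))
      have e3 := Finset.card_union_le (Finset.univ.image a) (Finset.univ.image fun i => x (a i))
      rw [Finset.card_univ, Fintype.card_fin] at e1 e2
      omega
    obtain ⟨b, b1, b2⟩ := Finset.exists_mem_notMem_of_card_lt_card hc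
    simp only [Finset.mem_union, Finset.mem_image, Finset.mem_univ, true_and, not_or,
      not_exists] at b2
    refine ⟨Fin.cons b a, fun i => ?_, fun i j hij => ?_⟩
    · refine Fin.cases ?_ (fun i => ?_) i
      · exact Perm.mem_support.1 b1
      · exact h1 i
    · induction i using Fin.cases with
      | zero =>
        induction j using Fin.cases with
        | zero => exact (hij rfl).elim
        | succ j => exact ⟨fun e => b2.1 j e.symm, fun e => b2.2 j e.symm⟩
      | succ i =>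
        induction j using Fin.cases with
        | zero => exact ⟨b2.1 i, fun e => b2.2 i (by
            have e' : a i = x b := e
            rw [e', xa])⟩
        | succ j => exact h2 i j fun e => hij (congrArg _ e)

/-- an involution of `A_n`, `n ≥ 6`, has a product of order four with a conjugate -/
theorem alt4 {n : ℕ} (hn : 6 ≤ n) {x : alternatingGroup (Fin n)} (xx : x * x = 1) (x1 : x ≠ 1) :
    ∃ g, (x * cj g x) ^ 4 = 1 ∧ (x * cj g x) ^ 2 ≠ 1 := by
  have x2 : x.1 * x.1 = 1 := congrArg Subtype.val xx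
  have xa : ∀ a, x.1 (x.1 a) = a := fun a => by rw [← Perm.mul_apply, x2, Perm.one_apply]
  have : Fact (Nat.Prime 2) := ⟨Nat.prime_two⟩
  have hct := Perm.cycleType_of_pow_prime_eq_one (p := 2) (σ := x.1) (by rw [sq, x2])
  set k := Multiset.card x.1.cycleType with hk
  have hsup : x.1.support.card = 2 * k := by
    rw [← Perm.sum_cycleType, hct, Multiset.sum_replicate, smul_eq_mul, mul_comm]
  have hev : Even k := by
    have h1 := Perm.sign_of_cycleType x.1
    rw [Perm.mem_alternatingGroup.1 x.2, Perm.sum_cycleType, hsup, ← hk] at h1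
    have h2 := (neg_one_pow_eq_one_iff_even (by decide)).1 h1.symm
    obtain ⟨r, hr⟩ := h2
    exact ⟨r - k, by omega⟩
  have k0 : k ≠ 0 := fun e => x1 (Subtype.ext (Perm.support_eq_empty_iff.1
    (Finset.card_eq_zero.1 (by rw [hsup, e]))))
  obtain ⟨r, hr⟩ := hev
  have xi : ∀ {a b : Fin n}, x.1 a = x.1 b ↔ a = b := x.1.apply_eq_iff_eq
  by_cases h4 : 4 ≤ k
  · obtain ⟨a, h1, h2⟩ := pairs xa 4 (by omega)
    refine alt_key xx (fun p : Fin 4 × Bool => cond p.2 (x.1 (a p.1)) (a p.1)) ?_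
      (Equiv.prodCongr (Equiv.refl _) (swap false true))
      (List.formPerm [(0, false), (0, true), (1, false), (2, false), (3, false)]) ?_ (by decide +kernel) (by decide +kernel)
    · rintro ⟨i, e⟩ ⟨j, f⟩ h
      by_cases hij : i = j
      · subst hij
        cases e <;> cases f
        · rfl
        · exact (h1 i h.symm).elim
        · exact (h1 i h).elim
        · rfl
      · cases e <;> cases f
        · exact ((h2 i j hij).1 h).elim
        · exact ((h2 i j hij).2 h).elim
        · exact ((h2 j i (Ne.symm hij)).2 h.symm).elim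
        · exact ((h2 i j hij).1 (xi.1 h)).elim
    · rintro ⟨i, e⟩
      cases e
      · rfl
      · exact xa _
  · obtain ⟨a, h1, h2⟩ := pairs xa 2 (by omega)
    have hc : 1 < x.1.supportᶜ.card := by
      rw [Finset.card_compl, Fintype.card_fin]; omega
    obtain ⟨b, hb, c, hc, bc⟩ := Finset.one_lt_card.1 hc
    have xb : x.1 b = b := Perm.notMem_support.1 (Finset.mem_compl.1 hb)
    have xc : x.1 c = c := Perm.notMem_support.1 (Finset.mem_compl.1 hc)
    have n1 : ∀ y, x.1 y = y → ∀ i, a i ≠ y ∧ x.1 (a i) ≠ y := fun y hy i =>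
      ⟨fun e => h1 i (by rw [e, hy]), fun e => h1 i (by rw [e, ← xa (a i), e, hy])⟩
    refine alt_key xx (Sum.elim (fun p : Fin 2 × Bool => cond p.2 (x.1 (a p.1)) (a p.1))
      fun e : Bool => cond e b c) ?_
      (Equiv.sumCongr (Equiv.prodCongr (Equiv.refl _) (swap false true)) (Equiv.refl _))
      (List.formPerm [.inl (0, true), .inl (1, true), .inl (1, false), .inr true, .inr false]) ?_
      (by decide +kernel) (by decide +kernel)
    · refine Function.Injective.sumElim ?_ ?_ ?_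
      · rintro ⟨i, e⟩ ⟨j, f⟩ h
        by_cases hij : i = j
        · subst hij
          cases e <;> cases f
          · rfl
          · exact (h1 i h.symm).elim
          · exact (h1 i h).elim
          · rfl
        · cases e <;> cases f
          · exact ((h2 i j hij).1 h).elim
          · exact ((h2 i j hij).2 h).elim
          · exact ((h2 j i (Ne.symm hij)).2 h.symm).elim
          · exact ((h2 i j hij).1 (xi.1 h)).elim
      · intro e f h
        cases e <;> cases f
        · rfl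
        · exact (bc h.symm).elim
        · exact (bc h).elim
        · rfl
      · rintro ⟨i, e⟩ f
        cases e <;> cases f
        · exact (n1 c xc i).1
        · exact (n1 b xb i).1
        · exact (n1 c xc i).2
        · exact (n1 b xb i).2
    · rintro (⟨i, e⟩ | e) <;> cases e
      · rfl
      · exact xa _
      · exact xc
      · exact xb

end

end Cfsg.Agent.FE
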