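import Cfsg.Agent.FE.Two
import Cfsg.Agent.H4.GW7
import Cfsg.Agent.H96.PaJ
import Cfsg.Agent.S1713

/-! The end of the second case: `C(d) / ⟨d⟩ = U₆(2)`. -/

set_option autoImplicit false

namespace Cfsg.Agent.FE

open Subgroup H42
open scoped commutatorElement

universe u

namespace Fn

variable {G : Type u} [Group G] [Finite G] {F : Fr G} {g : G} {T : Subgroup G}

omit [Finite G] in
theorem Dcj {e : G} (he : F.D e) (k : G) : F.D (cj k e) :=
  let ⟨a, ha⟩ := he; ⟨k * a, by rw [← cj_cj, ha]⟩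

theorem Dsq {e : G} (he : F.D e) : e * e = 1 :=
  let ⟨_, ha⟩ := he; ha ▸ cj_sq F.dd

theorem Ddz {c : G} (hc : Commute c F.d) : F.D (F.d * cj c F.z) := by
  have := Dcj (F := F) ⟨F.a, F.ad⟩ c
  rwa [cj_mul, cj_eq.2 hc] at this

variable (h : F.Two g T)
include h

theorem nzd {c : G} (hc : Commute c F.d) : cj c F.z ≠ F.z * F.d := fun e => h.sy.nd (by
  have := Ddz hc
  rwa [e, (F.J_d F.zJ).eq, ← mul_assoc, F.dd, one_mul] at this)

theorem DM {e : G} (he : F.D e) (hM : e ∈ F.M) (hd : Commute e F.d) :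
    e = F.d ∨ e = F.d * F.z ∨ ∃ m ∈ F.M, Commute m F.d ∧ cj m F.x = e := by
  have : Fact (Nat.Prime 2) := ⟨Nat.prime_two⟩
  obtain ⟨k, hk, hT⟩ := (h.sy.sylR.of_le (K := F.M ⊓ F.Cd) (inf_le_inf_right _ h.sy.leM) inf_le_right).exists_conj
    (H96.Par.isP_inv (Dsq he)) (zpowers_le.2 ⟨hM, mem_cen.2 hd⟩)
  have kd := (mem_cen.1 hk.2).inv_left
  rcases h.DF (Dcj he k) (hT e (mem_zpowers e)).1 with e1 | e1 | ⟨m, hm, md, e1⟩
  · exact .inl (by rw [← cj_inv k e, e1, cj_eq.2 kd])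
  · exact .inr (.inl (by rw [← cj_inv k e, e1, cj_mul, cj_eq.2 kd, cj_eq.2 (F.M_z hk.1).inv_left]))
  · exact .inr (.inr ⟨k⁻¹ * m, mul_mem (inv_mem hk.1) hm, kd.mul_left md, by rw [← cj_cj, e1, cj_inv]⟩)

theorem exc : ∃ c, Commute c F.d ∧ cj c F.z = F.d * F.x := by
  have : Fact (Nat.Prime 2) := ⟨Nat.prime_two⟩
  obtain ⟨k, -, hk⟩ := h.pair ⟨1, by simp [cj]⟩ F.D_x (h.sy.le F.dS) (h.sy.le F.xS) fun e => by
    have := F.κd
    rw [e, F.κx] at this
    exact absurd this (by decide)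
  have De : F.D (cj k⁻¹ F.d) := ⟨_, rfl⟩
  have ez : Commute (cj k⁻¹ F.d) F.z := by
    rw [← cj_inv k F.z, cj_comm, hk]
    exact (Commute.refl _).mul_right F.xd.symm
  obtain ⟨n, hn, hT⟩ := (h.sy.syl.of_le (K := F.H) (fun t ht => mem_cen.2 (F.M_z (h.sy.leM ht))) le_top).exists_conj
    (H96.Par.isP_inv (Dsq De)) (zpowers_le.2 (mem_cen.2 ez))
  have nz := mem_cen.1 hn
  obtain ⟨n, nz, e⟩ : ∃ n, Commute n F.z ∧ cj n (cj k⁻¹ F.d) = F.d := by
    rcases h.Dz (Dcj De n) (by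
      have := Dcj (Dcj F.D_x k⁻¹) n
      rwa [show F.x = F.d * cj k F.z by rw [hk, ← mul_assoc, F.dd, one_mul], cj_mul k⁻¹, cj_inv, cj_mul n,
        cj_eq.2 nz] at this) (hT _ (mem_zpowers _)) with e | e
    · exact ⟨n, nz, e⟩
    · exact ⟨F.a * n, (F.S_z F.aS).mul_left nz, by
        rw [← cj_cj, e, cj_mul, F.ad, cj_eq.2 (F.S_z F.aS), mul_assoc, F.zz, mul_one]⟩
  refine ⟨k * n⁻¹, cj_eq.1 ?_, by rw [← cj_cj, cj_eq.2 nz.inv_left, hk]⟩
  nth_rw 1 [← e]
  rw [← cj_cj, cj_inv, cj_inv']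

theorem inner (hY : F.Y = ⊥) {c : G} (hc : c ∈ F.M) (cd : Commute c F.d)
    (hJ : ∀ j ∈ F.J, cj c j = j ∨ cj c j = j * F.d) : F.inZ c := by
  have cz : ∀ {c}, (∀ j ∈ F.J, Commute c j) → F.inZ c := fun hc => by
    obtain ⟨t, ht, y, hy, rfl⟩ := F.cenJ hc
    rw [hY, mem_bot] at hy
    rwa [hy, mul_one]
  let P : Subgroup G :=
    { carrier := {c | c ∈ F.M ⊓ F.Cd ∧ ∀ j ∈ F.J, cj c j = j ∨ cj c j = j * F.d}
      one_mem' := ⟨one_mem _, fun j _ => .inl (by simp [cj])⟩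
      mul_mem' := fun {a b} ha hb => ⟨mul_mem ha.1 hb.1, fun j hj => by
        rw [← cj_cj]
        rcases hb.2 j hj with e | e <;> rw [e]
        · exact ha.2 j hj
        · rw [cj_mul, cj_eq.2 (mem_cen.1 ha.1.2)]
          rcases ha.2 j hj with e | e <;> rw [e]
          exacts [.inr rfl, .inl (by rw [mul_assoc, F.dd, mul_one])]⟩
      inv_mem' := fun {a} ha => ⟨inv_mem ha.1, fun j hj => (ha.2 j hj).imp
        (fun e => by nth_rw 1 [← e, cj_inv]) fun e => by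
          nth_rw 1 [show j = cj a (j * F.d) by
            rw [cj_mul, e, cj_eq.2 (mem_cen.1 ha.1.2), mul_assoc, F.dd, mul_one], cj_inv]⟩ }
  have cJ : c ∈ F.J := h.o2 (P := P) (fun p => ⟨2, Subtype.ext (by
      have : F.inZ (p * p) := cz fun j hj => cj_eq.1 (by
        rw [← cj_cj]
        rcases p.2.2 j hj with e | e <;> rw [e]
        · exact e
        · rw [cj_mul, e, cj_eq.2 (mem_cen.1 p.2.1.2), mul_assoc, F.dd, mul_one])
      change (p : G) ^ (2 * 2) = 1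
      rw [pow_mul, sq (p : G), sq]
      rcases this with e | e | e | e <;> rw [e]
      exacts [one_mul 1, F.zz, F.dd, Dsq ⟨F.a, F.ad⟩])⟩) (fun p hp => hp.1)
    (fun m hm md p hp => ⟨cj_mem (P := F.M ⊓ F.Cd) ⟨hm, mem_cen.2 md⟩ hp.1, fun j hj => by
      rw [← cj_inv' m j, cj_sw]
      rcases hp.2 _ (cj_nm (inv_mem hm) hj) with e | e <;> rw [e]
      exacts [.inl rfl, .inr (by rw [cj_mul, cj_eq.2 md])]⟩) ⟨⟨hc, mem_cen.2 cd⟩, hJ⟩
  refine cz fun j hj => cj_eq.1 ((hJ j hj).resolve_right fun e => ?_)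
  rw [F.cj_J cJ hj] at e
  split_ifs at e
  · exact F.d_ne (left_eq_mul.1 e)
  · exact F.dz_ne (mul_right_cancel ((F.J_d hj).symm.eq.trans e.symm))

omit h in
theorem dcomm : (⟨F.d, mem_cen.2 (Commute.refl _)⟩ : F.Cd) ∈ commutator F.Cd := by
  let P := (commutator F.Cd).map F.Cd.subtype
  have k : ∀ a b, Commute a F.d → Commute b F.d → cj a b * b⁻¹ ∈ P := fun a b ha hb =>
    ⟨⁅⟨a, mem_cen.2 ha⟩, ⟨b, mem_cen.2 hb⟩⁆, commutator_mem_commutator trivial trivial, rfl⟩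
  have k2 : ∀ i < 4, ∀ v < 512, ∃ j ∈ F.J, j ∈ P ∧ F.π j = ap9 (gn i) v ^^^ v := fun i hi v hv => by
    obtain ⟨n, hn, -, e⟩ := F.rz_gn hi
    have hj := F.jv_mem hv
    exact ⟨_, mul_mem (cj_nm hn.1.2 hj) (inv_mem hj), k n _ (mem_cen.1 hn.2) (F.J_d hj), by
      rw [F.π_mul (cj_nm hn.1.2 hj) (inv_mem hj), F.ρ_ap hn.1.2 hj, F.π_inv hj, F.π_jv hv, e]⟩
  have zP : F.z ∈ P := by
    have h1 := F.jv_mem (v := 1) (by decide)
    have h2 := F.jv_mem (v := 128) (by decide)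
    have := k _ _ (F.J_d h1) (F.J_d h2)
    rwa [F.cj_J h1 h2, F.π_jv (by decide), F.π_jv (by decide), if_neg (by decide), mul_inv_cancel_right] at this
  obtain ⟨a, ha, aP, e1⟩ := k2 2 (by decide) 64 (by decide)
  obtain ⟨b, hb, bP, e2⟩ := k2 3 (by decide) 16 (by decide)
  have := (F.π_zero (mul_mem F.dJ (inv_mem (mul_mem ha hb)))).1 (by
    rw [F.π_mul F.dJ (inv_mem (mul_mem ha hb)), F.π_inv (mul_mem ha hb), F.π_mul ha hb, F.πd, e1, e2]
    decide +kernel)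
  refine (mem_map_iff_mem (subtype_injective _)).1 (?_ : F.d ∈ P)
  rcases this with e | e <;> rw [mul_inv_eq_iff_eq_mul.1 e]
  exacts [mul_mem (one_mem P) (mul_mem aP bP), mul_mem zP (mul_mem aP bP)]

end Fn

open Fn H4.GF H15 H97 H29 in
theorem Fr.Two.fin {G : Type u} [Group G] [Finite G] {F : Fr G} {g : G} {T : Subgroup G}
    (h : F.Two g T) (hm : F.H ≤ F.M) (hY : F.Y = ⊥) : Cfsg.Spor.IsoFi22 G := by
  have : Fact (Nat.Prime 2) := ⟨Nat.prime_two⟩
  have := H96.Par.cen_normal F.d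
  let f := QuotientGroup.mk' ((zpowers F.d).subgroupOf F.Cd)
  have fs : Function.Surjective f := QuotientGroup.mk'_surjective _
  have fe : ∀ a b : F.Cd, f a = f b ↔ (b : G) = a ∨ (b : G) = a * F.d := fun a b => by
    simp only [f, QuotientGroup.mk'_apply, QuotientGroup.eq, mem_subgroupOf, mem_zpowers_two F.dd, coe_mul,
      coe_inv, inv_mul_eq_iff_eq_mul, mul_one]
  have JC : F.J ≤ F.Cd := fun j hj => mem_cen.2 (F.J_d hj)
  let z' : F.Cd := ⟨F.z, JC F.zJ⟩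
  let d' : F.Cd := ⟨F.d, JC F.dJ⟩
  have fd : f d' = 1 := (QuotientGroup.eq_one_iff _).2 (mem_zpowers _)
  let Q := (F.J.subgroupOf F.Cd).map f
  have cm : ∀ c : F.Cd, f c * f z' = f z' * f c ↔ Commute (c : G) F.z := fun c => by
    rw [← mul_inv_eq_iff_eq_mul, ← map_inv, ← map_mul, ← map_mul, eq_comm, fe]
    exact ⟨fun e => cj_eq.1 (e.resolve_right (nzd h (mem_cen.1 c.2))), fun e => .inl (cj_eq.2 e)⟩
  have z1 : f z' ≠ 1 := fun e => by
    rcases (fe 1 z').1 (f.map_one.trans e.symm) with e | e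
    exacts [F.z_ne e, F.dz_ne (e.trans (one_mul _)).symm]
  have lg : ∀ m, (∀ a ∈ Q, m * a = a * m) → m = 1 ∨ m = f z' := fun m hc => by
    obtain ⟨c, rfl⟩ := fs m
    rcases Fn.inner h hY (hm (mem_cen.2 ((cm c).1 (hc _ ⟨z', F.zJ, rfl⟩)))) (mem_cen.1 c.2) (fun j hj => by
      have := hc _ ⟨⟨j, JC hj⟩, hj, rfl⟩
      rwa [← mul_inv_eq_iff_eq_mul, ← map_inv, ← map_mul, ← map_mul, eq_comm, fe] at this) with e | e | e | e
    · exact .inl (by rw [show c = 1 from Subtype.ext e, map_one])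
    · exact .inr (congrArg f (Subtype.ext e))
    · exact .inl (by rw [show c = d' from Subtype.ext e, fd])
    · exact .inr (by rw [show c = d' * z' from Subtype.ext e, map_mul, fd, one_mul])
  have ex : EX Q (f z') := by
    refine ⟨⟨z', F.zJ, rfl⟩, z1, by rw [← map_mul, show z' * z' = 1 from Subtype.ext F.zz, map_one], ?_, ?_, ?_,
      fun m _ => lg m⟩
    · rintro _ ⟨j, hj, rfl⟩
      exact (cm j).2 (F.S_z (F.J_le hj))
    · rintro _ ⟨j, hj, rfl⟩ _ ⟨k, hk, rfl⟩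
      have := F.cj_J hj hk
      rw [← map_inv, ← map_mul, ← map_mul, ← map_mul]
      split_ifs at this
      exacts [.inl (congrArg f (Subtype.ext this)), .inr (congrArg f (Subtype.ext this))]
    · rintro _ ⟨j, hj, rfl⟩
      have := F.sq_J hj
      rw [← map_mul, ← f.map_one]
      split_ifs at this
      exacts [.inl (congrArg f (Subtype.ext this)), .inr (congrArg f (Subtype.ext this))]
  have od := orderOf_two F.d_ne F.dd
  have cQ : Nat.card Q = 512 := by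
    have := card_mul_relIndex (X := f.ker) (Y := F.J.subgroupOf F.Cd) (by
      rw [QuotientGroup.ker_mk']
      exact comap_mono (zpowers_le.2 F.dJ))
    rw [relIndex_ker, QuotientGroup.ker_mk', Nat.card_congr (subgroupOfEquivOfLe JC).toEquiv, F.card_J,
      Nat.card_congr (subgroupOfEquivOfLe (zpowers_le.2 d'.2)).toEquiv, Nat.card_zpowers, od] at this
    change 2 * Nat.card Q = _ at this
    omega
  have L : LX Q (f z') := lx_of_extraspecial (orderOf_two z1 ex.sq) (ex.isExtraspecial (by omega))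
    (fun m hc => (lg m fun a ha => (hc a ha).symm).elim (fun e => e ▸ one_mem _) fun e => e ▸ ex.mem)
    (fun a ha => mem_centralizer_singleton_iff.2 (ex.cen a ha)) fun m hc => by
      obtain ⟨c, rfl⟩ := fs m
      refine mem_normalizer_of_conj_mem ?_
      rintro _ ⟨j, hj, rfl⟩
      exact ⟨c * j * c⁻¹, cj_nm (P := F.J) (hm (mem_cen.2 ((cm c).1 (mem_centralizer_singleton_iff.1 hc)))) hj,
        by simp⟩
  have fc : ∀ c : F.Cd, f c * f z' * (f c)⁻¹ = f (c * z' * c⁻¹) := fun c => by simp only [map_mul, map_inv]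
  have mQ : ∀ c : F.Cd, f c ∈ Q ↔ (c : G) ∈ F.J := fun c => ⟨fun ⟨j, hj, e⟩ => by
    rcases (fe j c).1 e with e | e <;> rw [e]
    exacts [hj, mul_mem hj F.dJ], fun hc => ⟨c, hc, rfl⟩⟩
  obtain ⟨c0, c0d, e0⟩ := exc h
  have wJ : ∀ c, Commute c F.d → cj c F.z ∈ F.J → cj c F.z = F.z := fun c hc hJ => by
    rcases h.DJ (Ddz hc) (mul_mem F.dJ hJ) with e | e
    exacts [absurd (cj_eq_one.1 (mul_eq_left.1 e)) F.z_ne, mul_left_cancel e]
  have c5 : W5 (H4.GF.cls (f z')) (fam (f z') Q) := by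
    refine w5_fam L (wb_fam L (by omega) fun m hc => ?_) ⟨_, ⟨f ⟨c0, mem_cen.2 c0d⟩, rfl⟩, ?_, ?_⟩
      (fun m hc hz => ?_) ?_
    · obtain ⟨c, rfl⟩ := fs m
      rw [fc] at hc ⊢
      exact congrArg f (Subtype.ext (wJ c (mem_cen.1 c.2) ((mQ _).1 hc)))
    · rw [fc]
      intro e
      have : cj c0 F.z ∈ F.J := (mQ _).1 (e ▸ ex.mem)
      have := (F.ρ_ker (F.S_M F.xS)).2 (mem_sup_left ((mul_mem_cancel_left F.dJ).1 (e0 ▸ this)))
      rw [F.ρx] at this
      exact absurd this (by decide)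
    · rw [fc, cm]
      change Commute (cj c0 F.z) F.z
      rw [e0]
      exact F.S_z (mul_mem F.dS F.xS)
    · obtain ⟨c, rfl⟩ := fs m
      refine (mQ c).2 (h.o2 (P := (((pCore 2 _).comap f).map F.Cd.subtype) ⊓ F.H)
        (((H44.pCore_isPGroup.comap_of_ker_isPGroup f (by
          rw [QuotientGroup.ker_mk']
          exact (H96.Par.isP_inv F.dd).comap_subtype)).map _).to_le inf_le_left)
        (fun p hp => ⟨hm hp.2, map_subtype_le _ hp.1⟩) ?_ ⟨⟨c, hc, rfl⟩, mem_cen.2 ((cm c).1 hz)⟩)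
      rintro k hk kd _ ⟨⟨p, hp, rfl⟩, pz⟩
      exact ⟨⟨_, ((pCore_normal 2 _).comap f).conj_mem p hp ⟨k, mem_cen.2 kd⟩, rfl⟩,
        cj_mem (mem_cen.2 (F.M_z hk)) pz⟩
    · rintro _ ⟨m, rfl⟩ t
      obtain ⟨c, rfl⟩ := fs m
      have n := t.p.nd
      have cz := t.p.cm
      have sA := t.sqA
      rw [fam_self L.norm, fc] at n sA
      rw [fc, cm] at cz
      have cd : Commute (cj (c : G) F.z) F.d := mem_cen.1 (c * z' * c⁻¹).2
      rcases DM h (Ddz (mem_cen.1 c.2)) (mul_mem (F.S_M F.dS) (hm (mem_cen.2 cz)))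
        ((Commute.refl _).mul_left cd) with e | e | ⟨k, hk, kd, e⟩
      · exact F.z_ne (cj_eq_one.1 (mul_eq_left.1 e))
      · exact n ((mQ _).2 (show cj (c : G) F.z ∈ _ by rw [mul_left_cancel e]; exact F.zJ))
      have h1 := F.jv_mem (v := 36) (by decide)
      have h2 := cj_nm hk h1
      have h3 : Commute (cj k (F.jv 36)) (cj (c : G) F.z) := by
        have := (F.J_d h2).mul_right ((cj_comm (g := k)).2 ((F.CJx h1).2 (by
          rw [F.π_jv (by decide)]; decide +kernel)))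
        rwa [e, ← mul_assoc, F.dd, one_mul] at this
      have := sA (f ⟨_, JC h2⟩) (mem_CA.2 ⟨(mQ _).2 h2, by
        rw [← map_mul, ← map_mul]; exact congrArg f (Subtype.ext h3)⟩)
      refine z1 (Eq.trans ?_ this)
      rw [← map_mul]
      refine congrArg f (Subtype.ext ?_)
      change F.z = cj k _ * cj k _
      rw [← cj_mul, F.sq_J h1, F.π_jv (by decide), if_neg (by decide), cj_eq.2 (F.M_z hk)]
  obtain ⟨n, hn, ⟨e⟩⟩ := c5.ident (self_mem_cls _)
  rw [fam_self L.norm, cQ] at hn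
  obtain rfl : n = 6 := Nat.pow_right_injective (by decide : 2 ≤ 4) hn.symm
  have top : closure (H4.GF.cls (f z')) = ⊤ := (eq_top_iff' _).2 fun m => by
    obtain ⟨x, hx, e⟩ := c5.fact (self_mem_cls _) m
    obtain ⟨c, hc⟩ := fs (x⁻¹ * m)
    rw [← hc, cm] at e
    obtain ⟨c', h1, h2⟩ := h.genD (P := ((closure (H4.GF.cls (f z'))).comap f).map F.Cd.subtype)
      (fun j hj => ⟨⟨j, JC hj⟩, c5.Q_le (self_mem_cls _) (by rw [fam_self L.norm]; exact (mQ _).2 hj), rfl⟩)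
      (hY ▸ bot_le) (fun e he hM hd n => by
        rcases DM h he hM hd with e1 | e1 | ⟨k, hk, kd, e1⟩
        · exact absurd (.inr (.inr (.inl e1))) n
        · exact absurd (.inr (.inr (.inr e1))) n
        refine ⟨⟨e, mem_cen.2 hd⟩, subset_closure ⟨f ⟨k * c0, mem_cen.2 (kd.mul_left c0d)⟩, ?_⟩, rfl⟩
        rw [fc, eq_comm, fe]
        exact .inr (show cj (k * c0) F.z = _ by rw [← cj_cj, e0, cj_mul, cj_eq.2 kd, e1, hd.eq]))
      (⟨hm (mem_cen.2 e), c.2⟩ : (c : G) ∈ F.M ⊓ F.Cd)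
    obtain rfl : c' = c := Subtype.ext h2
    simpa using mul_mem hx (hc ▸ h1 : x⁻¹ * m ∈ _)
  have e' := (topEquiv.symm.trans (MulEquiv.subgroupCongr top.symm)).trans e
  obtain ⟨p1, p2⟩ := H96.Par.u6_perf e'
  refine S1713.result F.d od ⟨⟨(eq_top_iff' _).2 fun c => ?_⟩, ?_⟩ F4 F4.card_eq e'
    ⟨F.a, ?_, fun e => F.z_ne (mul_eq_left.1 (F.ad.symm.trans e))⟩
  · obtain ⟨k, hk, e⟩ : f c ∈ (commutator _).map f := by
      rw [map_commutator_eq, MonoidHom.range_eq_top.2 fs, ← _root_.commutator_def, p1]; trivial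
    rcases (fe k c).1 e with e | e
    · exact Subtype.ext e ▸ hk
    · exact (Subtype.ext e : c = k * d') ▸ mul_mem hk dcomm
  · refine H96.Par.u6_simple ((QuotientGroup.quotientMulEquivOfEq (le_antisymm (fun c hc => ?_) ?_)).trans e')
    · rw [← QuotientGroup.eq_one_iff, ← mem_bot, ← p2, mem_center_iff]
      rintro ⟨k⟩
      exact congrArg f (mem_center_iff.1 hc k)
    · rintro c ⟨k, hk⟩
      exact mem_center_iff.2 fun y => Subtype.ext (show Commute (y : G) c from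
        (show F.d ^ k = c from hk) ▸ (mem_cen.1 y.2).zpow_right k)
  · exact JC (show cj F.a F.d ∈ _ from F.ad ▸ mul_mem F.dJ F.zJ)

end Cfsg.Agent.FE
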