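import Cfsg.Agent.FE.GlueB
import Cfsg.Agent.H23.Basic
import Cfsg.Agent.H8.OddCore
import Cfsg.Agent.H29.Transport
import Cfsg.Agent.S0245
import Cfsg.Agent.S0246
import Cfsg.Agent.S0270
import Cfsg.Statements.S3405

/-! From the hypotheses to coordinates on `N(A)`. -/

set_option autoImplicit false

namespace Cfsg.Agent.FE

open Subgroup H42

universe u

namespace Glue

open Matrix

theorem psp_equiv {F : Type*} [Field F] [Fintype F] (hF : Fintype.card F = 2) :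
    Nonempty (Cfsg.PSp 3 F ≃* Sp) :=
  ⟨(H29.pspEquiv 3 (ZMod.ringEquivOfPrime F Nat.prime_two hF).symm).trans
    ((QuotientGroup.quotientMulEquivOfEq (card_eq_one.1
      (S0246.result (ZMod.card 2) 3 (by norm_num)))).trans QuotientGroup.quotientBot)⟩

theorem simple_Sp : IsSimpleGroup Sp :=
  let ⟨e⟩ := psp_equiv (ZMod.card 2)
  have := S0270.result (F := ZMod 2) 3 (by norm_num) (by norm_num)
  e.symm.isSimpleGroup

theorem card_Sp : Nat.card Sp = 1451520 :=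
  (S0245.result (ZMod.card 2) 3).trans (by decide +kernel)

theorem tr_spec : ∀ v < 64, tr v < 4398046511104 ∧ lin (tr v) = 1 ∧ cl (tr v) 6 = v := by
  decide +kernel

end Glue

open Glue Matrix

theorem glue {G : Type u} [Group G] [Finite G] {F : Type*} [Field F] [Fintype F]
    (hF : Fintype.card F = 2) (A : Subgroup G) (hA : Cfsg.IsElementaryAbelian 2 A)
    (hA64 : Nat.card A = 64)
    (hC : Cfsg.IsInternalDirectProduct ((Cfsg.oddCore ↥(normalizer (A : Set G))).map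
      (normalizer (A : Set G)).subtype) A (centralizer (A : Set G)))
    [hn : ((centralizer (A : Set G)).subgroupOf (normalizer (A : Set G))).Normal]
    (e : (↥(normalizer (A : Set G)) ⧸ (centralizer (A : Set G)).subgroupOf
      (normalizer (A : Set G))) ≃* Cfsg.PSp 3 F)
    (hsplit : ∃ K : Subgroup G, K ≤ normalizer (A : Set G) ∧
      K ⊔ ((Cfsg.oddCore ↥(normalizer (A : Set G))).map (normalizer (A : Set G)).subtype ⊔ A) =
        normalizer (A : Set G) ∧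
      K ⊓ ((Cfsg.oddCore ↥(normalizer (A : Set G))).map (normalizer (A : Set G)).subtype ⊔ A) =
        (Cfsg.oddCore ↥(normalizer (A : Set G))).map (normalizer (A : Set G)).subtype) :
    ∃ P : St G, P.A = A := by
  obtain ⟨K, hK, hK1, hK2⟩ := hsplit
  have hOo : Odd (Nat.card ((Cfsg.oddCore ↥(normalizer (A : Set G))).map
      (normalizer (A : Set G)).subtype)) := by
    rw [card_map_of_injective (subtype_injective _)]; exact H8.odd_card_pPrimeCore
  have hOn : ∀ n ∈ normalizer (A : Set G), ∀ o ∈ (Cfsg.oddCore ↥(normalizer (A : Set G))).map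
      (normalizer (A : Set G)).subtype, cj n o ∈ (Cfsg.oddCore ↥(normalizer (A : Set G))).map
      (normalizer (A : Set G)).subtype := by
    rintro n hn _ ⟨o, ho, rfl⟩
    exact ⟨_, (inferInstance : (Cfsg.oddCore ↥(normalizer (A : Set G))).Normal).conj_mem o ho
      ⟨n, hn⟩, rfl⟩
  generalize (Cfsg.oddCore ↥(normalizer (A : Set G))).map (normalizer (A : Set G)).subtype = O at *
  obtain ⟨hOC, hAC, -, hOA, hC⟩ := hC
  have hCN : centralizer (A : Set G) ≤ normalizer (A : Set G) := centralizer_le_normalizer _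
  have hOK : O ≤ K := hK2 ▸ inf_le_left
  obtain ⟨e'⟩ := psp_equiv hF
  obtain ⟨ψ, hψ, hker⟩ : ∃ ψ : normalizer (A : Set G) →* Sp, Function.Surjective ψ ∧
      ψ.ker = (centralizer (A : Set G)).subgroupOf (normalizer (A : Set G)) := by
    refine ⟨(e.trans e').toMonoidHom.comp (QuotientGroup.mk' _),
      (e.trans e').surjective.comp (QuotientGroup.mk'_surjective _), ?_⟩
    rw [← MonoidHom.comap_ker, (MonoidHom.ker_eq_bot_iff _).2 (e.trans e').injective,
      MonoidHom.comap_bot, QuotientGroup.ker_mk']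
  have hk : ∀ n, ψ n = 1 ↔ n.1 ∈ centralizer (A : Set G) := fun n => by
    rw [← MonoidHom.mem_ker, hker, mem_subgroupOf]
  obtain ⟨ρ, hρ⟩ : ∃ ρ : Sp →* MulAut A, ∀ n, ρ (ψ n) = A.normalizerMonoidHom n :=
    ⟨ψ.liftOfSurjective hψ ⟨_, (hker.trans A.normalizerMonoidHom_ker.symm).le⟩,
      fun a => ψ.liftOfRightInverse_comp_apply _ _ ⟨_, _⟩ a⟩
  obtain ⟨f, hf, fadd, feq⟩ := natural (A := A) (fun a b => hA.1.1.1 a b)
    (fun a => Subtype.ext ((sq a.1).symm.trans (hA.2 a a.2))) hA64 ρ (by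
      rw [injective_iff_map_eq_one]
      intro g hg
      obtain ⟨n, rfl⟩ := hψ g
      rwa [hρ, ← MonoidHom.mem_ker, normalizerMonoidHom_ker, ← hker] at hg)
  have fcj : ∀ (n : normalizer (A : Set G)) v, cj n.1 (f v) = f ((ψ n).1 *ᵥ v) := fun n v => by
    rw [← feq, hρ]; rfl
  have f0 : f 0 = 1 := by have := fadd 0 0; rwa [add_zero, left_eq_mul] at this
  have ψA : ∀ a : A, ψ ⟨a, hCN (hAC a.2)⟩ = 1 := fun a => (hk _).2 (hAC a.2)
  have dec1 : ∀ g ∈ normalizer (A : Set G), ∃ x < 64, (f (dec x) : G)⁻¹ * g ∈ K := fun g hg => by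
    rw [← hK1, ← sup_assoc, sup_eq_left.2 hOK] at hg
    obtain ⟨k, hk, a, ha, rfl⟩ := exists_mul_of_mem_sup hK hg
    obtain ⟨v, hv⟩ := hf.2 ⟨_, cj_nm (hK hk) ha⟩
    exact ⟨enc v, enc_lt v, by rw [dec_enc, hv]; simpa [mul_assoc] using hk⟩
  have uniq : ∀ g : G, ∀ x < 64, ∀ y < 64, (f (dec x) : G)⁻¹ * g ∈ K → (f (dec y) : G)⁻¹ * g ∈ K →
      x = y := fun g x hx y hy h1 h2 => by
    have h3 := mul_mem h1 (inv_mem h2)
    rw [_root_.mul_inv_rev, inv_inv, mul_assoc, mul_inv_cancel_left] at h3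
    have h4 : (f (dec x) : G)⁻¹ * f (dec y) ∈ A := mul_mem (inv_mem (f _).2) (f _).2
    have h5 : (f (dec x) : G)⁻¹ * f (dec y) ∈ O ⊓ A :=
      ⟨hK2.le ⟨h3, mem_sup_right h4⟩, h4⟩
    rw [hOA, mem_bot, inv_mul_eq_one] at h5
    exact dec_inj hx hy (hf.1 (Subtype.ext h5))
  have ex : ∀ g : G, ∃ c, ∀ hg : g ∈ normalizer (A : Set G), c < 4398046511104 ∧
      lin c = (ψ ⟨g, hg⟩).1 ∧ (f (dec (cl c 6)) : G)⁻¹ * g ∈ K := fun g => by
    by_cases hg : g ∈ normalizer (A : Set G)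
    · obtain ⟨x, hx, h⟩ := dec1 g hg
      obtain ⟨c, h1, h2, h3⟩ := exists_code (ψ ⟨g, hg⟩).1 hx
      exact ⟨c, fun _ => ⟨h1, h2, h3 ▸ h⟩⟩
    · exact ⟨0, fun h => absurd h hg⟩
  choose κ hκ using ex
  have ch : ∀ g (hg : g ∈ normalizer (A : Set G)) c, c < 4398046511104 → lin c = (ψ ⟨g, hg⟩).1 →
      (f (dec (cl c 6)) : G)⁻¹ * g ∈ K → κ g = c := fun g hg c h1 h2 h3 =>
    code_ext (hκ g hg).1 h1 ((hκ g hg).2.1.trans h2.symm)
      (uniq g _ (cl_lt _ _) _ (cl_lt _ _) (hκ g hg).2.2 h3)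
  have cav : ∀ n ∈ normalizer (A : Set G), ∀ v, cj n (f (dec v)) = f (dec (ap6 (κ n) v)) :=
    fun n hn v => by rw [dec_ap6, (hκ n hn).2.1]; exact fcj ⟨n, hn⟩ _
  have d0 : ((f (dec (cl one 6)) : A) : G) = 1 := by
    rw [show cl one 6 = 0 by decide, dec_zero, f0]; rfl
  refine ⟨{
    A := A, O := O, κ := κ, av := fun v => f (dec v), O_le := hOC.trans hCN, O_odd := hOo
    O_nm := hOn, κ_mul := fun g hg h hh => ?_
    κ_ok := fun g hg => okc_iff.2 ⟨(hκ g hg).1, (hκ g hg).2.1 ▸ (ψ _).2⟩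
    κ_sur := fun c hc => ?_, κ_ker := fun g hg => ⟨fun h => ?_, fun h => ?_⟩
    av_mem := fun v => (f _).2, av_sur := fun a ha => ?_, κ_av := fun v hv => ?_
    av_xor := fun v _ w _ => by rw [dec_xor, fadd]; rfl
    cj_av := fun n hn v _ => cav n hn v
    cen := fun g hg => ?_, card := ?_, simp := fun Y hY hn => ?_ }, rfl⟩
  · refine ch _ (mul_mem hg hh) _ (mm_lt _ _) ?_ ?_
    · rw [lin_mm, (hκ g hg).2.1, (hκ h hh).2.1]
      exact congrArg Subtype.val (map_mul ψ ⟨g, hg⟩ ⟨h, hh⟩).symm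
    · rw [(cl_mm _ _).2, dec_xor, fadd, coe_mul, ← cav g hg]
      convert mul_mem (hκ g hg).2.2 (hκ h hh).2.2 using 1
      rw [cj]
      group
  · obtain ⟨h1, h2⟩ := okc_iff.1 hc
    obtain ⟨n, hn⟩ := hψ ⟨_, h2⟩
    obtain ⟨x, -, h⟩ := dec1 n n.2
    have h3 := mul_mem (hCN (hAC (f (dec (cl c 6))).2)) (hK h)
    refine ⟨_, h3, ch _ h3 _ h1 ?_ (by rwa [inv_mul_cancel_left])⟩
    have : ψ ⟨_, h3⟩ = ψ ⟨_, hCN (hAC (f (dec (cl c 6))).2)⟩ *
        ((ψ ⟨_, hCN (hAC (f (dec x)).2)⟩)⁻¹ * ψ n) := by rw [← map_inv, ← map_mul, ← map_mul]; rfl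
    rw [this, ψA, ψA, inv_one, one_mul, one_mul, hn]
  · obtain ⟨-, h1, h2⟩ := hκ g hg
    rw [h, d0, inv_one, one_mul] at h2
    rw [h, lin_one] at h1
    exact hK2.le ⟨h2, hC.ge ((hk ⟨g, hg⟩).1 (Subtype.ext h1.symm))⟩
  · refine ch _ hg _ (by decide) ?_ (by rw [d0, inv_one, one_mul]; exact hOK h)
    rw [lin_one, (hk ⟨g, hg⟩).2 (hOC h)]; rfl
  · obtain ⟨v, hv⟩ := hf.2 ⟨a, ha⟩
    exact ⟨enc v, enc_lt v, by rw [dec_enc, hv]⟩
  · obtain ⟨h1, h2, h3⟩ := tr_spec v hv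
    exact ch _ (hCN (hAC (f _).2)) _ h1 (by rw [h2, ψA]; rfl) (by rw [h3, inv_mul_cancel]; exact one_mem _)
  · have hg' : g ∈ centralizer (A : Set G) := fun a ha => (hg a ha).symm
    obtain ⟨x, -, h⟩ := dec1 g (hCN hg')
    exact ⟨_, (f (dec x)).2, _, hK2.le ⟨h, hC.ge (mul_mem (inv_mem (hAC (f _).2)) hg')⟩,
      (mul_inv_cancel_left _ _).symm⟩
  · have h1 := H23.card_sup_mul_card_inf (H := O) (N := A) (hOC.trans hCN)
    rw [hC, hOA, card_bot, mul_one, hA64] at h1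
    rw [card_eq_card_quotient_mul_card_subgroup ψ.ker,
      Nat.card_congr (QuotientGroup.quotientKerEquivOfSurjective ψ hψ).toEquiv, card_Sp, hker,
      Nat.card_congr (subgroupOfEquivOfLe hCN).toEquiv, h1]
    ring
  · have := simple_Sp
    have hN : (Y.subgroupOf (normalizer (A : Set G))).Normal := ⟨fun y hy n => hn n n.2 y hy⟩
    rcases (hN.map ψ hψ).eq_bot_or_eq_top with h | h
    · exact .inl fun y hy a ha =>
        (((hk ⟨y, hY hy⟩).1 (h.le (mem_map_of_mem ψ hy))) a ha).symm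
    · refine .inr fun n hn => ?_
      obtain ⟨y, hy, e⟩ := h.ge (mem_top (ψ ⟨n, hn⟩))
      have := (hk (y⁻¹ * ⟨n, hn⟩)).1 (by rw [map_mul, map_inv, e, inv_mul_cancel])
      rw [← mul_inv_cancel_left y.1 n]
      exact mul_mem (mem_sup_left hy) (mem_sup_right this)

theorem St.exists_Fr {G : Type u} [Group G] [Finite G] (P : St G) : ∃ F : Fr G, F.A = P.A := by
  have k1 : P.κ 1 = one := (P.κ_ker 1 (one_mem _)).2 (one_mem _)
  have keq : ∀ g ∈ normalizer (P.A : Set G), ∀ h ∈ normalizer (P.A : Set G),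
      P.κ g = P.κ h ↔ g⁻¹ * h ∈ P.O := fun g hg h hh => by
    rw [← P.κ_ker _ (mul_mem (inv_mem hg) hh)]
    refine ⟨fun e => by rw [P.κ_mul _ (inv_mem hg) _ hh, ← e, ← P.κ_mul _ (inv_mem hg) _ hg,
      inv_mul_cancel, k1], fun e => ?_⟩
    rw [← mul_inv_cancel_left g h, P.κ_mul _ hg _ (mul_mem (inv_mem hg) hh), e, ← k1,
      ← P.κ_mul _ hg _ (one_mem _), mul_one]
  let M : Submonoid G :=
    { carrier := {g | g ∈ normalizer (P.A : Set G) ∧ tri (P.κ g) = true}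
      one_mem' := ⟨one_mem _, by rw [k1]; decide +kernel⟩
      mul_mem' := fun {g h} hg hh => ⟨mul_mem hg.1 hh.1, by
        rw [tri, P.κ_ok _ (mul_mem hg.1 hh.1), Bool.true_and, al_iff, P.κ_mul _ hg.1 _ hh.1]
        intro i hi
        rw [(cl_mm _ _).1 i hi, ap6_tri hg.2 hi (tri_cl hh.2 hi)]; rfl⟩ }
  let B : Subgroup G := ⟨M, fun {g} hg => Submonoid.powers_le.2 hg
    (mem_powers_iff_mem_zpowers.2 (inv_mem (mem_zpowers g)))⟩
  have hB : ∀ g, g ∈ B ↔ g ∈ normalizer (P.A : Set G) ∧ tri (P.κ g) = true := fun _ => Iff.rfl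
  have hOB : P.O ≤ B := fun o ho => ⟨P.O_le ho, by
    rw [(P.κ_ker o (P.O_le ho)).2 ho]; decide +kernel⟩
  have im : P.κ '' B = {c | tri c = true} := Set.ext fun c => ⟨by rintro ⟨g, hg, rfl⟩; exact hg.2,
    fun hc => by
      obtain ⟨g, hg, rfl⟩ := P.κ_sur c (tri_ok hc)
      exact ⟨g, ⟨hg, hc⟩, rfl⟩⟩
  have cB : Nat.card B = Nat.card P.O * 32768 := by
    rw [← card_mul_relIndex hOB, relIndex_eq_ncard (P := B) P.κ fun a ha b hb => keq a ((hB a).1 ha).1 b ((hB b).1 hb).1, im,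
      card_tri]
  obtain ⟨S, hS, -⟩ := exists_sylIn (p := 2) IsPGroup.of_bot (bot_le : ⊥ ≤ B)
  have hSN : S ≤ normalizer (P.A : Set G) := fun s hs => (hS.le hs).1
  have cS : Nat.card S = 32768 := by
    obtain ⟨k, hk⟩ := IsPGroup.iff_card.1 hS.isP
    have h1 := card_mul_relIndex hS.le
    rw [cB, hk, show 32768 = 2 ^ 15 from rfl] at h1
    have h2 := congrArg (·.factorization 2) h1
    have h3 : S.relIndex B ≠ 0 := fun h => hS.ndvd (h ▸ dvd_zero 2)
    simp only [Nat.factorization_mul (pow_ne_zero k two_ne_zero) h3,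
      Nat.factorization_mul P.O_odd.pos.ne' (pow_ne_zero 15 two_ne_zero), Finsupp.add_apply,
      Nat.factorization_eq_zero_of_not_dvd hS.ndvd,
      Nat.factorization_eq_zero_of_not_dvd P.O_odd.not_two_dvd_nat,
      Nat.prime_two.factorization_pow, Finsupp.single_eq_same] at h2
    rw [hk, show k = 15 by omega]; rfl
  have hSyl : SylIn 2 S (normalizer (P.A : Set G)) := ⟨hSN, hS.isP, fun h => by
    have h1 := card_mul_relIndex hSN
    rw [cS, P.card] at h1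
    obtain ⟨m, hm⟩ := P.O_odd
    omega⟩
  have inj : ∀ s ∈ S, ∀ s' ∈ S, P.κ s = P.κ s' → s = s' := fun s hs s' hs' h => by
    have h1 := (keq s (hSN hs) s' (hSN hs')).1 h
    have h2 := Nat.dvd_gcd (orderOf_dvd_natCard S (mul_mem (inv_mem hs) hs'))
      (orderOf_dvd_natCard P.O h1)
    have h3 : Nat.gcd 32768 (Nat.card P.O) = 1 := (Nat.coprime_two_left.2 P.O_odd).pow_left 15
    rw [cS, h3, Nat.dvd_one, orderOf_eq_one_iff] at h2
    exact inv_mul_eq_one.1 h2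
  have sur : P.κ '' S = {c | tri c = true} := Set.eq_of_subset_of_ncard_le
    (im ▸ Set.image_mono hS.le) (by
      rw [card_tri, Set.ncard_image_of_injOn fun s hs s' hs' => inj s hs s' hs']
      exact cS.ge) (Set.finite_of_ncard_ne_zero (by rw [card_tri]; norm_num))
  have ex : ∀ c, ∃ s, tri c = true → s ∈ S ∧ P.κ s = c := fun c => by
    by_cases h : tri c = true
    · obtain ⟨s, hs⟩ := sur.ge h
      exact ⟨s, fun _ => hs⟩
    · exact ⟨1, fun h' => absurd h' h⟩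
  choose ι hι using ex
  have hA : IsPGroup 2 P.A := fun a => ⟨1, Subtype.ext (by
    obtain ⟨v, hv, e⟩ := P.av_sur a a.2
    have h0 := P.av_xor 0 (by omega) 0 (by omega)
    rw [Nat.xor_self, left_eq_mul] at h0
    change (a : G) ^ 2 = 1
    rw [← e, sq, ← P.av_xor v hv v hv, Nat.xor_self, h0])⟩
  obtain ⟨g, hg, h⟩ := hSyl.exists_conj hA le_normalizer
  refine ⟨{ P with
    S := S, ι := ι, S_tri := fun s hs => (hS.le hs).2, ι_mem := fun c hc => (hι c hc).1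
    κ_ι := fun c hc => (hι c hc).2, S_inj := inj, S_card := cS, S_syl := hSyl
    A_le := fun a ha => ?_ }, rfl⟩
  simpa [mul_assoc] using h _ (cj_nm (inv_mem hg) ha)

end Cfsg.Agent.FE
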