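import Cfsg.Agent.FE.Defs
import Cfsg.Agent.H27.Sp

/-! Codes and matrices; a faithful action of `Sp₆(2)` on `E₆₄` is the natural one. -/

set_option autoImplicit false

namespace Cfsg.Agent.FE.Glue

open Subgroup Matrix H27

abbrev V : Type := Fin 3 ⊕ Fin 3 → ZMod 2
abbrev Sp : Type := Matrix.symplecticGroup (Fin 3) (ZMod 2)
abbrev MM : Type := Matrix (Fin 3 ⊕ Fin 3) (Fin 3 ⊕ Fin 3) (ZMod 2)

local notation "𝐛" => Cfsg.sympForm 3 (ZMod 2)

/-- the bit of a coordinate -/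
def ix : Fin 3 ⊕ Fin 3 → ℕ := Sum.elim (fun i => i) fun i => 5 - i

/-- the vector of a code -/
def dec (x : ℕ) : V := fun j => (bt x (ix j) : ZMod 2)

/-- the code of a vector -/
def enc (v : V) : ℕ := (v (.inl 0)).val + 2 * (v (.inl 1)).val + 4 * (v (.inl 2)).val +
  8 * (v (.inr 2)).val + 16 * (v (.inr 1)).val + 32 * (v (.inr 0)).val

theorem ix_lt : ∀ j, ix j < 6 := by decide
theorem ix_surj : ∀ i < 6, ∃ j, ix j = i := by decide
theorem dec_enc : ∀ v, dec (enc v) = v := by decide +kernel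
theorem enc_lt : ∀ v, enc v < 64 := by decide +kernel
theorem enc_dec : ∀ x < 64, enc (dec x) = x := by decide +kernel
theorem dec_inj {x y : ℕ} (hx : x < 64) (hy : y < 64) (h : dec x = dec y) : x = y := by
  rw [← enc_dec x hx, h, enc_dec y hy]
theorem dec_pow : ∀ j, dec (2 ^ ix j) = Pi.single j 1 := by decide +kernel
theorem dec_zero : dec 0 = 0 := by decide +kernel

theorem dec_xor (x y : ℕ) : dec (x ^^^ y) = dec x + dec y := by
  ext j
  have k : ∀ a < 2, ∀ b < 2, ((a ^^^ b : ℕ) : ZMod 2) = a + b := by decide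
  simp only [dec, bt_xor, Pi.add_apply, k _ (bt_lt _ _) _ (bt_lt _ _)]

theorem dec_mul (x i c : ℕ) : dec (bt x i * c) = (bt x i : ZMod 2) • dec c := by
  have := bt_lt x i
  have : bt x i = 0 ∨ bt x i = 1 := by omega
  rcases this with e | e <;> simp [e, dec_zero]

theorem form_dec (x y : ℕ) : 𝐛 (dec x) (dec y) = (b6 x y : ZMod 2) := by
  rw [sympForm_eq, b6, ZMod.natCast_mod]
  simp only [Fin.sum_univ_three, dec, ix, Sum.elim_inl, Sum.elim_inr, CharTwo.sub_eq_add]
  push_cast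
  simp only [Fin.val_zero, Fin.val_one, Fin.val_two]
  ring

/-- the matrix of a code -/
def lin (c : ℕ) : MM := fun i j => dec (cl c (ix j)) i

theorem dec_ap6 (c x : ℕ) : dec (ap6 c x) = lin c *ᵥ dec x := by
  ext i
  simp only [ap6, dec_xor, dec_mul, Pi.add_apply, Pi.smul_apply, smul_eq_mul, mulVec, dotProduct,
    Fintype.sum_sum_type, Fin.sum_univ_three, lin]
  simp only [dec, ix, Sum.elim_inl, Sum.elim_inr, Fin.val_zero, Fin.val_one, Fin.val_two]
  ring

theorem pk6_lt {a b c d e f g : ℕ} (ha : a < 64) (hb : b < 64) (hc : c < 64) (hd : d < 64)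
    (he : e < 64) (hf : f < 64) (hg : g < 64) : pk6 a b c d e f g < 4398046511104 := by
  simp only [pk6]; omega

theorem code_ext {c e : ℕ} (hc : c < 4398046511104) (he : e < 4398046511104) (h : lin c = lin e)
    (h6 : cl c 6 = cl e 6) : c = e := by
  have k : ∀ i < 6, cl c i = cl e i := fun i hi => by
    obtain ⟨j, rfl⟩ := ix_surj i hi
    exact dec_inj (cl_lt _ _) (cl_lt _ _) (funext fun i => congrFun (congrFun h i) j)
  rw [← pk6_cl hc, ← pk6_cl he, h6]
  simp only [k, Nat.reduceLT]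

theorem xor_lt {a b : ℕ} (ha : a < 64) (hb : b < 64) : a ^^^ b < 64 :=
  Nat.xor_lt_two_pow (n := 6) ha hb

theorem mm_lt (c e : ℕ) : mm c e < 4398046511104 :=
  pk6_lt (ap6_lt _ _) (ap6_lt _ _) (ap6_lt _ _) (ap6_lt _ _) (ap6_lt _ _) (ap6_lt _ _)
    (xor_lt (ap6_lt _ _) (cl_lt _ _))

theorem cl_mm (c e : ℕ) : (∀ i < 6, cl (mm c e) i = ap6 c (cl e i)) ∧
    cl (mm c e) 6 = ap6 c (cl e 6) ^^^ cl c 6 := by
  obtain ⟨h0, h1, h2, h3, h4, h5, h6⟩ := cl_pk (ap6_lt c (cl e 0)) (ap6_lt c (cl e 1))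
    (ap6_lt c (cl e 2)) (ap6_lt c (cl e 3)) (ap6_lt c (cl e 4)) (ap6_lt c (cl e 5))
    (xor_lt (ap6_lt c (cl e 6)) (cl_lt c 6))
  refine ⟨fun i hi => ?_, h6⟩
  interval_cases i <;> assumption

theorem lin_mm (c e : ℕ) : lin (mm c e) = lin c * lin e := by
  ext i j
  rw [lin, (cl_mm c e).1 _ (ix_lt j), dec_ap6]
  rfl

theorem exists_code (M : MM) {a : ℕ} (ha : a < 64) :
    ∃ c < 4398046511104, lin c = M ∧ cl c 6 = a := by
  obtain ⟨h0, h1, h2, h3, h4, h5, h6⟩ := cl_pk (enc_lt (M · (.inl 0))) (enc_lt (M · (.inl 1)))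
    (enc_lt (M · (.inl 2))) (enc_lt (M · (.inr 2))) (enc_lt (M · (.inr 1)))
    (enc_lt (M · (.inr 0))) ha
  refine ⟨_, pk6_lt (enc_lt _) (enc_lt _) (enc_lt _) (enc_lt _) (enc_lt _) (enc_lt _) ha, ?_, h6⟩
  ext i (j | j) <;> fin_cases j <;> simp [lin, ix, h0, h1, h2, h3, h4, h5, dec_enc]

theorem al_iff {n : ℕ} {f : ℕ → Bool} : al n f = true ↔ ∀ i < n, f i = true := by
  refine ⟨fun h i hi => al_spec h hi, fun h => ?_⟩
  induction n with
  | zero => rfl
  | succ n ih =>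
    change (f n && al n f) = true
    rw [h n (by omega), ih fun i hi => h i (by omega)]; rfl

theorem b6_inj {x y x' y' : ℕ} (h : (b6 x y : ZMod 2) = b6 x' y') : b6 x y = b6 x' y' := by
  have k : ∀ a < 2, ∀ b < 2, ((a : ℕ) : ZMod 2) = (b : ℕ) → a = b := by decide
  exact k _ (Nat.mod_lt _ two_pos) _ (Nat.mod_lt _ two_pos) h

theorem okc_iff {c : ℕ} : okc c = true ↔ c < 4398046511104 ∧
    lin c ∈ Matrix.symplecticGroup (Fin 3) (ZMod 2) := by
  have col : ∀ j, lin c *ᵥ Pi.single j 1 = dec (cl c (ix j)) := fun j => by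
    rw [mulVec_single_one]; rfl
  refine ⟨fun h => ⟨okc_lt h, mem_sp_iff.2 fun u v => ?_⟩, fun ⟨h1, h2⟩ => ?_⟩
  · rw [sympForm_mulVec]
    congr 2
    ext i j
    have := sympForm_mulVec (lin c) (Pi.single i 1) (Pi.single j 1)
    rw [col, col, form_dec, okc_b6 h (ix_lt i) (ix_lt j), ← form_dec, dec_pow, dec_pow,
      Cfsg.sympForm] at this
    simpa using this.symm
  · rw [okc, Bool.and_eq_true, al_iff]
    refine ⟨by simpa [Nat.blt_eq] using h1, fun i hi => al_iff.2 fun j hj => ?_⟩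
    obtain ⟨i, rfl⟩ := ix_surj i hi
    obtain ⟨j, rfl⟩ := ix_surj j hj
    have := mem_sp_iff.1 h2 (Pi.single i 1) (Pi.single j 1)
    rw [col, col, ← dec_pow, ← dec_pow, form_dec, form_dec] at this
    rw [b6_inj this]
    exact Nat.beq_refl _

theorem lin_one : lin one = 1 := by decide +kernel

theorem exists_five : ∃ (y : Sp) (v : V), y ^ 5 = 1 ∧ y ≠ 1 ∧ v ≠ 0 ∧ y.1 *ᵥ v = v := by
  refine ⟨⟨lin 34467841025, (okc_iff.1 (by decide +kernel)).2⟩, dec 1, Subtype.ext ?_,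
    fun h => ?_, by decide +kernel, ?_⟩
  · change lin 34467841025 ^ 5 = 1
    simp only [pow_succ, pow_zero, one_mul, ← lin_mm]
    decide +kernel
  · exact absurd (congrArg Subtype.val h) (by decide +kernel : lin 34467841025 ≠ 1)
  · exact (dec_ap6 _ _).symm.trans (by decide +kernel)

section Module

variable {A : Type*} [Group A] [Finite A]

theorem fix_mod {y : MulAut A} (hy : y ^ 5 = 1) (B : Subgroup A) (hB : ∀ b ∈ B, y b ∈ B) :
    Nat.card B ≡ Nat.card ↥(B ⊓ y.toMonoidHom.eqLocus (MonoidHom.id A)) [MOD 5] := by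
  classical
  have := Fintype.ofFinite B
  have : Fact (Nat.Prime 5) := ⟨by norm_num⟩
  let f : Function.End B := fun b => ⟨y b, hB b b.2⟩
  have hf : ∀ n (b : B), ((f ^ n) b : A) = (y ^ n) b := fun n => by
    induction n with
    | zero => exact fun _ => rfl
    | succ n ih => exact fun b => by rw [pow_succ, pow_succ]; exact ih (f b)
  have h := Equiv.Perm.card_fixedPoints_modEq (f := f) (p := 5) (n := 1)
    (funext fun b => Subtype.ext ((hf 5 b).trans (by rw [hy]; rfl)))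
  rw [← Nat.card_eq_fintype_card, ← Nat.card_eq_fintype_card] at h
  refine h.trans (by
    rw [Nat.card_congr (β := ↥(B ⊓ y.toMonoidHom.eqLocus (MonoidHom.id A)))
      ⟨fun b => ⟨b.1.1, b.1.2, congrArg Subtype.val b.2⟩, fun b => ⟨⟨b.1, b.2.1⟩, Subtype.ext b.2.2⟩,
        fun _ => rfl, fun _ => rfl⟩])

variable (hc : ∀ a b : A, a * b = b * a) (h2 : ∀ a : A, a * a = 1) (h64 : Nat.card A = 64)
include hc h2 h64

theorem rank_one {t y : MulAut A} (tt : t * t = 1) (t1 : t ≠ 1) (y5 : y ^ 5 = 1) (y1 : y ≠ 1)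
    (ty : t * y = y * t) : ∃ c ≠ 1, ∀ a, t a = a ∨ t a = a * c := by
  let φ : A →* A := MonoidHom.mk' (fun a => a * t a) fun a b => by
    rw [map_mul, mul_assoc, mul_assoc, ← mul_assoc b, hc b, mul_assoc]
  have hφ : ∀ a, φ a = a * t a := fun _ => rfl
  have htt : ∀ a, t (t a) = a := fun a => by rw [← MulAut.mul_apply, tt]; rfl
  have hty : ∀ a, t (y a) = y (t a) := fun a => by rw [← MulAut.mul_apply, ty]; rfl
  set Y := y.toMonoidHom.eqLocus (MonoidHom.id A)
  have hY : Nat.card Y = 4 := by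
    have h1 := fix_mod y5 ⊤ fun _ _ => trivial
    rw [top_inf_eq, card_top, h64] at h1
    have h3 : Nat.card Y ≠ 64 := fun e => y1 (MulEquiv.ext fun a =>
      (eq_top_of_card_eq Y (e.trans h64.symm)).ge (mem_top a))
    obtain ⟨k, hk, e⟩ := (Nat.dvd_prime_pow Nat.prime_two (m := 6)).1 (h64 ▸ card_subgroup_dvd_card Y)
    rw [e] at h1 h3 ⊢
    interval_cases k <;> simp_all [Nat.ModEq]
  have hIC : φ.range ≤ φ.ker := by
    rintro _ ⟨a, rfl⟩
    rw [MonoidHom.mem_ker, hφ, hφ, map_mul, htt, hc (t a), h2]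
  have hm : Nat.card φ.range * Nat.card φ.ker = 64 := by
    rw [← h64, ← Nat.card_congr (QuotientGroup.quotientKerEquivRange φ).toEquiv,
      ← card_eq_card_quotient_mul_card_subgroup]
  have hle := card_le_of_le hIC
  have h1 := fix_mod y5 φ.range (by
    rintro _ ⟨a, rfl⟩; exact ⟨y a, by rw [hφ, hφ, map_mul, hty]⟩)
  have h3 := fix_mod y5 φ.ker fun a ha => by
    rw [MonoidHom.mem_ker, hφ] at *
    rw [hty, ← map_mul, ha, map_one]
  have h4 : Nat.card ↥(φ.range ⊓ Y) ∣ 4 := hY ▸ card_dvd_of_le inf_le_right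
  have h5 : Nat.card ↥(φ.ker ⊓ Y) ∣ 4 := hY ▸ card_dvd_of_le inf_le_right
  have h6 : Nat.card ↥(φ.range ⊓ Y) ≤ Nat.card ↥(φ.ker ⊓ Y) := card_le_of_le (inf_le_inf_right _ hIC)
  have h7 : Nat.card φ.range ≠ 1 := fun e => t1 (MulEquiv.ext fun a => by
    have : φ a = 1 := (card_eq_one.1 e).le ⟨a, rfl⟩
    exact (eq_inv_of_mul_eq_one_right this).trans (inv_eq_of_mul_eq_one_right (h2 a)))
  have hI : Nat.card φ.range = 2 := by
    have key : ∀ i m r s : ℕ, i * m = 64 → i ≤ m → i ≡ r [MOD 5] → m ≡ s [MOD 5] → r ∣ 4 → s ∣ 4 →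
        r ≤ s → i ≠ 1 → i = 2 := fun i m r s a1 a2 a3 a4 a5 a6 a7 a8 => by
      have b1 := Nat.le_of_dvd four_pos a5
      have b2 := Nat.le_of_dvd four_pos a6
      have b3 : i ≤ 8 := by nlinarith
      have b4 : r ≠ 3 := by rintro rfl; omega
      unfold Nat.ModEq at a3 a4
      interval_cases i <;> omega
    exact key _ _ _ _ hm hle h1 h3 h4 h5 h6 h7
  obtain ⟨c, hc1, hcu⟩ := (Nat.card_eq_two_iff' (1 : φ.range)).1 hI
  refine ⟨c, fun e => hc1 (Subtype.ext e), fun a => ?_⟩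
  have ha : t a = a * φ a := by rw [hφ, ← mul_assoc, h2, one_mul]
  by_cases h : φ a = 1
  · exact .inl (by rw [ha, h, mul_one])
  · exact .inr (by rw [ha, ← hcu ⟨φ a, a, rfl⟩ fun e => h (congrArg Subtype.val e)])

set_option maxHeartbeats 1000000 in
theorem natural (ρ : Sp →* MulAut A) (hρ : Function.Injective ρ) :
    ∃ f : V → A, Function.Bijective f ∧ (∀ u v, f (u + v) = f u * f v) ∧
      ∀ g v, ρ g (f v) = f (g.1 *ᵥ v) := by
  have z2 : ∀ x : ZMod 2, x = 0 ∨ x = 1 := by decide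
  have aa : ∀ v : V, v + v = 0 := fun v => funext fun i => CharTwo.add_self_eq_zero _
  have sy : ∀ u v, 𝐛 u v = 𝐛 v u := fun u v => by rw [sympForm_neg_comm, CharTwo.neg_eq]
  have nd : ∀ u v : V, (∀ w, 𝐛 u w = 𝐛 v w) → u = v := fun u v h => sub_eq_zero.1
    (eq_zero_of_sympForm_left fun w => by rw [sympForm_sub_left, h, sub_self])
  let T : V → MulAut A := fun v => ρ (spT v 1)
  have T1 : ∀ v ≠ 0, T v ≠ 1 := fun v hv h => hv (nd v 0 fun w => by
    have h1 := spT_mulVec v 1 w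
    rw [hρ (h.trans (map_one ρ).symm), sp_one_mulVec, left_eq_add, one_mul, smul_eq_zero] at h1
    rw [sy, h1.resolve_right hv, sympForm_zero_left])
  have Tc : ∀ (g : Sp) v a, T (g.1 *ᵥ v) (ρ g a) = ρ g (T v a) := fun g v a => by
    simp only [T, ← conj_spT, map_mul, map_inv, MulAut.mul_apply, MulAut.inv_apply_self]
  let IsC : V → A → Prop := fun v c => c ≠ 1 ∧ ∀ a, T v a = a ∨ T v a = a * c
  have uniq : ∀ v ≠ 0, ∀ c c', IsC v c → IsC v c' → c = c' := fun v hv c c' h h' => by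
    obtain ⟨a, ha⟩ := DFunLike.ne_iff.1 (T1 v hv)
    exact mul_left_cancel (((h.2 a).resolve_left ha).symm.trans ((h'.2 a).resolve_left ha))
  have eqv : ∀ (g : Sp) v c, IsC v c → IsC (g.1 *ᵥ v) (ρ g c) := fun g v c h =>
    ⟨(map_ne_one_iff _ (ρ g).injective).2 h.1, fun a => by
      obtain ⟨a, rfl⟩ := (ρ g).surjective a
      rw [Tc, ← map_mul]
      exact (h.2 a).imp (congrArg _) (congrArg _)⟩
  have ex : ∀ v : V, ∃ c, (v = 0 → c = 1) ∧ (v ≠ 0 → IsC v c) := fun v => by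
    by_cases hv : v = 0
    · exact ⟨1, fun _ => rfl, fun h => absurd hv h⟩
    obtain ⟨y, v0, y5, y1, h0, hy⟩ := exists_five
    obtain ⟨c, hc⟩ := rank_one hc h2 h64 (t := T v0) (y := ρ y)
      (by rw [← map_mul, spT_mul, CharTwo.add_self_eq_zero, spT_zero, map_one]) (T1 _ h0)
      (by rw [← map_pow, y5, map_one]) ((map_ne_one_iff _ hρ).2 y1)
      (by rw [← map_mul, ← map_mul, mul_inv_eq_iff_eq_mul.1 (conj_spT y v0 1), hy])
    obtain ⟨g, hg⟩ := sp_witt_family (u := fun _ : Unit => v0) (v := fun _ : Unit => v)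
      (linearIndependent_unique_iff.2 h0) (linearIndependent_unique_iff.2 hv)
      fun _ _ => by rw [sympForm_self, sympForm_self]
    exact ⟨ρ g c, fun h => absurd h hv, fun _ => hg () ▸ eqv g v0 c hc⟩
  choose f f0 hf using ex
  have E : ∀ (g : Sp) v, ρ g (f v) = f (g.1 *ᵥ v) := fun g v => by
    by_cases hv : v = 0
    · rw [f0 v hv, f0 _ (by rw [hv, mulVec_zero]), map_one]
    have h1 : g.1 *ᵥ v ≠ 0 := fun h => hv (by rw [← sp_inv_mulVec_mulVec g v, h, mulVec_zero])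
    exact uniq _ h1 _ _ (eqv g v _ (hf v hv)) (hf _ h1)
  have K : ∀ w u, T w (f u) = f u * f w ^ (𝐛 u w).val := fun w u => by
    rcases z2 (𝐛 u w) with h | h
    · rw [E, spT_mulVec, h]; simp
    have hw : w ≠ 0 := by rintro rfl; rw [sympForm_zero_right] at h; exact zero_ne_one h
    have hu : u ≠ 0 := by rintro rfl; rw [sympForm_zero_left] at h; exact zero_ne_one h
    rw [h, ZMod.val_one, pow_one]
    refine ((hf w hw).2 (f u)).resolve_left fun e => hu ?_
    have e1 : f (u + w) = f u := by rw [← e, E, spT_mulVec, h]; simp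
    have huw : u + w ≠ 0 := fun h0 => by
      rw [eq_neg_of_add_eq_zero_left h0, neg_eq_of_add_eq_zero_left (aa w), sympForm_self] at h
      exact zero_ne_one h
    have fx : ∀ v, T v (f v) = f v := fun v => by rw [E, spT_mulVec, sympForm_self]; simp
    have c1 := (hf _ huw).2
    have c2 := (hf _ hu).2
    have f1 := fx (u + w)
    have f2 := fx u
    rw [e1] at c1 f1
    have hcm : spT u 1 * spT (u + w) 1 = spT (u + w) 1 * spT u 1 := hρ (MulEquiv.ext fun a => by
      rw [map_mul, map_mul]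
      change T u (T (u + w) a) = T (u + w) (T u a)
      rcases c1 a with k1 | k1 <;> rcases c2 a with k2 | k2 <;>
        simp only [k1, k2, map_mul, f1, f2])
    have h3 := congrArg (fun g : Sp => g.1 *ᵥ u) hcm
    simp only [sp_mul_mulVec, spT_mulVec, sympForm_add_left, sympForm_add_right, sympForm_self,
      sympForm_smul_left, sy w u, h, one_mul, zero_add, add_zero, one_smul, zero_smul] at h3
    exact add_eq_left.1 h3
  have P : ∀ w u v, f w ^ (𝐛 u w).val = f w ^ (𝐛 v w).val → 𝐛 u w = 𝐛 v w := fun w u v h => by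
    by_cases hw : w = 0
    · rw [hw, sympForm_zero_right, sympForm_zero_right]
    have := (hf w hw).1
    rcases z2 (𝐛 u w) with k | k <;> rcases z2 (𝐛 v w) with k' | k' <;> rw [k, k'] at h ⊢ <;>
      simp_all [ZMod.val_one, eq_comm]
  have inj : Function.Injective f := fun u v h => nd u v fun w => P w u v (by
    have := K w u
    rw [h, K] at this
    exact (mul_left_cancel this).symm)
  have bij : Function.Bijective f := (Nat.bijective_iff_injective_and_card f).2 ⟨inj, by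
    rw [h64, Nat.card_eq_fintype_card]; simp⟩
  refine ⟨f, bij, fun u v => ?_, E⟩
  obtain ⟨x, hx⟩ := bij.2 (f u * f v)
  rw [← hx]
  congr 1
  refine nd _ _ fun w => P w _ _ ?_
  have h1 := K w x
  rw [hx, map_mul, K, K, mul_assoc, mul_assoc, mul_right_inj, ← mul_assoc, hc _ (f v), mul_assoc,
    mul_right_inj] at h1
  rw [← h1, sympForm_add_left]
  rcases z2 (𝐛 u w) with k | k <;> rcases z2 (𝐛 v w) with k' | k' <;> rw [k, k'] <;>
    simp [ZMod.val_one, h2, CharTwo.add_self_eq_zero]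

end Module

end Cfsg.Agent.FE.Glue
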