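import Cfsg.Agent.FE.GlueA

/-! The unitriangular codes. -/

set_option autoImplicit false

namespace Cfsg.Agent.FE.Glue

/-- enumeration of the unitriangular patterns -/
def en (n t : ℕ) : ℕ :=
  pk6 1 (2 + n % 2) (4 + n / 2 % 4) (8 + n / 8 % 8) (16 + n / 64 % 16) (32 + n / 1024 % 32) t

theorem cnt_tri : cnt 32768 (fun n => tri (en n 0)) = 512 := by decide +kernel

theorem cnt_eq (n : ℕ) (f : ℕ → Bool) :
    cnt n f = ((Finset.range n).filter fun i => f i = true).card := by
  induction n with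
  | zero => rfl
  | succ n ih =>
    change cond (f n) (cnt n f + 1) (cnt n f) = _
    rw [Finset.range_add_one, Finset.filter_insert, ih]
    cases f n <;> simp

theorem cl_en (n : ℕ) {t : ℕ} (ht : t < 64) : en n t < 4398046511104 ∧ cl (en n t) 0 = 1 ∧
    cl (en n t) 1 = 2 + n % 2 ∧ cl (en n t) 2 = 4 + n / 2 % 4 ∧ cl (en n t) 3 = 8 + n / 8 % 8 ∧
    cl (en n t) 4 = 16 + n / 64 % 16 ∧ cl (en n t) 5 = 32 + n / 1024 % 32 ∧ cl (en n t) 6 = t :=
  ⟨pk6_lt (by omega) (by omega) (by omega) (by omega) (by omega) (by omega) ht,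
    cl_pk (by omega) (by omega) (by omega) (by omega) (by omega) (by omega) ht⟩

theorem tri_congr {c e : ℕ} (h : tri c = true) (he : e < 4398046511104)
    (k : ∀ i < 6, cl e i = cl c i) : tri e = true := by
  rw [tri, Bool.and_eq_true, okc, Bool.and_eq_true, al_iff, al_iff]
  refine ⟨⟨by simpa [Nat.blt_eq] using he, fun i hi => al_iff.2 fun j hj => ?_⟩, fun i hi => ?_⟩
  · rw [k i hi, k j hj, okc_b6 (tri_ok h) hi hj]; exact Nat.beq_refl _
  · rw [k i hi, tri_cl h hi]; rfl

theorem tri_en (n : ℕ) {t t' : ℕ} (ht : t < 64) (ht' : t' < 64) (h : tri (en n t) = true) :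
    tri (en n t') = true := by
  obtain ⟨-, a0, a1, a2, a3, a4, a5, -⟩ := cl_en n ht
  obtain ⟨b, b0, b1, b2, b3, b4, b5, -⟩ := cl_en n ht'
  refine tri_congr h b fun i hi => ?_
  interval_cases i <;> simp only [*]

theorem card_tri' (N : ℕ) (hN : N = 32768) :
    {c | tri c = true}.ncard = cnt N (fun n => tri (en n 0)) * 64 := by
  have e : {c | tri c = true} = ↑((((Finset.range N).filter fun n => tri (en n 0) = true) ×ˢ
      Finset.range 64).image fun p => en p.1 p.2) := by
    ext c
    simp only [Set.mem_setOf_eq, Finset.coe_image, Set.mem_image, Finset.mem_coe,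
      Finset.mem_product, Finset.mem_filter, Finset.mem_range, Prod.exists]
    refine ⟨fun h => ?_, fun ⟨n, t, ⟨⟨_, h⟩, ht⟩, e⟩ => e ▸ tri_en n (by omega) ht h⟩
    have h0 := tri_cl h (i := 0) (by omega)
    have h1 := tri_cl h (i := 1) (by omega)
    have h2 := tri_cl h (i := 2) (by omega)
    have h3 := tri_cl h (i := 3) (by omega)
    have h4 := tri_cl h (i := 4) (by omega)
    have h5 := tri_cl h (i := 5) (by omega)
    simp only [Nat.shiftRight_eq_div_pow] at h0 h1 h2 h3 h4 h5
    have k : en (cl c 1 - 2 + 2 * (cl c 2 - 4) + 8 * (cl c 3 - 8) + 64 * (cl c 4 - 16) +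
        1024 * (cl c 5 - 32)) (cl c 6) = c := by
      conv_rhs => rw [← pk6_cl (okc_lt (tri_ok h))]
      unfold en
      congr 1 <;> omega
    exact ⟨_, _, ⟨⟨by omega, tri_en _ (cl_lt c 6) (by omega) (k.symm ▸ h)⟩, cl_lt c 6⟩, k⟩
  rw [e, Set.ncard_coe_finset, Finset.card_image_of_injOn, Finset.card_product, ← cnt_eq,
    Finset.card_range]
  rintro ⟨n, t⟩ hn ⟨m, s⟩ hm h
  simp only [Finset.coe_product, Set.mem_prod, Finset.mem_coe, Finset.mem_filter,
    Finset.mem_range] at hn hm
  obtain ⟨-, -, a1, a2, a3, a4, a5, a6⟩ := cl_en n hn.2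
  obtain ⟨-, -, b1, b2, b3, b4, b5, b6⟩ := cl_en m hm.2
  change en n t = en m s at h
  rw [h] at a1 a2 a3 a4 a5 a6
  have := hn.1.1
  have := hm.1.1
  ext <;> simp only <;> omega

theorem card_tri : {c | tri c = true}.ncard = 32768 := by
  rw [card_tri' _ rfl, cnt_tri]

theorem ap6_tri {c x i : ℕ} (h : tri c = true) (hi : i < 6) (hx : x >>> i = 1) :
    ap6 c x >>> i = 1 := by
  have k : ∀ j < 6, (bt x j * cl c j) >>> i = if j = i then 1 else 0 := fun j hj => by
    have h1 := tri_cl h hj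
    have h2 := bt_lt x j
    have h3 : i ≤ j → bt x j = if j = i then 1 else 0 := by
      unfold bt
      simp only [Nat.shiftRight_eq_div_pow] at hx ⊢
      interval_cases i <;> interval_cases j <;> simp <;> omega
    by_cases hij : i ≤ j
    · rw [h3 hij]
      split_ifs with e
      · rw [one_mul, ← e, h1]
      · simp
    · rw [if_neg (by omega)]
      have : bt x j = 0 ∨ bt x j = 1 := by omega
      simp only [Nat.shiftRight_eq_div_pow] at h1 ⊢
      rcases this with e | e <;> rw [e] <;> interval_cases i <;> interval_cases j <;> omega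
  simp only [ap6, Nat.shiftRight_xor_distrib, k, Nat.reduceLT]
  interval_cases i <;> simp

end Cfsg.Agent.FE.Glue
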