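import Cfsg.Agent.FE.Cls
import Cfsg.Agent.FE.Gold
import Cfsg.Agent.FE.OneT
import Cfsg.Agent.S1243

set_option autoImplicit false
set_option linter.unusedSectionVars false

namespace Cfsg.Agent.FE

open Subgroup H42

universe u

namespace On

theorem ncard_cnt (n : ℕ) (f : ℕ → Bool) : {w | w < n ∧ f w = true}.ncard = cnt n f := by
  induction n with
  | zero => simp [cnt]
  | succ n ih =>
    have e : cnt (n + 1) f = cond (f n) (cnt n f + 1) (cnt n f) := rfl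
    have fin : {w | w < n ∧ f w = true}.Finite := (Set.finite_lt_nat n).subset fun _ h => h.1
    rw [e, ← ih]
    cases h : f n
    · refine congrArg Set.ncard (Set.ext fun w => ⟨fun k => ⟨?_, k.2⟩, fun k => ⟨k.1.trans n.lt_succ_self, k.2⟩⟩)
      rcases Nat.lt_succ_iff_lt_or_eq.1 k.1 with k' | rfl
      · exact k'
      · exact absurd (h.symm.trans k.2) (by decide)
    · rw [cond_true, ← Set.ncard_insert_of_notMem (a := n) (fun k => k.1.false) fin]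
      refine congrArg Set.ncard (Set.ext fun w => ⟨fun k => ?_, ?_⟩)
      · exact (Nat.lt_succ_iff_lt_or_eq.1 k.1).elim (fun k' => Or.inr ⟨k', k.2⟩) Or.inl
      · rintro (rfl | k)
        exacts [⟨w.lt_succ_self, h⟩, ⟨k.1.trans n.lt_succ_self, k.2⟩]

theorem ncard_le {n : ℕ} {f : ℕ → Bool} {S : Set ℕ} (h : ∀ w ∈ S, w < n ∧ f w = true) :
    S.ncard ≤ cnt n f :=
  (Set.ncard_le_ncard h ((Set.finite_lt_nat n).subset fun _ h => h.1)).trans_eq (ncard_cnt n f)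

theorem s1 {v : ℕ} (hv : v < 512) : tri (ec v) = true ∧ dc (ec v) = v ∧ cl (ec v) 6 < 8 ∧
    (∀ i < 9, mm (ec v) (ec (2 ^ i)) = ec (v ^^^ 2 ^ i)) ∧
    ∀ x < 64, ap6 (ec v) x / 8 = x / 8 ∧ (x < 8 → ap6 (ec v) x = x) := by
  have := al_spec t1 hv
  simp only [frc_eq, Bool.and_eq_true, Nat.beq_eq, Nat.blt_eq] at this
  obtain ⟨⟨⟨⟨a, b⟩, c⟩, d⟩, e⟩ := this
  refine ⟨a, b, c, fun i hi => Nat.eq_of_beq_eq_true (al_spec d hi), fun x hx => ?_⟩
  have := al_spec e hx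
  simp only [Bool.and_eq_true, Bool.or_eq_true, Nat.beq_eq, Nat.ble_eq] at this
  exact ⟨this.1, fun k => this.2.resolve_left k.not_ge⟩

theorem s2 {j : ℕ} (hj : j < 64) : tri (rc j) = true ∧ ci (rc j) = j ∧
    ∀ i < 9, mm (rc j) (ec (2 ^ i)) = mm (ec (c9 (sg j) i)) (rc j) := by
  have := al_spec t2 hj
  simp only [frc_eq, Bool.and_eq_true, Nat.beq_eq] at this
  exact ⟨this.1.1, this.1.2, fun i hi => Nat.eq_of_beq_eq_true (al_spec this.2 hi)⟩

theorem x9 {v w : ℕ} (hv : v < 512) (hw : w < 512) : v ^^^ w < 512 := Nat.xor_lt_two_pow (n := 9) hv hw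

theorem ind9 {p : ℕ → Prop} (h0 : p 0) (h : ∀ w < 512, ∀ i < 9, p w → p (w ^^^ 2 ^ i)) {w : ℕ}
    (hw : w < 512) : p w := by
  induction w using Nat.strong_induction_on with
  | _ w ih =>
    by_cases w0 : w = 0
    · exact w0 ▸ h0
    obtain ⟨i, hi, lt⟩ := t4.2.2.2 w hw w0
    have := h _ (lt.trans hw) i hi (ih _ lt (lt.trans hw))
    rwa [Nat.xor_xor_cancel_right] at this

theorem ci_mm {v c : ℕ} (hv : v < 512) (hc : tri c = true) : ci (mm (ec v) c) = ci c := by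
  obtain ⟨-, -, a, -, b⟩ := s1 hv
  obtain ⟨-, e1, e2, -, -, -, e6⟩ := cl_mm (ec v) c
  have h1 := tri_cl hc (i := 1) (by decide)
  have h2 := tri_cl hc (i := 2) (by decide)
  rw [Nat.shiftRight_eq_div_pow] at h1 h2
  rw [ci, ci, e1, e2, e6, (b _ (cl_lt c 1)).2 (by omega), (b _ (cl_lt c 2)).2 (by omega),
    show 8 = 2 ^ 3 from rfl, Nat.xor_div_two_pow, Nat.div_eq_of_lt a, Nat.xor_zero]
  exact congrArg (fun x => _ + 2 ^ 3 * x) (b _ (cl_lt c 6)).1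

variable {G : Type u} [Group G] [Finite G] (F : Fr G)

def e (v : ℕ) : G := F.ι (ec v)
def r (j : ℕ) : G := F.ι (rc j)

theorem eS {v : ℕ} (hv : v < 512) : e F v ∈ F.S := F.ι_mem _ (s1 hv).1
theorem rS {j : ℕ} (hj : j < 64) : r F j ∈ F.S := F.ι_mem _ (s2 hj).1
theorem κe {v : ℕ} (hv : v < 512) : F.κ (e F v) = ec v := F.κ_ι _ (s1 hv).1
theorem e0 : e F 0 = 1 := by rw [e, t4.2.1, F.ι_one]

theorem e_gen {v i : ℕ} (hv : v < 512) (hi : i < 9) : e F (v ^^^ 2 ^ i) = e F v * e F (2 ^ i) := by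
  rw [e, ← (s1 hv).2.2.2.1 i hi, F.ι_mul (s1 hv).1 (s1 (Fr.p9 hi)).1]; rfl

theorem e_xor {v w : ℕ} (hv : v < 512) (hw : w < 512) : e F (v ^^^ w) = e F v * e F w :=
  ind9 (p := fun w => e F (v ^^^ w) = e F v * e F w) (by rw [Nat.xor_zero, e0, mul_one])
    (fun w hw i hi ih => by rw [← Nat.xor_assoc, e_gen F (x9 hv hw) hi, ih, e_gen F hw hi, mul_assoc]) hw

theorem e_inj {v w : ℕ} (hv : v < 512) (hw : w < 512) (h : e F v = e F w) : v = w := by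
  rw [← (s1 hv).2.1, ← (s1 hw).2.1, ← κe F hv, h, κe F hw]

theorem e_sq {v : ℕ} (hv : v < 512) : e F v * e F v = 1 := by rw [← e_xor F hv hv, Nat.xor_self, e0]

/-- `E₉` -/
def E : Subgroup G where
  carrier := {g | ∃ v < 512, e F v = g}
  one_mem' := ⟨0, by decide, e0 F⟩
  mul_mem' := by
    rintro _ _ ⟨v, hv, rfl⟩ ⟨w, hw, rfl⟩
    exact ⟨_, x9 hv hw, e_xor F hv hw⟩
  inv_mem' := by
    rintro _ ⟨v, hv, rfl⟩
    exact ⟨v, hv, (inv_eq_of_mul_eq_one_right (e_sq F hv)).symm⟩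

theorem E_le : E F ≤ F.S := by rintro _ ⟨v, hv, rfl⟩; exact eS F hv

theorem E_comm {a b : G} (ha : a ∈ E F) (hb : b ∈ E F) : Commute a b := by
  obtain ⟨v, hv, rfl⟩ := ha
  obtain ⟨w, hw, rfl⟩ := hb
  rw [Commute, SemiconjBy, ← e_xor F hv hw, ← e_xor F hw hv, Nat.xor_comm]

theorem ci_E {a s : G} (ha : a ∈ E F) (hs : s ∈ F.S) : ci (F.κ (a * s)) = ci (F.κ s) := by
  obtain ⟨v, hv, rfl⟩ := ha
  rw [F.κS (eS F hv) hs, κe F hv, ci_mm hv (F.S_tri s hs)]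

theorem ci_r {a : G} (ha : a ∈ E F) {j : ℕ} (hj : j < 64) : ci (F.κ (a * r F j)) = j := by
  rw [ci_E F ha (rS F hj), r, F.κ_ι _ (s2 hj).1, (s2 hj).2.1]

theorem dec {s : G} (hs : s ∈ F.S) : ∃ a ∈ E F, ∃ j < 64, s = a * r F j := by
  let φ : Fin 512 × Fin 64 → F.S := fun x => ⟨e F x.1 * r F x.2, mul_mem (eS F x.1.2) (rS F x.2.2)⟩
  have inj : Function.Injective φ := by
    rintro ⟨v, j⟩ ⟨w, k⟩ h
    have h' : e F v * r F j = e F w * r F k := congrArg Subtype.val h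
    obtain rfl : j = k := Fin.ext (by
      rw [← ci_r F ⟨v, v.2, rfl⟩ j.2, h', ci_r F ⟨w, w.2, rfl⟩ k.2])
    rw [Fin.ext (e_inj F v.2 w.2 (mul_right_cancel h'))]
  obtain ⟨⟨v, j⟩, h⟩ := ((Nat.bijective_iff_injective_and_card φ).2 ⟨inj, by simp [F.S_card]⟩).2 ⟨s, hs⟩
  exact ⟨_, ⟨v, v.2, rfl⟩, j, j.2, (congrArg Subtype.val h).symm⟩

theorem cj_r {j w : ℕ} (hj : j < 64) (hw : w < 512) : cj (r F j) (e F w) = e F (ap9 (sg j) w) :=
  ind9 (p := fun w => cj (r F j) (e F w) = e F (ap9 (sg j) w)) (by rw [ap9_zero, e0, FE.cj_one])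
    (fun w hw i hi ih => by
      rw [e_gen F hw hi, cj_mul, ih, ap9_xor, e_xor F (ap9_lt _ _) (ap9_lt _ _), ap9_pow _ hi]
      congr 1
      rw [cj, mul_inv_eq_iff_eq_mul, r, e, e, ← F.ι_mul (s2 hj).1 (s1 (Fr.p9 hi)).1,
        ← F.ι_mul (s1 (c9_lt _ _)).1 (s2 hj).1, (s2 hj).2.2 i hi]) hw

theorem cj_s {a : G} (ha : a ∈ E F) {j w : ℕ} (hj : j < 64) (hw : w < 512) :
    cj (a * r F j) (e F w) = e F (ap9 (sg j) w) := by
  rw [← FE.cj_cj, cj_r F hj hw]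
  exact cj_eq.2 (E_comm F ha ⟨_, ap9_lt _ _, rfl⟩)

theorem S_nm : F.S ≤ normalizer (E F : Set G) := fun s hs => mem_normalizer_of_conj_mem (by
  rintro _ ⟨w, hw, rfl⟩
  obtain ⟨a, ha, j, hj, rfl⟩ := dec F hs
  exact ⟨_, ap9_lt _ _, (cj_s F ha hj hw).symm⟩)

theorem ncard_E {X : G → Prop} {f : ℕ → Bool} (h : ∀ w < 512, X (e F w) ↔ f w = true) :
    {u | u ∈ E F ∧ X u}.ncard = cnt 512 f := by
  rw [← ncard_cnt, ← Set.InjOn.ncard_image (f := e F) fun v hv w hw => e_inj F hv.1 hw.1]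
  congr 1
  ext u
  exact ⟨fun ⟨⟨w, hw, k⟩, hx⟩ => ⟨w, ⟨hw, (h w hw).1 (k ▸ hx)⟩, k⟩,
    fun ⟨w, hw, k⟩ => ⟨⟨w, hw.1, k⟩, k ▸ (h w hw.1).2 hw.2⟩⟩

theorem card_E : Nat.card (E F) = 512 := by
  have := ncard_E F (X := fun _ => True) (f := fun _ => true) (by simp)
  rw [show cnt 512 (fun _ => true) = 512 by decide +kernel] at this
  rw [← this, ← Nat.card_coe_set_eq]
  simp

theorem wc {B : Subgroup G} (hB : B ≤ F.S) (h2 : ∀ b ∈ B, b * b = 1) (hc : ∀ a ∈ B, ∀ b ∈ B, Commute a b)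
    (h : Nat.card B = 512) : B ≤ E F := by
  classical
  by_contra hn
  obtain ⟨b, hb, bE⟩ := SetLike.not_le_iff_exists.1 hn
  have h1 : (E F).relIndex B = ((fun s => ci (F.κ s)) '' B).ncard := relIndex_eq_ncard _ fun x hx y hy => by
    constructor
    · obtain ⟨a, ha, j, hj, rfl⟩ := dec F (hB hx)
      obtain ⟨a', ha', j', hj', rfl⟩ := dec F (hB hy)
      rw [ci_r F ha hj, ci_r F ha' hj']
      rintro rfl
      have := cj_nm (S_nm F (inv_mem (rS F hj))) (mul_mem (inv_mem ha) ha')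
      simpa only [cj, mul_inv_rev, inv_inv, mul_assoc] using this
    · intro k
      rw [← ci_E F (cj_nm (S_nm F (hB hx)) k) (hB hx)]
      simp [cj]
  have key : ∀ x ∈ B, ∃ j < 64, ci (F.κ x) = j ∧ iv j = true ∧
      ∀ w < 512, e F w ∈ B → bt (fx j) w = 1 := fun x hx => by
    obtain ⟨a, ha, j, hj, rfl⟩ := dec F (hB hx)
    have hi : iv j = true := al_of fun i hi => Nat.beq_eq ▸ e_inj F (ap9_lt _ _) (Fr.p9 hi) (by
      rw [← cj_s F ha hj (ap9_lt _ _), ← cj_s F ha hj (Fr.p9 hi), FE.cj_cj, h2 _ hx]; simp [cj])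
    refine ⟨j, hj, ci_r F ha hj, hi, fun w hw k => ?_⟩
    have := al_spec t5 hj
    simp only [hi, frc_eq, Bool.not_true, Bool.false_or] at this
    have := al_spec this hw
    rw [e_inj F (ap9_lt _ _) hw ((cj_s F ha hj hw).symm.trans (cj_eq.2 (hc _ hx _ k)))] at this
    simpa using this
  obtain ⟨j, hj, e1, hi, fj⟩ := key b hb
  have j0 : j ≠ 0 := by
    rintro rfl
    obtain ⟨a, ha, k, hk, rfl⟩ := dec F (hB hb)
    rw [ci_r F ha hk] at e1
    rw [e1, show r F 0 = 1 from F.ι_one, mul_one] at bE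
    exact bE ha
  have h3 : Nat.card ↥(E F ⊓ B) = cnt 512 fun w => decide (e F w ∈ B) :=
    (Nat.card_coe_set_eq _).trans (ncard_E F (X := (· ∈ B)) (by simp))
  have h4 : ∀ t, t ≤ Nat.card ↥(E F ⊓ B) → (E F).relIndex B ≤ cnt 64 fun k => iv k && Nat.ble t (pf j k) :=
    fun t ht => h1 ▸ ncard_le (by
      rintro _ ⟨x, hx, rfl⟩
      obtain ⟨k, hk, e2, ik, fk⟩ := key x hx
      refine ⟨e2.trans_lt hk, ?_⟩
      simp only [e2, ik, Bool.true_and, Nat.ble_eq]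
      rw [h3, ← ncard_cnt] at ht
      rw [pf, frc_eq]
      refine ht.trans (ncard_le fun w hw => ⟨hw.1, ?_⟩)
      have a1 := fj w hw.1 (by simpa using hw.2)
      have a2 := fk w hw.1 (by simpa using hw.2)
      rw [bt] at a1 a2
      rw [Nat.beq_eq, bt, Nat.shiftRight_and_distrib, Nat.and_mod_two_eq_one]
      exact ⟨a1, a2⟩)
  have h5 : (E F).relIndex B ≤ 28 := t6.1 ▸ h1 ▸ ncard_le (by
    rintro _ ⟨x, hx, rfl⟩
    obtain ⟨k, hk, e2, ik, -⟩ := key x hx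
    exact ⟨e2.trans_lt hk, (congrArg iv e2).trans ik⟩)
  have h6 := al_spec t6.2 hj
  simp only [hi, Bool.or_eq_true, Bool.and_eq_true, Nat.beq_eq, j0, Nat.ble_eq, Bool.not_true, false_or,
    Bool.false_eq_true] at h6
  have h7 : Nat.card ↥(E F ⊓ B) ≤ pf j j := by
    rw [h3, ← ncard_cnt, pf, frc_eq, Nat.and_self]
    exact ncard_le fun w hw => ⟨hw.1, Nat.beq_eq ▸ fj w hw.1 (by simpa using hw.2)⟩
  have h8 := H49.card_inf_mul_relIndex (E F) B
  rw [h] at h8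
  have h9 := (h4 19 (by nlinarith)).trans h6.1.2
  have h10 := (h4 64 (by nlinarith)).trans h6.2
  have := Nat.mul_le_mul (h7.trans h6.1.1) h10
  omega

theorem fus (h : SylIn 2 F.S ⊤) {a g : G} (ha : a ∈ E F) (hg : cj g a ∈ E F) :
    ∃ n ∈ normalizer (E F : Set G), cj n a = cj g a := by
  have := Fact.mk Nat.prime_two
  refine S1243.result (h.isP.toSylow (by simpa using h.ndvd)) (E F) ⟨E_le F, fun g hg => ?_⟩ a g
    (fun b hb => E_comm F hb ha) fun b hb => E_comm F hb hg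
  refine eq_of_le_of_card_ge (wc F hg ?_ ?_ ((card_cj g _).trans (card_E F))) (card_cj g _).ge
  · rintro _ ⟨_, ⟨v, hv, rfl⟩, rfl⟩
    exact cj_sq (e_sq F hv)
  · rintro _ ⟨a, ha, rfl⟩ _ ⟨b, hb, rfl⟩
    exact cj_comm.2 (E_comm F ha hb)

/-- the number of factorisations -/
noncomputable def cn (X : G → Prop) (s : G) : ℕ := {u | u ∈ E F ∧ X u ∧ X (s * u)}.ncard

theorem cn_cj {X : G → Prop} {n : G} (hn : n ∈ normalizer (E F : Set G))
    (h : ∀ u ∈ E F, X (cj n u) ↔ X u) {s : G} (hs : s ∈ E F) : cn F X (cj n s) = cn F X s := by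
  rw [cn, cn, ← Set.ncard_image_of_injective {u | u ∈ E F ∧ X u ∧ X (s * u)}
    (fun _ _ => cj_inj.1 : Function.Injective (cj n))]
  congr 1
  ext u
  constructor
  · rintro ⟨h1, h2, h3⟩
    have h4 := cj_nm (inv_mem hn) h1
    refine ⟨_, ⟨h4, (h _ h4).1 (by rwa [cj_inv']), (h _ (mul_mem hs h4)).1 ?_⟩, cj_inv' _ _⟩
    rwa [cj_mul, cj_inv']
  · rintro ⟨u, ⟨h1, h2, h3⟩, rfl⟩
    exact ⟨cj_nm hn h1, (h u h1).2 h2, cj_mul n s u ▸ (h _ (mul_mem hs h1)).2 h3⟩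

theorem cn_e {X : G → Prop} {f : ℕ → Bool} (h : ∀ w < 512, X (e F w) ↔ f w = true) {v : ℕ} (hv : v < 512) :
    cn F X (e F v) = n2 f v :=
  ncard_E F fun w hw => by rw [← e_xor F hv hw, h w hw, h _ (x9 hv hw), Bool.and_eq_true]

theorem D_cj (n u : G) : F.D (cj n u) ↔ F.D u :=
  ⟨fun ⟨g, h⟩ => ⟨n⁻¹ * g, by rw [← FE.cj_cj, h, cj_inv]⟩, fun ⟨g, h⟩ => ⟨n * g, by rw [← FE.cj_cj, h]⟩⟩

theorem e_rv {i : ℕ} (hi : i < 8) : e F (rv i) = F.ι (rp i) := by rw [e, (t4.1 i hi).2.1]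

theorem mask : ∃ m < 256, (∀ i < 8, m.testBit i = true ↔ F.D (F.ι (rp i))) ∧
    ∀ w < 512, F.D (e F w) ↔ ch m w = true := by
  classical
  have hm := Nat.ofBits_lt_two_pow (n := 8) fun i => decide (F.D (F.ι (rp i)))
  have h1 : ∀ i < 8, (Nat.ofBits (n := 8) fun i => decide (F.D (F.ι (rp i)))).testBit i = true ↔
      F.D (F.ι (rp i)) := fun i hi => by rw [Nat.testBit_ofBits_lt _ _ hi]; simp
  refine ⟨_, hm, h1, fun w hw => ?_⟩
  by_cases w0 : w = 0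
  · rw [w0, ch, t4.2.2.1, Nat.testBit_lt_two_pow hm, e0]
    exact iff_of_false (fun ⟨g, h⟩ => F.d_ne (cj_eq_one.1 h)) (by decide)
  obtain ⟨a, -, -, n, -, b⟩ := F.cls (eS F hw) (e_sq F hw) fun k => w0 (e_inj F hw (by decide) (k.trans (e0 F).symm))
  have := al_spec t3 hw
  simp only [frc_eq, Bool.or_eq_true, Nat.beq_eq, w0, false_or] at this
  rw [κe F hw, this] at a b
  rw [ch, h1 _ a, ← b, D_cj]

theorem four (h : F.Sy F.S) : ¬ 4 ∣ {u | u ∈ E F ∧ F.D u}.ncard := fun h4 => by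
  have dE : F.d ∈ E F := ⟨rv 1, by decide, e_rv F (by decide)⟩
  have h1 : F.Cd.relIndex (normalizer (E F : Set G)) = _ := relIndex_eq_ncard (fun n => cj n F.d) fun a _ b _ => by
    rw [mem_cen, ← cj_eq, ← FE.cj_cj, ← cj_inj (g := a) (y := F.d), cj_inv', eq_comm]
  have h2 : (fun n => cj n F.d) '' (normalizer (E F : Set G) : Subgroup G) = {u | u ∈ E F ∧ F.D u} := by
    ext u
    constructor
    · rintro ⟨n, hn, rfl⟩
      exact ⟨cj_nm hn dE, n, rfl⟩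
    · rintro ⟨k, g, rfl⟩
      exact fus F h.syl dE k
  have h3 : F.Cd.relIndex F.S ∣ 2 := index_dvd_two_iff.2 ⟨⟨F.a, F.aS⟩, fun b => by
    rcases F.M_d (F.S_M b.2) with k | k
    · exact Or.inr (mem_cen.2 (cj_eq.1 k))
    · refine Or.inl (mem_cen.2 (cj_eq.1 ?_))
      change cj (b * F.a) F.d = F.d
      rw [← FE.cj_cj, F.ad, cj_mul, k, cj_eq.2 (F.S_z b.2), mul_assoc, F.zz, mul_one]⟩
  rw [← h2, ← h1] at h4
  have h5 := (h4.trans (relIndex_dvd_of_le_left _ (inf_le_left : F.Cd ⊓ F.S ≤ _)))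
  rw [← relIndex_mul_relIndex _ _ _ inf_le_right (S_nm F), inf_relIndex_right] at h5
  exact (h.syl.of_le (S_nm F) le_top).ndvd
    (Nat.dvd_of_mul_dvd_mul_left two_pos (h5.trans (Nat.mul_dvd_mul_right h3 _)))

theorem zA (h : F.Sy F.S) {g : G} (hg : cj g F.z ∈ F.S) : cj g F.z ∈ F.A := by
  obtain ⟨hi, a, -, n, -, b⟩ := F.cls hg (cj_sq F.zz) fun k => F.z_ne (cj_eq_one.1 k)
  refine a.1 (by_contra fun i0 => ?_)
  generalize ty (F.κ (cj g F.z)) = i at hi b i0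
  have ez : e F (rv 0) = F.z := e_rv F (by decide)
  rw [← e_rv F hi, FE.cj_cj] at b
  obtain ⟨k, hk, c⟩ := fus F h.syl ⟨_, by decide, ez⟩ ⟨_, (t4.1 i hi).1, b.symm⟩
  rw [b, ← ez] at c
  obtain ⟨m, hm, m1, m2⟩ := mask F
  have inv : ∀ {X : G → Prop} {f : ℕ → Bool}, (∀ w < 512, X (e F w) ↔ f w = true) →
      (∀ u ∈ E F, X (cj k u) ↔ X u) → n2 f (rv i) = n2 f (rv 0) := fun h1 h2 => by
    rw [← cn_e F h1 (t4.1 i hi).1, ← cn_e F h1 (by decide), ← c, cn_cj F hk h2 ⟨_, by decide, rfl⟩]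
  have h0 : ¬ m.testBit 0 = true := fun k => h.nd ((m1 0 (by decide)).1 k)
  have h1 : m.testBit 1 = true := (m1 1 (by decide)).2 ⟨1, by simp [cj]; rfl⟩
  have h2 : ¬ m.testBit i = true := fun k' => h.nd (by
    rw [← ez, ← D_cj F k, c, e_rv F hi]; exact (m1 i hi).1 k')
  have h3 := al_spec t7 hm
  simp only [Bool.or_eq_true, h0, h1, Bool.not_true, Bool.false_eq_true, false_or, Nat.beq_eq] at h3
  rcases h3 with (h3 | rfl) | h3
  · exact four F h (by rw [ncard_E F m2]; omega)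
  · have h4 := al_spec t8.2 hi
    rw [inv (X := fun u => cn F F.D u ≠ 0) (f := p2.testBit) (fun w hw => by
        have := al_spec t8.1 hw
        rw [cn_e F m2 hw, ne_eq, ← Nat.beq_eq]
        revert this
        cases Nat.beq (n2 (ch 2) w) 0 <;> cases p2.testBit w <;> simp)
      fun u hu => by rw [cn_cj F hk (fun u _ => D_cj F k u) hu]] at h4
    simp [i0] at h4
  · have h4 := al_spec h3 hi
    rw [inv m2 fun u _ => D_cj F k u] at h4
    simp [i0, h2] at h4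

theorem tr {a : G} (ha : a ∈ F.A) (a1 : a ≠ 1) : ∃ n ∈ F.N, cj n F.z = a := by
  obtain ⟨v, hv, rfl⟩ := F.av_sur a ha
  refine F.trA hv ?_
  rintro rfl
  exact a1 (by simpa using F.av_xor 0 hv 0 hv)

theorem AS (h : F.Sy F.S) {a g : G} (ha : a ∈ F.A) (hg : cj g a ∈ F.S) : cj g a ∈ F.A := by
  by_cases a1 : a = 1
  · rw [a1, FE.cj_one]; exact one_mem _
  obtain ⟨n, -, rfl⟩ := tr F ha a1
  rw [FE.cj_cj] at hg ⊢
  exact zA F h hg

end On

theorem Fr.one {G : Type u} [Group G] [Finite G] (F : Fr G) (hO : Cfsg.oddCore G = ⊥)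
    (h : F.Sy F.S) : F.A.Normal := by
  have := Fact.mk Nat.prime_two
  have cm : ∀ a ∈ F.A, ∀ b ∈ F.A, a * b = b * a := fun a ha b hb => by
    rw [← inv_eq_of_mul_eq_one_right (F.av_sq (mul_mem ha hb)), mul_inv_rev,
      inv_eq_of_mul_eq_one_right (F.av_sq ha), inv_eq_of_mul_eq_one_right (F.av_sq hb)]
  have zA : F.z ∈ F.A := F.z_av ▸ F.av_mem 1
  rcases gold (H := ⊤) (A := F.A) ⟨le_top, h.syl.isP.to_le F.A_le, fun T h1 _ hT x hx g _ hg => by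
      obtain ⟨k, -, hk⟩ := h.syl.exists_conj hT le_top
      have n : k ∈ F.N := mem_normalizer_of_conj_mem fun a ha => On.AS F h ha (hk a (h1 ha))
      have := On.AS F h hx (g := k * g) (FE.cj_cj k g x ▸ hk _ hg)
      rw [← FE.cj_cj] at this
      exact (mem_normalizer_iff.1 n _).2 this⟩
    ⟨⟨⟨fun a b => Subtype.ext (cm _ a.2 _ b.2)⟩⟩, fun a ha => (pow_two a).trans (F.av_sq ha)⟩ with
    k | ⟨L, U, B, R, -, UA, BA, AB, h4, RL, tr, act, alt⟩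
  · refine ⟨fun a ha g => ?_⟩
    have := k g trivial a ha
    rwa [H44.Oppof_top, show pPrimeCore 2 G = ⊥ from hO, sup_bot_eq] at this
  exfalso
  have nAB : ¬ F.A ≤ B := fun k => by rw [relIndex_eq_one.2 k] at h4; omega
  by_cases h1 : ∀ n ∈ F.N, (∀ l ∈ L, cj n l ∈ L) ∧ (∀ b ∈ B, cj n b ∈ B) ∧ ∀ u ∈ U, cj n u ∈ U
  · have B1 : ∀ b ∈ B, b = 1 := fun b hb => by_contra fun b1 => nAB fun a ha => by
      by_cases a1 : a = 1
      · exact a1 ▸ one_mem _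
      obtain ⟨n, hn, rfl⟩ := On.tr F ha a1
      obtain ⟨m, hm, rfl⟩ := On.tr F (BA hb) b1
      have := (h1 _ (mul_mem hn (inv_mem hm))).2.1 _ hb
      rwa [← FE.cj_cj, cj_inv] at this
    rcases F.simp (L ⊓ F.N) inf_le_right (fun n hn y hy => ⟨(h1 n hn).1 y hy.1, cj_mem hn hy.2⟩) with k | k
    · obtain ⟨r, hr, e⟩ := tr.trans F.z zA (fun k => F.z_ne (B1 _ k)) F.a F.aA fun k' =>
        F.a_nd (by rw [B1 _ k']; exact Commute.one_left _)
      have e' : cj r F.z = F.a := mul_inv_eq_one.1 (B1 _ e)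
      rw [cj_eq.2 (k r ⟨RL hr, tr.norm hr⟩ _ zA)] at e'
      exact F.a_nd (e' ▸ (F.S_z F.dS).symm)
    · obtain ⟨m, hm, c, hc, e⟩ := exists_mul_of_mem_sup
        (inf_le_right.trans (normalizer_le_normalizer_centralizer _)) (k (F.S_le F.dS))
      obtain ⟨r, hr, e'⟩ := act m hm
      have e2 : ∀ a ∈ F.A, cj F.d a = cj r a := fun a ha => by
        rw [e, ← FE.cj_cj, cj_eq.2 (show Commute c a from (hc a ha).symm)]
        exact mul_inv_eq_one.1 (B1 _ (e' a ha))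
      have h2 : r ∈ centralizer (F.A : Set G) := mem_of_sq
        ((Nat.coprime_two_right.1 tr.odd).of_dvd_nat (orderOf_dvd_natCard _ hr)) fun a ha => by
          refine (cj_eq.1 ?_).symm
          rw [← FE.cj_cj, ← e2 _ (cj_nm (tr.norm hr) ha), ← e2 a ha, FE.cj_cj, F.dd]; simp [cj]
      exact F.a_nd (cj_eq.1 ((e2 _ F.aA).trans (cj_eq.2 (show Commute r F.a from (h2 _ F.aA).symm)))).symm
  · push Not at h1
    obtain ⟨n, hn, h1⟩ := h1
    have h2 : ∀ u ∈ U, cj n u ∈ B := (alt n ⟨trivial, hn⟩).resolve_left fun k => by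
      obtain ⟨u, hu, e⟩ := h1 k.1 k.2.1
      exact e (k.2.2 u hu)
    obtain ⟨u, hu, uB⟩ := SetLike.not_le_iff_exists.1 fun k : U ≤ B => nAB (AB.trans (sup_le le_rfl k))
    have sec : ∀ k ∈ F.N, k ∉ normalizer (U : Set G) → ∀ u ∈ U, cj k u ∈ B := fun k hk e =>
      (alt k ⟨trivial, hk⟩).resolve_left fun k' => e (mem_normalizer_of_conj_mem k'.2.2)
    have nU : n⁻¹ ∉ normalizer (U : Set G) := fun k => uB (by
      have := h2 _ (cj_nm k hu)
      rwa [cj_inv'] at this)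
    obtain ⟨a, ha, e1⟩ := On.tr F (UA hu) fun k => uB (k ▸ one_mem _)
    obtain ⟨b, hb, e2⟩ := On.tr F (mul_mem (UA hu) (BA (h2 u hu))) fun k =>
      uB (eq_inv_of_mul_eq_one_left k ▸ inv_mem (h2 u hu))
    have e3 : cj (b * a⁻¹) u = u * cj n u := by rw [← e2, ← e1, ← FE.cj_cj, cj_inv]
    have hk := mul_mem hb (inv_mem ha)
    by_cases c : b * a⁻¹ ∈ normalizer (U : Set G)
    · have := sec _ (mul_mem (inv_mem hn) hk) (fun k => nU ((mul_mem_cancel_right c).1 k)) u hu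
      rw [← FE.cj_cj, e3, cj_mul, cj_inv] at this
      exact uB ((mul_mem_cancel_left (sec _ (inv_mem hn) nU u hu)).1 this)
    · have := sec _ hk c u hu
      rw [e3] at this
      exact uB ((mul_mem_cancel_right (h2 u hu)).1 this)

end Cfsg.Agent.FE
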