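/-
R1, code lemmas.
-/
import Cfsg.Agent.FE.R1a

set_option autoImplicit false

namespace Cfsg.Agent.FE.R1

theorem m9_assoc (a b c : ℕ) : m9 (m9 a b) c = m9 a (m9 b c) :=
  ext9 (m9_lt _ _) (m9_lt _ _) fun i hi => by simp only [c9_m9 _ _ hi, ap9_m9]

theorem p9 {i : ℕ} (hi : i < 9) : 2 ^ i < 512 :=
  Nat.pow_lt_pow_right (a := 2) (n := 9) (by decide) hi

theorem c9_I {i : ℕ} (hi : i < 9) : c9 I9 i = 2 ^ i := by revert i; decide

theorem m9_I {r : ℕ} (h : r < 2 ^ 81) : m9 r I9 = r :=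
  ext9 (m9_lt _ _) h fun i hi => by rw [c9_m9 _ _ hi, c9_I hi, ap9_pow _ hi]

theorem I_m9 {r : ℕ} (h : r < 2 ^ 81) : m9 I9 r = r :=
  ext9 (m9_lt _ _) h fun i hi => by rw [c9_m9 _ _ hi, ap9_I9 (c9_lt _ _)]

theorem lo_xor {k a b : ℕ} (ha : a % 256 < 2 ^ k) (hb : b % 256 < 2 ^ k) :
    (a ^^^ b) % 256 < 2 ^ k := by
  rw [show (a ^^^ b) % 256 = a % 256 ^^^ b % 256 from Nat.xor_mod_two_pow (n := 8)]
  exact Nat.xor_lt_two_pow ha hb

theorem lo_bt {k f : ℕ} (x i : ℕ) (h : f % 256 < 2 ^ k) : bt x i * f % 256 < 2 ^ k := by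
  have := bt_lt x i
  have : bt x i = 0 ∨ bt x i = 1 := by omega
  rcases this with e | e <;> simp [e, h]

theorem U_ap {c v : ℕ} (h : ∀ i < 4, U (c9 c i)) (h8 : c9 c 8 = 256) (hv : U v) : U (ap9 c v) := by
  have e : bt v 4 = 0 ∧ bt v 5 = 0 ∧ bt v 6 = 0 ∧ bt v 7 = 0 := by
    simp only [U, bt, Nat.shiftRight_eq_div_pow] at *; omega
  have k : ∀ i < 4, bt v i * c9 c i % 256 < 2 ^ 4 := fun i hi => lo_bt v i (h i hi)
  unfold ap9
  rw [e.1, e.2.1, e.2.2.1, e.2.2.2, h8]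
  simp only [zero_mul, Nat.xor_zero]
  exact lo_xor (k := 4) (lo_xor (lo_xor (lo_xor (k 0 (by decide)) (k 1 (by decide)))
    (k 2 (by decide))) (k 3 (by decide))) (lo_bt _ _ (by decide))

theorem spn_spec {w k : ℕ} (h8 : c9 w 8 = 256) {l : List ℕ}
    (hl : ∀ x ∈ l, ap9 w x % 256 < 2 ^ k) {z : ℕ} (h : spn l z = true) :
    ap9 w z % 256 < 2 ^ k := by
  induction l generalizing z with
  | nil =>
    have h : z % 256 = 0 := Nat.eq_of_beq_eq_true h
    have e : ∀ i < 8, bt z i = 0 := fun i hi => by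
      interval_cases i <;> simp only [bt, Nat.shiftRight_eq_div_pow] <;> omega
    unfold ap9
    simp only [e, Nat.reduceLT, zero_mul, Nat.xor_zero, Nat.zero_xor, h8]
    exact lo_bt _ _ (Nat.two_pow_pos k)
  | cons x l ih =>
    have h : (spn l z || spn l (z ^^^ x)) = true := h
    have hl' := fun y hy => hl y (List.mem_cons_of_mem _ hy)
    rcases Bool.or_eq_true _ _ ▸ h with h | h
    · exact ih hl' h
    · have := lo_xor (ih hl' h) (hl x List.mem_cons_self)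
      rwa [← ap9_xor, Nat.xor_assoc, Nat.xor_self, Nat.xor_zero] at this

theorem B_UU {v w : ℕ} (hv : U v) (hw : U w) : B9 v w = 0 := by
  have k : ∀ {v}, U v → ∀ i < 4, bt (v >>> 4) i = 0 := fun {v} h i hi => by
    interval_cases i <;> simp only [U, bt, Nat.shiftRight_eq_div_pow] at * <;> omega
  simp [B9, b4, k hv, k hw]

theorem U_of_B {v : ℕ} (hv : v < 512) (h : ∀ i < 4, B9 v (2 ^ i) = 0) : U v := by
  unfold U; revert v; decide +kernel

theorem B9_bt (x i f w : ℕ) : B9 (bt x i * f) w = bt x i * B9 f w := by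
  have := bt_lt x i
  have : bt x i = 0 ∨ bt x i = 1 := by omega
  rcases this with e | e <;> rw [e] <;> simp [B9, b4, bt]

theorem B_ext {c w w' : ℕ} (h : ∀ i < 9, B9 (c9 c i) w = B9 (2 ^ i) w') {z : ℕ} (hz : z < 512) :
    B9 (ap9 c z) w = B9 z w' := by
  conv_rhs => rw [← ap9_I9 hz]
  simp only [ap9, B9_xor, B9_bt, h, c9_I, Nat.reduceLT]

theorem ab_spec {x : ℕ} (hx : x < 512) : ap9 ab x ^^^ x = x >>> 4 % 16 ∧
    (ap9 ab x = x ↔ U x) := by
  unfold U; revert x; decide +kernel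

theorem ab_B {x : ℕ} (hx : x < 512) (y : ℕ) : B9 (ap9 ab x ^^^ x) y = b4 (x >>> 4) (y >>> 4) := by
  have e : ∀ s, ∀ i < 4, bt (s % 16) i = bt s i := fun s i hi => by
    interval_cases i <;> simp only [bt, Nat.shiftRight_eq_div_pow] <;> omega
  have z : (x >>> 4 % 16) >>> 4 = 0 := by simp only [Nat.shiftRight_eq_div_pow]; omega
  rw [(ab_spec hx).1, B9, z]
  simp only [b4, e, Nat.reduceLT]
  simp [bt]

theorem b4_self (s : ℕ) : b4 s s = 0 := by
  simp only [b4]; rw [mul_comm (bt s 3), mul_comm (bt s 2)]; omega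

theorem alN_spec {f : ℕ → Bool} (h : alN f = true) {r : ℕ} (hr : r < 2 ^ 81)
    (h0 : ∀ i < 4, c9 r i = 2 ^ i) (h8 : c9 r 8 = 256)
    (hU : ∀ i < 4, U (c9 r (4 + i) ^^^ 2 ^ (4 + i)))
    (hs : ∀ i < 4, ∀ j < 4, B9 (c9 r (4 + i) ^^^ 2 ^ (4 + i)) (2 ^ (4 + j)) =
      B9 (c9 r (4 + j) ^^^ 2 ^ (4 + j)) (2 ^ (4 + i)))
    (ha : ∀ i < 4, B9 (c9 r (4 + i) ^^^ 2 ^ (4 + i)) (2 ^ (4 + i)) = 0) : f r = true := by
  have k : ∀ v < 512, v % 256 < 16 → uu (v % 16 + 16 * (v / 256)) = v ∧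
      ∀ j < 4, B9 v (2 ^ (4 + j)) = bt (v % 16 + 16 * (v / 256)) (3 - j) := by decide +kernel
  obtain ⟨a, ha', e, b⟩ : ∃ a : ℕ → ℕ, (∀ i < 4, a i < 32) ∧
      (∀ i < 4, c9 r (4 + i) = 2 ^ (4 + i) ^^^ uu (a i)) ∧ ∀ i < 4, ∀ j < 4,
        B9 (c9 r (4 + i) ^^^ 2 ^ (4 + i)) (2 ^ (4 + j)) = bt (a i) (3 - j) := by
    have l : ∀ i < 4, c9 r (4 + i) ^^^ 2 ^ (4 + i) < 512 := fun i hi =>
      Nat.xor_lt_two_pow (n := 9) (c9_lt _ _) (p9 (by omega))
    refine ⟨fun i => (c9 r (4 + i) ^^^ 2 ^ (4 + i)) % 16 + 16 * ((c9 r (4 + i) ^^^ 2 ^ (4 + i)) / 256),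
      fun i hi => by have := l i hi; beta_reduce; omega, fun i hi => ?_,
      fun i hi => (k _ (l i hi) (hU i hi)).2⟩
    beta_reduce
    rw [(k _ (l i hi) (hU i hi)).1, Nat.xor_comm (c9 r _), ← Nat.xor_assoc, Nat.xor_self,
      Nat.zero_xor]
  have s : ∀ i < 4, ∀ j < 4, bt (a i) (3 - j) = bt (a j) (3 - i) := fun i hi j hj => by
    rw [← b i hi j hj, ← b j hj i hi, hs i hi j hj]
  have t : ∀ i < 4, bt (a i) (3 - i) = 0 := fun i hi => by rw [← b i hi i hi, ha i hi]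
  have c := al_spec h (ha' 0 (by decide))
  rw [t 0 (by decide)] at c
  have c := al_spec ((Bool.or_eq_true _ _).mp c |>.resolve_left (by decide)) (ha' 1 (by decide))
  rw [t 1 (by decide), s 1 (by decide) 0 (by decide), Nat.beq_refl (bt _ _)] at c
  have c := al_spec ((Bool.or_eq_true _ _).mp c |>.resolve_left (by decide)) (ha' 2 (by decide))
  rw [t 2 (by decide), s 2 (by decide) 0 (by decide), s 2 (by decide) 1 (by decide),
    Nat.beq_refl (bt _ _), Nat.beq_refl (bt _ _)] at c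
  have c := al_spec ((Bool.or_eq_true _ _).mp c |>.resolve_left (by decide)) (ha' 3 (by decide))
  rw [t 3 (by decide), s 3 (by decide) 0 (by decide), s 3 (by decide) 1 (by decide),
    s 3 (by decide) 2 (by decide), Nat.beq_refl (bt _ _), Nat.beq_refl (bt _ _),
    Nat.beq_refl (bt _ _)] at c
  have c := (Bool.or_eq_true _ _).mp c |>.resolve_left (by decide)
  rw [frc_eq] at c
  convert c
  rw [← pk9_c9 hr, pk9, h0 0 (by decide), h0 1 (by decide), h0 2 (by decide), h0 3 (by decide),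
    e 0 (by decide), e 1 (by decide), e 2 (by decide), e 3 (by decide), h8]
  rfl

/-- `g` is an isometry that preserves the codes over `W`, with inverse `g'` -/
structure Is (g g' : ℕ) : Prop where
  l : ∀ v < 512, ap9 g (ap9 g' v) = v
  r : ∀ v < 512, ap9 g' (ap9 g v) = v
  adj : ∀ z < 512, ∀ j < 8, B9 (ap9 g' z) (2 ^ j) = B9 z (c9 g j)
  d : c9 g 8 = 256
  u : ∀ i < 4, U (c9 g i)

theorem Is.U' {g g' : ℕ} (h : Is g g') {z : ℕ} (hz : z < 512) (u : U z) : U (ap9 g' z) :=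
  U_of_B (ap9_lt _ _) fun i hi => by rw [h.adj z hz i (by omega), B_UU u (h.u i hi)]

theorem Is.std {g g' r : ℕ} (h : Is g g') {f : ℕ → Bool} (hf : alN f = true) (hr : r < 2 ^ 81)
    (e : ∀ v < 512, ap9 r v = ap9 g' (ap9 ab (ap9 g v))) : f r = true ∧ deg r = false := by
  have c : ∀ i < 9, c9 r i = ap9 g' (ap9 ab (c9 g i)) := fun i hi => by
    rw [← ap9_pow _ hi, e _ (p9 hi), ap9_pow _ hi]
  have c' : ∀ i < 9, ap9 g' (c9 g i) = 2 ^ i := fun i hi => by rw [← ap9_pow _ hi, h.r _ (p9 hi)]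
  have n : ∀ i < 4, c9 r (4 + i) ^^^ 2 ^ (4 + i) =
      ap9 g' (ap9 ab (c9 g (4 + i)) ^^^ c9 g (4 + i)) := fun i hi => by
    rw [ap9_xor, c _ (by omega), c' _ (by omega)]
  have l : ∀ i, ap9 ab (c9 g i) ^^^ c9 g i < 512 := fun i =>
    Nat.xor_lt_two_pow (n := 9) (ap9_lt _ _) (c9_lt _ _)
  have b : ∀ i < 4, ∀ j < 4, B9 (c9 r (4 + i) ^^^ 2 ^ (4 + i)) (2 ^ (4 + j)) =
      b4 (c9 g (4 + i) >>> 4) (c9 g (4 + j) >>> 4) := fun i hi j hj => by
    rw [n i hi, h.adj _ (l _) _ (by omega), ab_B (c9_lt _ _)]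
  refine ⟨alN_spec hf hr (fun i hi => ?_) ?_ (fun i hi => ?_) (fun i hi j hj => ?_)
    fun i hi => ?_, ?_⟩
  · rw [c i (by omega), (ab_spec (c9_lt _ _)).2.2 (h.u i hi), c' i (by omega)]
  · rw [c 8 (by decide), (ab_spec (c9_lt _ _)).2.2 (by rw [h.d]; unfold U; decide), c' 8 (by decide)]
    rfl
  · rw [n i hi]
    refine h.U' (l _) ?_
    rw [(ab_spec (c9_lt _ _)).1, U]; omega
  · rw [b i hi j hj, b j hj i hi, b4_comm]
  · rw [b i hi i hi, b4_self]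
  · rw [deg, Bool.not_eq_false']
    refine al_of fun v hv => ?_
    rw [Bool.or_eq_true, Nat.beq_eq, Bool.not_eq_true', ← Bool.not_eq_true, Nat.beq_eq]
    refine or_iff_not_imp_right.2 fun k => ?_
    have k := congrArg (ap9 g) (not_not.1 k)
    rw [e _ (by omega), h.l _ (ap9_lt _ _), (ab_spec (ap9_lt _ _)).2] at k
    have := h.U' (ap9_lt _ _) k
    rw [h.r _ (by omega), U] at this
    omega

theorem cmE_of {c r : ℕ} (h : ∀ v < 512, ap9 c (ap9 r v) = ap9 r (ap9 c v)) : cmE c r = true :=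
  al_of fun i hi => by
    rw [Nat.beq_eq, ← ap9_pow r (by omega), ← ap9_pow c (by omega), h _ (p9 (by omega))]

end Cfsg.Agent.FE.R1
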