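/-
R1: the conjugates of `a` in `M` act on `J / ⟨z⟩`, up to `K`, as `ab`, `b15` or `b20`.
-/
import Cfsg.Agent.FE.R1b

set_option autoImplicit false
set_option linter.unusedSectionVars false

namespace Cfsg.Agent.FE.R1

open Subgroup H42

universe u

variable {G : Type u} [Group G] [Finite G] (F : Fr G)

theorem ρ_inv {m : G} (hm : m ∈ F.M) : m9 (F.ρ m⁻¹) (F.ρ m) = I9 := by
  rw [← F.ρ_mul (inv_mem hm) hm, inv_mul_cancel, F.ρ_one]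

theorem ρ_inv' {m : G} (hm : m ∈ F.M) : m9 (F.ρ m) (F.ρ m⁻¹) = I9 := by
  rw [← F.ρ_mul hm (inv_mem hm), mul_inv_cancel, F.ρ_one]

theorem φ_inv {m : G} (hm : m ∈ F.M) {v : ℕ} (hv : v < 512) :
    ap9 (F.ρ m⁻¹) (ap9 (F.ρ m) v) = v := by rw [← ap9_m9, ρ_inv F hm, ap9_I9 hv]

theorem φ_inv' {m : G} (hm : m ∈ F.M) {v : ℕ} (hv : v < 512) :
    ap9 (F.ρ m) (ap9 (F.ρ m⁻¹) v) = v := by rw [← ap9_m9, ρ_inv' F hm, ap9_I9 hv]

theorem ρ8 {m : G} (hm : m ∈ F.M) : c9 (F.ρ m) 8 = 256 := by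
  rw [← ap9_pow _ (by decide)]; exact F.ρ_d hm

theorem ρ_cj {k t : G} (hk : k ∈ F.M) (ht : t ∈ F.M) :
    F.ρ (cj k t) = m9 (m9 (F.ρ k) (F.ρ t)) (F.ρ k⁻¹) := by
  rw [cj, F.ρ_mul (mul_mem hk ht) (inv_mem hk), F.ρ_mul hk ht]

theorem ρ_cj_iff {k t : G} (hk : k ∈ F.M) (ht : t ∈ F.M) {s : ℕ} (hs : s < 2 ^ 81) :
    F.ρ (cj k t) = s ↔ m9 (F.ρ k) (F.ρ t) = m9 s (F.ρ k) := by
  rw [ρ_cj F hk ht]
  constructor
  · rintro rfl
    rw [m9_assoc, ρ_inv F hk, m9_I (m9_lt _ _)]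
  · intro h
    rw [h, m9_assoc, ρ_inv' F hk, m9_I hs]

theorem cel_K {e : ℕ} (h : sp4 (e % 65536) = true) : ∃ k ∈ F.K, F.ρ k = cel e := by
  obtain ⟨n, hn, e'⟩ := F.act_K0 (Nat.mod_lt _ (by decide)) h
  unfold cel
  cases Nat.beq (e / 65536 % 2) 0
  · exact ⟨_, mem_sup_left (mul_mem ⟨F.S_le F.aS, F.aM⟩ hn.1),
      by rw [F.ρ_mul F.aM hn.1.2, F.ρa, e', cond_false]⟩
  · exact ⟨n, mem_sup_left hn.1, by rw [e', cond_true]⟩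

/-- the vectors of `l` are mapped into `⟨e_0, …, e_(k-1), 256⟩` -/
def Inv (k : ℕ) (l : List ℕ) (n : G) : Prop := ∀ x ∈ l, ap9 (F.ρ n) x % 256 < 2 ^ k

theorem step {l T : List ℕ} {S : List (List ℕ)} (h : stp l S T = true) {k : ℕ} (hk : k < 4)
    {n : G} (hn : n ∈ F.M) (hI : Inv F k l n) :
    ∃ c ∈ F.K, ∃ j < S.length, Inv F (k + 1) (S.getD j []) (n * c) := by
  simp only [stp, Bool.and_eq_true, List.all_eq_true, Nat.blt_eq] at h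
  obtain ⟨⟨h1, h2⟩, h3⟩ := h
  have l9 : 2 ^ k < 512 := p9 (by omega)
  have k4 : 2 ^ k < 16 := Nat.pow_lt_pow_right (a := 2) (n := 4) (by decide) hk
  have e := φ_inv' F hn l9
  have h := al_spec h3 (ap9_lt (F.ρ n⁻¹) (2 ^ k))
  generalize hy : ap9 (F.ρ n⁻¹) (2 ^ k) = y at e h
  have yl : y < 512 := hy ▸ ap9_lt _ _
  have q : q9 y = 0 := by
    rw [← F.ρ_q hn yl, e]
    exact (by decide : ∀ k < 4, q9 (2 ^ k) = 0) k hk
  have b : ∀ x ∈ l, B9 x y = 0 := fun x hx => by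
    rw [← F.ρ_B hn (h1 x hx) yl, e]
    exact B_UU (lt_trans (hI x hx) k4) (by unfold U; omega)
  simp only [Bool.or_eq_true, Bool.not_eq_true', ← Bool.not_eq_true, Bool.and_eq_true,
    List.all_eq_true, List.any_eq_true, Nat.beq_eq] at h
  rcases h with (h | h) | ⟨t, ht, h⟩
  · exact absurd ⟨q, b⟩ h
  · have := spn_spec (ρ8 F hn) hI h
    omega
  · obtain ⟨c, hc, ec⟩ := cel_K F (h2 t ht).1
    refine ⟨c, hc, _, (h2 t ht).2, fun x hx => ?_⟩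
    rw [F.ρ_mul hn (F.K_le hc), ap9_m9, ec]
    refine spn_spec (ρ8 F hn) (fun z hz => ?_) (h x hx)
    rcases List.mem_cons.1 hz with rfl | hz
    · rw [e, pow_succ]
      have := Nat.two_pow_pos k
      omega
    · have := hI z hz
      omega

theorem chain {n : G} (hn : n ∈ F.M) {k : ℕ} (hk : k ≤ 4) :
    ∃ c ∈ F.K, ∃ j < (st.getD k []).length, Inv F k ((st.getD k []).getD j []) (n * c) := by
  induction k with
  | zero => exact ⟨1, one_mem _, 0, by decide, fun x hx => absurd hx List.not_mem_nil⟩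
  | succ k ih =>
    obtain ⟨c, hc, j, hj, h⟩ := ih (by omega)
    obtain ⟨c', hc', j', hj', h'⟩ := step F (al_spec (al_spec chkL_ok (by omega : k < 4)) hj)
      (by omega) (mul_mem hn (F.K_le hc)) h
    exact ⟨c * c', mul_mem hc hc', j', hj', mul_assoc n c c' ▸ h'⟩

theorem outer {t : G} (ht : t ∈ F.M) (hd : ¬ Commute t F.d) : bd1 (F.ρ t) = false := by
  rw [← Bool.not_eq_true, bd1, Bool.and_eq_true, cm, Nat.beq_eq, Bool.not_eq_true',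
    ← Bool.not_eq_true, Nat.beq_eq]
  rintro ⟨h1, h2⟩
  obtain ⟨n, hn, y, hy, e⟩ := F.K_dec (mul_mem (mem_sup_left (S := F.N ⊓ F.M)
    ⟨F.S_le F.aS, F.aM⟩) (F.k2 ht h1))
  have c := F.a_mul_d ht hd
  have e' := F.ρ_mul F.aM ht
  rw [e] at c e'
  have c := c.mul_left (F.Y_cen hy F.dJ).inv_left
  rw [mul_inv_cancel_right] at c
  rw [F.ρ_mul_I hn.2 (F.Y_M hy) (F.ρ_Y hy), F.ρa] at e'
  exact h2 (e' ▸ (F.K0_act (F.mem_K0.2 ⟨hn, c⟩)).2)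

theorem nbd2 {t : G} (ht : t ∈ F.M) : bd2 (F.ρ t) = false := by
  obtain ⟨k, hk, e⟩ := cel_K F (e := 80936) (by decide +kernel)
  obtain ⟨k', hk', e'⟩ := cel_K F (e := 70234) (by decide +kernel)
  have hk := F.K_le hk
  have hk' := F.K_le hk'
  have h := mul_mem ht (mul_mem hk (mul_mem ht (mul_mem hk' ht)))
  rw [bd2, frc_eq, ← e, ← e', ← F.ρ_mul hk' ht, ← F.ρ_mul ht (mul_mem hk' ht),
    ← F.ρ_mul hk (mul_mem ht (mul_mem hk' ht)), ← F.ρ_mul ht (mul_mem hk (mul_mem ht (mul_mem hk' ht))),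
    ← Bool.not_eq_true, Bool.and_eq_true, cm, Nat.beq_eq]
  rintro ⟨h1, h2⟩
  rw [F.K_inC (F.k2 h h1)] at h2
  exact absurd h2 (by decide)

theorem rp_spec {j : ℕ} (hj : j < 11) : m9 (hh j) (hi j) = I9 ∧ m9 (hi j) (hh j) = I9 ∧
    c9 (hh j) 8 = 256 ∧ (∀ i < 4, c9 (hh j) i ∈ (st.getD 4 []).getD j []) ∧
    (∀ i < 9, ∀ k < 8, B9 (c9 (hi j) i) (2 ^ k) = B9 (2 ^ i) (c9 (hh j) k)) ∧
    ∀ p ∈ sl j, sp4 (p.1 % 65536) = true ∧ m9 (cel p.1) (hh j) = m9 (hh j) p.2 ∧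
      c9 p.2 8 = 256 ∧ ∀ i < 4, U (c9 p.2 i) := by
  have := al_spec rp_ok hj
  simp only [Bool.and_eq_true, Nat.beq_eq, List.all_eq_true] at this
  obtain ⟨⟨⟨⟨⟨h1, h2⟩, h3⟩, h4⟩, h5⟩, h6⟩ := this
  refine ⟨h1, h2, h3, fun i hi => ?_, fun i hi k hk => Nat.eq_of_beq_eq_true
    (al_spec (al_spec h5 hi) hk), fun p hp => ?_⟩
  · obtain ⟨x, hx, e⟩ := List.any_eq_true.1 (al_spec h4 hi)
    exact Nat.eq_of_beq_eq_true e ▸ hx
  · obtain ⟨⟨⟨k1, k2⟩, k3⟩, k4⟩ := h6 p hp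
    exact ⟨k1, k2, k3, fun i hi => Nat.blt_eq.mp (al_spec k4 hi)⟩

theorem is_rep {j : ℕ} (hj : j < 11) {n : G} (hn : n ∈ F.M)
    (h : Inv F 4 ((st.getD 4 []).getD j []) n) :
    Is (m9 (F.ρ n) (hh j)) (m9 (hi j) (F.ρ n⁻¹)) := by
  obtain ⟨h1, h2, h3, h4, h5, -⟩ := rp_spec hj
  refine ⟨fun v hv => ?_, fun v hv => ?_, fun z hz k hk => ?_, ?_, fun i hi => ?_⟩
  · rw [ap9_m9, ap9_m9, ← ap9_m9 (hh j), h1, ap9_I9 (ap9_lt _ _), φ_inv' F hn hv]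
  · rw [ap9_m9, ap9_m9, φ_inv F hn (ap9_lt _ _), ← ap9_m9, h2, ap9_I9 hv]
  · rw [ap9_m9, B_ext (fun i hi => h5 i hi k hk) (ap9_lt _ _),
      ← F.ρ_B hn (ap9_lt _ _) (c9_lt _ _), φ_inv' F hn hz, c9_m9 _ _ (by omega)]
  · rw [c9_m9 _ _ (by decide), h3, F.ρ_d hn]
  · rw [c9_m9 _ _ (by omega)]
    exact h _ (h4 i hi)

theorem rep {j : ℕ} (hj : j < 11) {n : G} (hn : n ∈ F.M)
    (h : Inv F 4 ((st.getD 4 []).getD j []) n)
    (hs : ∀ p ∈ sl j, ∀ v < 512,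
      ap9 p.2 (ap9 (m9 (hi j) (F.ρ n⁻¹)) (ap9 ab (ap9 (m9 (F.ρ n) (hh j)) v))) =
        ap9 (m9 (hi j) (F.ρ n⁻¹)) (ap9 ab (ap9 (m9 (F.ρ n) (hh j)) (ap9 p.2 v)))) :
    F.ρ (cj n⁻¹ F.a) ∈ [ab, b15, b20] := by
  obtain ⟨h1, h2, -⟩ := rp_spec hj
  have hb := cj_mem (inv_mem hn) F.aM
  have e : ∀ v, ap9 (m9 (hi j) (m9 (F.ρ (cj n⁻¹ F.a)) (hh j))) v =
      ap9 (m9 (hi j) (F.ρ n⁻¹)) (ap9 ab (ap9 (m9 (F.ρ n) (hh j)) v)) := fun v => by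
    simp only [ρ_cj F (inv_mem hn) F.aM, inv_inv, ap9_m9, F.ρa]
  obtain ⟨c, d⟩ := (is_rep F hj hn h).std cand_ok (m9_lt _ _) fun v _ => e v
  have c := al_spec c hj
  rw [d, frc_eq, ← m9_assoc (hh j), h1, I_m9 (m9_lt _ _), m9_assoc, h1, m9_I (F.ρ_lt _), good,
    nbd2 F hb, outer F hb fun h => F.a_nd ((F.cj_nd (inv_mem hn) F.aM).1 h)] at c
  simp only [Bool.or_false, Bool.or_eq_true, List.any_eq_true, Nat.beq_eq] at c
  rcases c with ⟨p, hp, c⟩ | c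
  · rw [cmE_of fun v hv => by rw [e, e, hs p hp v hv]] at c
    exact absurd c (by decide)
  · simpa [or_assoc] using c

/-- the stabiliser of `W` commutes with `ab` -/
theorem base {n : G} (hn : n ∈ F.M) (h : ∀ i < 4, U (c9 (F.ρ n) i)) :
    m9 (F.ρ n) ab = m9 ab (F.ρ n) := by
  have k := rep F (j := 0) (by decide) hn (fun x hx => by
    obtain ⟨i, hi, rfl⟩ := (by decide : ∀ x ∈ (st.getD 4 []).getD 0 [], ∃ i < 4, x = 2 ^ i) x hx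
    rw [ap9_pow _ (by omega)]; exact h i hi) fun p hp => absurd hp List.not_mem_nil
  have e : c9 (F.ρ (cj n⁻¹ F.a)) 2 = 4 := by
    rw [ρ_cj F (inv_mem hn) F.aM, c9_m9 _ _ (by decide), inv_inv, ap9_m9, F.ρa,
      (ab_spec (c9_lt _ _)).2.2 (h 2 (by decide)), ← ap9_pow _ (by decide), φ_inv F hn (by decide)]
    rfl
  have k : F.ρ (cj n⁻¹ F.a) = ab := by
    simp only [List.mem_cons, List.not_mem_nil, or_false] at k
    rcases k with k | k | k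
    · exact k
    all_goals rw [k] at e; exact absurd e (by decide +kernel)
  rw [← F.ρa, ← ρ_cj_iff F hn F.aM (F.ρ_lt _)]
  conv_rhs => rw [← cj_inv' n F.a]
  rw [ρ_cj F hn F.aM, ρ_cj F hn (cj_mem (inv_mem hn) F.aM), k, F.ρa]

theorem three {m : G} (hm : m ∈ F.M) :
    ∃ k ∈ F.K, F.ρ (cj k⁻¹ (cj m F.a)) ∈ [ab, b15, b20] := by
  obtain ⟨c, hc, j, hj, h⟩ := chain F (inv_mem hm) le_rfl
  have hj : j < 11 := hj
  have hn := mul_mem (inv_mem hm) (F.K_le hc)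
  refine ⟨c, hc, ?_⟩
  rw [cj_cj, show c⁻¹ * m = (m⁻¹ * c)⁻¹ by simp]
  generalize m⁻¹ * c = n at h hn
  have I := is_rep F hj hn h
  obtain ⟨h1, h2, -, -, -, h6⟩ := rp_spec hj
  refine rep F hj hn h fun p hp v hv => ?_
  obtain ⟨k1, k2, k3, k4⟩ := h6 p hp
  obtain ⟨k, hk, e⟩ := cel_K F k1
  have hk := F.K_le hk
  have s : ∀ z, ap9 (F.ρ (cj n k)) z =
      ap9 (m9 (F.ρ n) (hh j)) (ap9 p.2 (ap9 (m9 (hi j) (F.ρ n⁻¹)) z)) := fun z => by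
    rw [ρ_cj F hn hk, e, ap9_m9 (F.ρ n), ← ap9_m9 (hh j), ← k2, ap9_m9 (hi j), ap9_m9 (cel _),
      ← ap9_m9 (hh j), h1, ap9_I9 (ap9_lt _ _), ap9_m9, ap9_m9]
  have b := base F (cj_mem hn hk) fun i hi => by
    rw [← ap9_pow _ (by omega), s]
    refine U_ap I.u I.d (U_ap k4 k3 (I.U' (p9 (by omega)) ?_))
    exact (by unfold U; decide : ∀ i < 4, U (2 ^ i)) i hi
  have b := congrArg (fun r => ap9 (m9 (hi j) (F.ρ n⁻¹)) (ap9 r (ap9 (m9 (F.ρ n) (hh j)) v))) b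
  beta_reduce at b
  rwa [ap9_m9 (F.ρ (cj n k)), ap9_m9 ab, s, s, I.r _ (ap9_lt _ _), I.r _ hv] at b

end Cfsg.Agent.FE.R1
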