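/-
R1: `M / J C(J)` is `2 × S₆` or `W(E₆)`.
-/
import Cfsg.Agent.FE.R1c

set_option autoImplicit false
set_option linter.unusedSectionVars false

namespace Cfsg.Agent.FE

open Subgroup H42

universe u

namespace R1

variable {G : Type u} [Group G] [Finite G] (F : Fr G)

theorem ρ_congr {g s t : G} (hg : g ∈ F.M) (hs : s ∈ F.M) (ht : t ∈ F.M) (h : F.ρ s = F.ρ t) :
    F.ρ (cj g s) = F.ρ (cj g t) := by rw [ρ_cj F hg hs, ρ_cj F hg ht, h]

/-- the elements whose conjugation preserves `R` -/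
def PR (R : List ℕ) : Subgroup G where
  carrier := {k | k ∈ F.M ∧ ∀ t ∈ F.M, F.ρ (cj k t) ∈ R ↔ F.ρ t ∈ R}
  one_mem' := ⟨one_mem _, fun t _ => by simp [cj]⟩
  mul_mem' := fun ha hb => ⟨mul_mem ha.1 hb.1, fun t ht => by
    rw [← cj_cj, ha.2 _ (cj_mem hb.1 ht), hb.2 t ht]⟩
  inv_mem' := fun ha => ⟨inv_mem ha.1, fun t ht => by
    rw [← ha.2 _ (cj_mem (inv_mem ha.1) ht), cj_inv']⟩

theorem mem_PR {R : List ℕ} {c : ℕ} (h : clo R c = true) {m : G} (hm : m ∈ F.M) (e : F.ρ m = c) :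
    m ∈ PR F R := by
  simp only [clo, Bool.and_eq_true, List.all_eq_true, List.any_eq_true, Nat.beq_eq] at h
  have i : ∀ m ∈ F.M, F.ρ m = c → F.ρ m⁻¹ = c := fun m hm e => by
    rw [← m9_I (F.ρ_lt m⁻¹), ← h.1, ← m9_assoc, ← e, ρ_inv F hm, I_m9 (F.ρ_lt _)]
  have k : ∀ m ∈ F.M, F.ρ m = c → ∀ t ∈ F.M, F.ρ t ∈ R → F.ρ (cj m t) ∈ R := fun m hm e t ht hR => by
    obtain ⟨x, hx, e'⟩ := h.2 _ hR
    rwa [ρ_cj F hm ht, i m hm e, e, e']
  exact ⟨hm, fun t ht => ⟨fun h => cj_inv m t ▸ k _ (inv_mem hm) (i m hm e) _ (cj_mem hm ht) h,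
    k m hm e t ht⟩⟩

theorem K_PR {R : List ℕ} (h : ∀ c ∈ [gn 0, gn 1, gn 2, gn 3, ab, I9], clo R c = true) :
    F.K ≤ PR F R := by
  have hI := h I9 (by simp)
  have hY : F.Y ≤ PR F R := fun y hy => mem_PR F hI (F.Y_M hy) (F.ρ_Y hy)
  have h0 : F.K0 ≤ PR F R := F.gen0 (fun j hj => mem_PR F hI (F.J_M hj) (F.ρ_J hj))
    (F.OM_Y.trans hY) fun n hn e => by
      refine mem_PR F (h _ ?_) hn.1.2 rfl
      rw [F.K0_ρ hn]
      exact (by decide +kernel : ∀ c ∈ [g1, g2, g3, g4],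
        act (bk c) ∈ [gn 0, gn 1, gn 2, gn 3, ab, I9]) _ e
  refine sup_le (fun n hn => (F.NM_dec hn).elim (fun h => h0 h) fun k => ?_) hY
  exact (mul_mem_cancel_left (mem_PR F (h ab (by simp)) F.aM F.ρa)).1 (h0 k)

theorem clo_spec : (∀ c ∈ [gn 0, gn 1, gn 2, gn 3, ab, I9], clo [ab] c = true) ∧
    ∀ c ∈ [gn 0, gn 1, gn 2, gn 3, ab, I9], clo R36 c = true := by
  have := clo_ok
  simp only [List.all_eq_true, Bool.and_eq_true] at this
  exact ⟨fun c hc => (this c hc).1, fun c hc => (this c hc).2⟩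

theorem fK {m : G} (hm : m ∈ F.M) : F.ρ (cj m F.a) = ab ↔ m ∈ F.K := by
  refine ⟨fun h => F.k2 hm ?_, fun h => ?_⟩
  · rwa [ρ_cj_iff F hm F.aM (by decide), F.ρa] at h
  · simpa [F.ρa] using (K_PR F clo_spec.1 h).2 _ F.aM

theorem fib {m k : G} (hm : m ∈ F.M) (hk : k ∈ F.M) :
    F.ρ (cj m F.a) = F.ρ (cj k F.a) ↔ m⁻¹ * k ∈ F.K := by
  have h := mul_mem (inv_mem hm) hk
  rw [← fK F h, ← F.ρa]
  refine ⟨fun e => ?_, fun e => ?_⟩
  · rw [← cj_cj, ← ρ_congr F (inv_mem hm) (cj_mem hm F.aM) (cj_mem hk F.aM) e, cj_inv]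
  · rw [← ρ_congr F hm (cj_mem h F.aM) F.aM e, cj_cj, mul_inv_cancel_left]

theorem mem36 {m : G} (hm : m ∈ F.M) : F.ρ (cj m F.a) ∈ R36 := by
  obtain ⟨k, hk, h⟩ := three F hm
  refine ((K_PR F clo_spec.2 (inv_mem hk)).2 _ (cj_mem hm F.aM)).1 ?_
  exact (by decide +kernel : ∀ c ∈ [ab, b15, b20], c ∈ R36) _ h

theorem ex20 {m : G} (hm : m ∈ F.M) (hK : m ∉ F.K) : ∃ n ∈ F.M, F.ρ (cj n F.a) = b20 := by
  have key : ∀ m ∈ F.M, cj m F.a ∉ F.K → ∃ n ∈ F.M, F.ρ (cj n F.a) = b20 := fun m hm h => by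
    obtain ⟨k, hk, e⟩ := three F hm
    have hn := mul_mem (inv_mem (F.K_le hk)) hm
    have : F.ρ (cj k⁻¹ (cj m F.a)) ∉ [ab, b15] := fun e => h (by
      have := cj_mem hk (F.k2 (cj_mem (inv_mem (F.K_le hk)) (cj_mem hm F.aM))
        ((by decide +kernel : ∀ c ∈ [ab, b15], m9 c ab = m9 ab c) _ e))
      rwa [cj_inv'] at this)
    rw [cj_cj] at e this
    exact ⟨_, hn, by simpa using (by simpa [not_or.1 (by simpa using this)] using e)⟩
  obtain ⟨k, hk, e⟩ := three F hm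
  have hn := mul_mem (inv_mem (F.K_le hk)) hm
  rw [cj_cj] at e
  simp only [List.mem_cons, List.not_mem_nil, or_false] at e
  rcases e with e | e | e
  · exact absurd ((mul_mem_cancel_left (inv_mem hk)).1 ((fK F hn).1 e)) hK
  · generalize k⁻¹ * m = n at e hn
    obtain ⟨c, hc, ec⟩ := cel_K F (e := 4680) (by decide +kernel)
    have hc := F.K_le hc
    have hb := cj_mem hn F.aM
    have e' : F.ρ (cj c (cj n F.a)) = 1210181429177925554410501 := by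
      rw [ρ_cj_iff F hc hb (by decide), e, ec]; decide +kernel
    have hm' := mul_mem (inv_mem hn) (mul_mem hc hn)
    refine key _ hm' fun h => ?_
    have h := ρ_congr F hn (cj_mem (F.K_le h) F.aM) F.aM (((fK F (F.K_le h)).2 h).trans F.ρa.symm)
    rw [← cj_sw, cj_cj n, mul_inv_cancel_left, ← cj_cj c, e,
      ρ_cj_iff F (cj_mem hc hb) hb (by decide), e, e'] at h
    exact absurd h (by decide +kernel)
  · exact ⟨_, hn, e⟩

theorem rz_L {g : G} (hg : g ∈ F.M) (e : F.ρ g = cg) (l : List ℕ) :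
    ∃ k ∈ F.K0 ⊔ zpowers g, k ∈ F.M ∧ F.ρ k = wd l := by
  induction l with
  | nil => exact ⟨1, one_mem _, one_mem _, F.ρ_one⟩
  | cons i l ih =>
    obtain ⟨k, hk, hm, ek⟩ := ih
    obtain ⟨n, hn, hn', en⟩ : ∃ n ∈ F.K0 ⊔ zpowers g, n ∈ F.M ∧ F.ρ n = gn i := by
      rcases lt_trichotomy i 4 with hi | rfl | hi
      · obtain ⟨n, hn, -, e⟩ := F.rz_gn hi
        exact ⟨n, mem_sup_left hn, hn.1.2, e⟩
      · exact ⟨g, mem_sup_right (mem_zpowers g), hg, e⟩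
      · refine ⟨1, one_mem _, one_mem _, ?_⟩
        rw [gn, List.getD_eq_default _ _ (by simp; omega), F.ρ_one]
    exact ⟨n * k, mul_mem hn hk, mul_mem hn' hm, by rw [F.ρ_mul hn' hm, en, ek, wd, wd, List.foldr_cons]⟩

theorem sur36 {g : G} (hg : g ∈ F.M) (e : F.ρ g = cg) {r : ℕ} (hr : r ∈ R36) :
    ∃ k ∈ F.K0 ⊔ zpowers g, k ∈ F.M ∧ F.ρ (cj k F.a) = r := by
  obtain ⟨p, hp, rfl⟩ := List.mem_map.1 hr
  have h := List.all_eq_true.1 W36_ok p hp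
  rw [Bool.and_eq_true, Nat.blt_eq, Nat.beq_eq] at h
  obtain ⟨k, hk, hm, ek⟩ := rz_L F hg e p.2
  exact ⟨k, hk, hm, by rw [ρ_cj_iff F hm F.aM h.1, ek, F.ρa, h.2]⟩

end R1

open R1 in
theorem Fr.r1 {G : Type u} [Group G] [Finite G] (F : Fr G) : F.M ≤ F.K ∨ ∃ g, F.Tw g := by
  refine or_iff_not_imp_left.2 fun h => ?_
  obtain ⟨m, hm, hK⟩ := SetLike.not_le_iff_exists.1 h
  obtain ⟨n, hn, e⟩ := ex20 F hm hK
  have hb := cj_mem hn F.aM
  have hg := mul_mem F.aM hb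
  have eg : F.ρ (F.a * cj n F.a) = cg := by rw [F.ρ_mul F.aM hb, F.ρa, e]; decide +kernel
  refine ⟨_, hg, F.a_mul_d hb fun h => F.a_nd ((F.cj_nd hn F.aM).1 h), eg, ⟨n, hn, rfl⟩,
    fun m hm => ?_, ?_⟩
  · obtain ⟨k, hk, hk', e⟩ := sur36 F hg eg (mem36 F hm)
    exact ⟨k, hk, (fib F hk' hm).1 e⟩
  · rw [relIndex_eq_ncard (fun m => F.ρ (cj m F.a)) fun a ha b hb => fib F ha hb,
      ← R36_nd.2, ← List.toFinset_card_of_nodup R36_nd.1, ← Set.ncard_coe_finset]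
    refine congrArg Set.ncard (Set.ext fun r => ?_)
    rw [Finset.mem_coe, List.mem_toFinset]
    refine ⟨?_, fun hr => ?_⟩
    · rintro ⟨m, hm, rfl⟩
      exact mem36 F hm
    · obtain ⟨k, -, hk, e⟩ := sur36 F hg eg hr
      exact ⟨k, hk, e⟩

end Cfsg.Agent.FE
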