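import Cfsg.Agent.FE.Two

/-! Strong closure of `J / Z` in `C(z, d) / Z`. -/

set_option autoImplicit false
set_option linter.unusedSectionVars false

namespace Cfsg.Agent.FE

open Subgroup H42

universe u

theorem sc_nd {v : ℕ} (hv : v < 512) (h : v % 256 ≠ 0) : ∃ i < 8, B9 (2 ^ i) v ≠ 0 := by
  have := al_spec (f := fun v => decide (v % 256 = 0 ∨ ∃ i < 8, B9 (2 ^ i) v ≠ 0)) (n := 512)
    (by decide +kernel) hv
  exact (of_decide_eq_true this).resolve_left h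

theorem sc_two {v : ℕ} (hv : v < 512) (h : ap9 t0 v = v) (hq : q9 v ≠ 0) :
    ∃ u ∈ [2, 4], q9 (u ^^^ v) = 0 := by
  have := al_spec (f := fun v => decide (ap9 t0 v ≠ v ∨ q9 v = 0 ∨ q9 (2 ^^^ v) = 0 ∨
    q9 (4 ^^^ v) = 0)) (n := 512) (by decide +kernel) hv
  rcases ((of_decide_eq_true this).resolve_left (not_not.2 h)).resolve_left hq with e | e
  exacts [⟨2, by simp, e⟩, ⟨4, by simp, e⟩]

theorem snz_pow {G : Type u} [Group G] [Finite G] {g t : G} (h : cj g t ∈ zpowers t) :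
    g ∈ normalizer (zpowers t : Set G) := by
  refine mem_normalizer_of_conj_mem ?_
  rintro _ ⟨i, rfl⟩
  simpa only [← conj_zpow] using zpow_mem h i

namespace Fr

variable {G : Type u} [Group G] [Finite G] (F : Fr G)

theorem sinZ_J {t : G} (h : F.inZ t) : t ∈ F.J := by
  rcases h with rfl | rfl | rfl | rfl
  exacts [one_mem _, F.zJ, F.dJ, mul_mem F.dJ F.zJ]

/-- the centre of `J` -/
def sZs : Subgroup G where
  carrier := {t | F.inZ t}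
  one_mem' := Or.inl rfl
  mul_mem' := fun {a b} ha hb => by
    have h1 := F.sinZ_J ha
    have h2 := F.sinZ_J hb
    refine (F.π_Z (mul_mem h1 h2)).1 ?_
    rw [F.π_mul h1 h2, show 256 = 2 ^ 8 from rfl, Nat.xor_mod_two_pow]
    rw [show 2 ^ 8 = 256 from rfl, (F.π_Z h1).2 ha, (F.π_Z h2).2 hb]
    rfl
  inv_mem' := fun {a} ha => by
    have h1 := F.sinZ_J ha
    refine (F.π_Z (inv_mem h1)).1 ?_
    rw [F.π_inv h1, (F.π_Z h1).2 ha]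

theorem smem_Zs {t : G} : t ∈ F.sZs ↔ F.inZ t := Iff.rfl
theorem sZs_le : F.sZs ≤ F.J := fun _ => F.sinZ_J
theorem szZ : F.z ∈ F.sZs := Or.inr (Or.inl rfl)
theorem sdZ : F.d ∈ F.sZs := Or.inr (Or.inr (Or.inl rfl))

/-- `C(z) ∩ C(d)` -/
abbrev sC0 : Subgroup G := F.H ⊓ F.Cd

theorem sC0_Z {t c : G} (ht : t ∈ F.sZs) (hc : c ∈ F.sC0) : Commute c t := by
  rcases ht with rfl | rfl | rfl | rfl
  exacts [Commute.one_right c, mem_cen.1 hc.1, mem_cen.1 hc.2,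
    (mem_cen.1 hc.2).mul_right (mem_cen.1 hc.1)]

theorem sM_C0 {m : G} (hm : m ∈ F.M) (hd : Commute m F.d) : m ∈ F.sC0 :=
  ⟨mem_cen.2 (F.M_z hm), mem_cen.2 hd⟩

theorem sJ_C0 : F.J ≤ F.sC0 := fun _ h => F.sM_C0 (F.J_M h) (F.J_d h)

theorem sY_C0 : F.Y ≤ F.sC0 := fun _ h => F.sM_C0 (F.Y_M h) (F.Y_cen h F.dJ)

theorem D.scj {F : Fr G} {e : G} (h : F.D e) (g : G) : F.D (FE.cj g e) :=
  let ⟨k, hk⟩ := h; ⟨g * k, by rw [← cj_cj, hk]⟩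

theorem D.ssq {F : Fr G} {e : G} (h : F.D e) : e * e = 1 := by
  obtain ⟨k, rfl⟩ := h
  exact cj_sq F.dd

theorem sJ_of_cj {m s : G} (hm : m ∈ F.M) (h : cj m s ∈ F.J) : s ∈ F.J :=
  cj_inv m s ▸ cj_nm (inv_mem hm) h

theorem sJ_z {j : G} (hj : j ∈ F.J) (n : j ∉ F.sZs) : ∃ k ∈ F.J, cj k j = F.z * j := by
  obtain ⟨i, hi, e⟩ := sc_nd (F.π_lt j) (mt (F.π_Z hj).1 n)
  have hl : 2 ^ i < 512 := Nat.pow_lt_pow_right (a := 2) (n := 9) (by decide) (by omega)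
  refine ⟨_, F.jv_mem hl, ?_⟩
  rw [F.cj_J (F.jv_mem hl) hj, F.π_jv hl, if_neg e]

theorem scj_J' {j k : G} (hj : j ∈ F.J) (hk : k ∈ F.J) : cj j k = k ∨ cj j k = F.z * k := by
  rw [F.cj_J hj hk]
  split_ifs
  exacts [Or.inl rfl, Or.inr rfl]

namespace Two

variable {F} {g : G} {T : Subgroup G} (h : F.Two g T)
include h

theorem sJT : F.J ≤ T := F.J_le.trans h.sy.le

theorem sDc {c j : G} (hj : j ∈ F.J) (he : F.D (cj c j)) : j ∈ F.sZs := by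
  have := he.scj c⁻¹
  rw [cj_inv] at this
  rcases h.DJ this hj with rfl | rfl
  exacts [F.sdZ, mul_mem F.sdZ F.szZ]

theorem snZ {c j e : G} (hc : c ∈ F.sC0) (hj : j ∈ F.J) (n : j ∉ F.sZs) (h1 : F.D e)
    (h2 : F.D (e * cj c j)) : ¬ F.inZ e ∧ ¬ F.inZ (e * cj c j) := by
  refine ⟨fun he => n ?_, fun he => n ?_⟩
  · rw [← cj_eq.2 (F.sC0_Z he hc), ← cj_mul] at h2
    exact (F.sZs.mul_mem_cancel_left he).1 (h.sDc (mul_mem (F.sinZ_J he) hj) h2)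
  · have e1 : e = cj c (e * cj c j * j⁻¹) := by
      rw [cj_mul, cj_eq.2 (F.sC0_Z he hc), cj_iv, mul_inv_cancel_right]
    rw [e1] at h1
    exact inv_mem_iff.1 ((F.sZs.mul_mem_cancel_left he).1
      (h.sDc (mul_mem (F.sinZ_J he) (inv_mem hj)) h1))

theorem scl0 {c j k : G} (hc : c ∈ F.sC0) (hj : j ∈ F.J) (jj : j * j = 1) (n : j ∉ F.sZs)
    (hk : cj k F.z = j) (hE : cj c j ∈ F.E T) : cj c j ∈ F.J := by
  obtain ⟨k', h1, h2⟩ := F.sJ_z hj n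
  have cz : cj c F.z = F.z := cj_eq.2 (F.sC0_Z F.szZ hc)
  have zE : F.z ∈ F.E T := by
    have a1 : F.d ∈ F.E T := subset_closure ⟨⟨1, by simp [cj]⟩, h.sJT F.dJ⟩
    have a2 : F.d * F.z ∈ F.E T := subset_closure ⟨⟨_, F.ad⟩, h.sJT (mul_mem F.dJ F.zJ)⟩
    exact ((F.E T).mul_mem_cancel_left a1).1 a2
  obtain ⟨e, e1, e2, e3, e4⟩ := h.fac (k := c * k) hE (by rw [← cj_cj, hk])
  obtain ⟨f, f1, f2, f3, f4⟩ := h.fac (s := cj c (F.z * j)) (k := c * (k' * k))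
    (by rw [cj_mul, cz]; exact mul_mem zE hE) (by rw [← cj_cj, ← cj_cj, hk, h2])
  have n1 := h.snZ hc hj n e1 e3
  have n2 := h.snZ hc (mul_mem F.zJ hj) (mt (F.sZs.mul_mem_cancel_left F.szZ).1 n) f1 f3
  have := h.Blk ⟨e1, e2, n1.1⟩ ⟨e3, e4, n1.2⟩ ⟨f1, f2, n2.1⟩ ⟨f3, f4, n2.2⟩ (by
    rw [← mul_assoc e, e1.ssq, one_mul, ← mul_assoc f, f1.ssq, one_mul, ← cj_mul, ← mul_assoc,
      (F.sC0_Z F.szZ (F.sJ_C0 hj)).eq, mul_assoc, jj, mul_one, cz])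
  rwa [← mul_assoc e, e1.ssq, one_mul] at this

theorem scl1 {c j k : G} (hc : c ∈ F.sC0) (hj : j ∈ F.J) (jj : j * j = 1) (n : j ∉ F.sZs)
    (hk : cj k F.z = j) (hT : cj c j ∈ T) : cj c j ∈ F.J := by
  obtain ⟨m, h1, h2, h3⟩ := h.E3 hT (cj_sq jj) (mem_cen.1 (cj_mem hc (F.sJ_C0 hj)).2)
  rw [cj_cj] at h3
  have := h.scl0 (mul_mem (F.sM_C0 h1 h2) hc) hj jj n hk h3
  rw [← cj_cj] at this
  exact F.sJ_of_cj h1 this

theorem sclS {c j : G} (hc : c ∈ F.sC0) (hj : j ∈ F.J) (jj : j * j = 1) (hT : cj c j ∈ T) :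
    cj c j ∈ F.J := by
  by_cases n : j ∈ F.sZs
  · rwa [cj_eq.2 (F.sC0_Z n hc)]
  rcases h.Jz hj jj n with ⟨k, -, hk⟩ | ⟨k, -, hk⟩
  · exact h.scl1 hc hj jj n hk hT
  · have cd : cj c F.d = F.d := cj_eq.2 (F.sC0_Z F.sdZ hc)
    have := h.scl1 hc (mul_mem hj F.dJ) (by
      rw [mul_assoc, ← mul_assoc F.d, ← (F.J_d hj).eq, mul_assoc, F.dd, mul_one, jj])
      (mt (F.sZs.mul_mem_cancel_right F.sdZ).1 n) hk (by
        rw [cj_mul, cd]; exact mul_mem hT (h.sJT F.dJ))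
    rw [cj_mul, cd] at this
    exact (F.J.mul_mem_cancel_right F.dJ).1 this

theorem ssylC0 : SylIn 2 (T ⊓ F.Cd) F.sC0 :=
  h.sy.sylR.of_le (inf_le_inf_right _ fun _ ht => mem_cen.2 (F.M_z (h.sy.leM ht))) inf_le_right

theorem snot_x {c j i : G} (hc : c ∈ F.sC0) (hj : j ∈ F.J) (hi : i ∈ F.J) (jj : j * j = F.z)
    (e : cj c j = F.x * i) : False := by
  have cz : cj c F.z = F.z := cj_eq.2 (F.sC0_Z F.szZ hc)
  have tt : F.x * i * (F.x * i) = F.z := by rw [← e, ← cj_mul, jj, cz]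
  have xM := F.S_M F.xS
  have xC := F.sM_C0 xM F.xd
  have xT := h.sy.le F.xS
  have fx : ap9 t0 (F.π i) = F.π i := by
    have e1 : cj F.x i = F.z * i⁻¹ := by
      rw [← tt, cj, inv_eq_of_mul_eq_one_right F.xx]; group
    rw [← F.ρx, ← F.ρ_ap xM hi, e1, F.π_mul F.zJ (inv_mem hi), F.πz, F.π_inv hi, Nat.zero_xor]
  have ix := (F.CJx hi).2 fx
  have ii : i * i = F.z := by
    rw [← tt, mul_assoc, ← mul_assoc i, ix.eq, mul_assoc, ← mul_assoc, F.xx, one_mul]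
  have zt : ∀ {s : G}, s = F.x * i ∨ s = F.z * (F.x * i) → s ∈ zpowers (F.x * i) := by
    rintro _ (rfl | rfl)
    · exact mem_zpowers _
    · rw [← tt]
      exact mul_mem (mul_mem (mem_zpowers _) (mem_zpowers _)) (mem_zpowers _)
  let Y0 := F.sC0 ⊓ normalizer (zpowers (F.x * i) : Set G)
  obtain ⟨Q, hQ, hP⟩ := exists_sylIn (h.sy.syl.isP.to_inf_left (K := Y0)) inf_le_right
  obtain ⟨y, hy, hy'⟩ := hQ.exists_conj (isPGroup_cj c (h.sy.syl.isP.to_le h.sJT)) (by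
    rintro _ ⟨k, hk, rfl⟩
    refine ⟨cj_mem hc (F.sJ_C0 hk), snz_pow (zt ?_)⟩
    change cj (cj c k) _ = _ ∨ cj (cj c k) _ = _
    rw [← e, cj_sw]
    rcases F.scj_J' hk hj with e1 | e1 <;> rw [e1]
    · exact Or.inl rfl
    · exact Or.inr (by rw [cj_mul, cz]))
  obtain ⟨b, hb, hb'⟩ := h.ssylC0.exists_conj hQ.isP (hQ.le.trans inf_le_left)
  have hM : b * y * c ∈ F.M := h.sy.wc _ (mul_mem (mul_mem hb hy.1) hc).1 fun k hk => by
    rw [← cj_cj, ← cj_cj]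
    exact (hb' _ (hy' _ (conj_mem_cj hk))).1
  have t1 : cj b (F.x * i) ∈ F.J := by
    have a1 : cj y⁻¹ (F.x * i) ∈ H42.cj c F.J :=
      zpowers_le.2 (e ▸ conj_mem_cj hj) (cj_nm (inv_mem hy.2) (mem_zpowers _))
    obtain ⟨k, hk, e1⟩ := a1
    have a2 := cj_nm hM hk
    rw [← cj_cj, ← cj_cj, show cj c k = cj y⁻¹ (F.x * i) from e1, cj_inv'] at a2
    exact a2
  have t2 : ∀ s ∈ F.J, s * s = 1 → Commute s F.x → cj b s ∈ F.J := fun s hs ss sx =>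
    h.sclS hb hs ss (hb' _ (hP ⟨h.sJT hs, F.sJ_C0 hs, snz_pow (zt (by
      rw [cj_mul, cj_eq.2 sx]
      rcases F.scj_J' hs hi with e1 | e1 <;> rw [e1]
      · exact Or.inl rfl
      · exact Or.inr (by rw [← mul_assoc, (F.S_z F.xS).eq, mul_assoc])))⟩)).1
  have t3 : cj b i ∈ F.J := by
    obtain ⟨u, hu, e1⟩ := sc_two (F.π_lt i) fx (fun e1 => F.z_ne (by
      rw [← ii, F.sq_J hi, if_pos e1]))
    have hu' : u < 512 ∧ q9 u = 0 ∧ ap9 t0 u = u :=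
      (by decide +kernel : ∀ u ∈ [2, 4], u < 512 ∧ q9 u = 0 ∧ ap9 t0 u = u) u hu
    have u1 := F.jv_mem hu'.1
    have u2 : Commute (F.jv u) F.x := (F.CJx u1).2 (by rw [F.π_jv hu'.1, hu'.2.2])
    have a1 := t2 _ u1 (by rw [F.sq_J u1, F.π_jv hu'.1, if_pos hu'.2.1]) u2
    have a2 := t2 _ (mul_mem u1 hi) (by
      rw [F.sq_J (mul_mem u1 hi), F.π_mul u1 hi, F.π_jv hu'.1, if_pos e1]) (u2.mul_left ix)
    rw [cj_mul] at a2
    exact (F.J.mul_mem_cancel_left a1).1 a2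
  rw [cj_mul] at t1
  have t4 : cj b F.x ∈ F.sZs := h.sDc (c := 1) ((F.J.mul_mem_cancel_right t3).1 t1) (by
    simpa [cj] using F.D_x.scj b)
  have t5 : F.x ∈ F.J := by
    rw [← cj_inv b F.x, cj_eq.2 (F.sC0_Z t4 (inv_mem hb))]
    exact F.sZs_le t4
  have := (F.mem_J.1 t5).2
  rw [F.κx] at this
  exact absurd this (by decide)

theorem ssc {c j : G} (hc : c ∈ F.sC0) (hj : j ∈ F.J) (hT : cj c j ∈ T) : cj c j ∈ F.J := by
  by_cases hq : q9 (F.π j) = 0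
  · exact h.sclS hc hj (by rw [F.sq_J hj, if_pos hq]) hT
  have jj : j * j = F.z := by rw [F.sq_J hj, if_neg hq]
  have sq : ∀ c ∈ F.sC0, cj c j * cj c j = F.z := fun c hc => by
    rw [← cj_mul, jj, cj_eq.2 (F.sC0_Z F.szZ hc)]
  obtain ⟨m, h1, h2, h3⟩ := h.inv0 hT (mem_cen.1 (cj_mem hc (F.sJ_C0 hj)).2) (by
    rw [sq c hc]; exact (F.ρ_ker (F.J_M F.zJ)).2 (mem_sup_left F.zJ))
  have hm := cj_mem h1 (h.sy.leM hT)
  have hc' := mul_mem (F.sM_C0 h1 h2) hc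
  refine F.sJ_of_cj h1 ?_
  rw [cj_cj] at h3 hm ⊢
  have p4 : cj (m * c) j ^ 2 ^ 2 = 1 := by
    rw [show 2 ^ 2 = 2 * 2 from rfl, pow_mul, pow_two, pow_two, sq _ hc', F.zz]
  simp only [List.mem_cons, List.not_mem_nil, or_false] at h3
  rcases h3 with e | e | e
  · obtain ⟨y, hy, i, hi, e'⟩ := h.toT hm p4 T.one_mem (e.trans F.ρ_one.symm)
    exact F.sJ_of_cj (F.Y_M hy) (by rwa [e', one_mul])
  · obtain ⟨y, hy, i, hi, e'⟩ := h.toT hm p4 (h.sy.le F.xS) (e.trans F.ρx.symm)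
    rw [cj_cj] at e'
    exact (h.snot_x (mul_mem (F.sY_C0 hy) hc') hj hi jj e').elim
  · have := h.f0_sq hm e (by rw [sq _ hc']; exact F.szZ)
    rw [sq _ hc'] at this
    exact (F.z_ne this).elim

end Two

end Fr

end Cfsg.Agent.FE
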