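import Cfsg.Agent.FE.SCa
import Cfsg.Agent.FE.SCb
import Cfsg.Agent.H43.S8Gen

set_option autoImplicit false
set_option linter.unusedSectionVars false

namespace Cfsg.Agent.FE

open Subgroup H42

universe u

theorem sc_oth {v : ℕ} (hv : v < 512) (h : v % 256 ≠ 0) :
    ∃ u ∈ [1, 2, 4, 8, 24, 44, 52], q9 u ≠ q9 v ∧ q9 (u ^^^ v) = q9 u := by
  have := al_spec (f := fun v => Nat.beq (v % 256) 0 || [1, 2, 4, 8, 24, 44, 52].any fun u =>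
    !Nat.beq (q9 u) (q9 v) && Nat.beq (q9 (u ^^^ v)) (q9 u)) (n := 512) (by decide +kernel) hv
  rw [Bool.or_eq_true] at this
  obtain ⟨u, h1, h2⟩ := List.any_eq_true.1 (this.resolve_left fun e => h (Nat.eq_of_beq_eq_true e))
  rw [Bool.and_eq_true, Bool.not_eq_true'] at h2
  exact ⟨u, h1, Nat.ne_of_beq_eq_false h2.1, Nat.eq_of_beq_eq_true h2.2⟩

theorem sc_prs {u : ℕ} (hu : u < 512) (h : q9 u = 1) :
    ∃ p ∈ [(24, 1), (26, 4), (27, 6), (28, 3), (36, 2), (37, 2), (44, 1)],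
      B9 u p.1 = 1 ∧ B9 u (p.1 ^^^ p.2) = 1 := by
  have := al_spec (f := fun u => !Nat.beq (q9 u) 1 ||
    [(24, 1), (26, 4), (27, 6), (28, 3), (36, 2), (37, 2), (44, 1)].any fun p =>
    Nat.beq (B9 u p.1) 1 && Nat.beq (B9 u (p.1 ^^^ p.2)) 1) (n := 512) (by decide +kernel) hu
  rw [h] at this
  obtain ⟨p, h1, h2⟩ := List.any_eq_true.1 this
  rw [Bool.and_eq_true] at h2
  exact ⟨p, h1, Nat.eq_of_beq_eq_true h2.1, Nat.eq_of_beq_eq_true h2.2⟩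

theorem sc_syl {G : Type u} [Group G] [Finite G] {P M : Subgroup G} (h : SylIn 2 P M) :
    H49.IsSylowOf 2 P M := by
  refine ⟨h.le, fun p hp hd => ?_, fun p hp e => ?_⟩
  · obtain ⟨n, hn⟩ := IsPGroup.iff_card.1 h.isP
    exact (Nat.prime_dvd_prime_iff_eq hp Nat.prime_two).1 (hp.dvd_of_dvd_pow (hn ▸ hd))
  · obtain rfl : p = 2 := e
    exact h.ndvd

namespace Fr

variable {G : Type u} [Group G] [Finite G] (F : Fr G)

theorem sπZ {t : G} (ht : t ∈ F.sZs) : q9 (F.π t) = 0 ∧ ∀ v, B9 (F.π t) v = 0 := by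
  have h1 := (F.π_Z (F.sZs_le ht)).2 ht
  have h2 := F.π_lt t
  have : F.π t = 0 ∨ F.π t = 256 := by omega
  rcases this with e | e <;> rw [e] <;> simp [q9, B9, b4, bt]

theorem sqZ {t k : G} (ht : t ∈ F.sZs) (hk : k ∈ F.J) : q9 (F.π (t * k)) = q9 (F.π k) := by
  rw [F.π_mul (F.sZs_le ht) hk, q9_xor, (F.sπZ ht).1, (F.sπZ ht).2]
  have := q9_lt (F.π k)
  omega

theorem sBZ {t k : G} (ht : t ∈ F.sZs) (hk : k ∈ F.J) (v : ℕ) :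
    B9 v (F.π (t * k)) = B9 v (F.π k) := by
  rw [F.π_mul (F.sZs_le ht) hk, B9_comm, B9_xor, (F.sπZ ht).2, B9_comm]
  have := B9_lt v (F.π k)
  omega

theorem sqM {m k : G} (hm : m ∈ F.M) (hk : k ∈ F.J) : q9 (F.π (cj m k)) = q9 (F.π k) := by
  rw [F.ρ_ap hm hk, F.ρ_q hm (F.π_lt k)]

theorem sjv {v : ℕ} (hv : v < 512) (h : v % 256 ≠ 0) : F.jv v ∉ F.sZs := fun e =>
  h (by rw [← F.π_jv hv]; exact (F.π_Z (F.jv_mem hv)).2 e)

namespace Two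

variable {F} {g : G} {T : Subgroup G} (h : F.Two g T)
include h

theorem str8 {j k : G} (hj : j ∈ F.J) (hk : k ∈ F.J) (nj : j ∉ F.sZs) (nk : k ∉ F.sZs)
    (e : q9 (F.π j) = q9 (F.π k)) : ∃ n ∈ F.sC0 ⊓ F.M, ∃ t ∈ F.sZs, cj n j = t * k := by
  obtain ⟨m, m1, m2, m3⟩ := h.tr8 (F.π_lt j) (mt (F.π_Z hj).1 nj)
  obtain ⟨n, n1, n2, n3⟩ := h.tr8 (F.π_lt k) (mt (F.π_Z hk).1 nk)
  rw [← F.ρ_ap m1 hj, e, ← n3, ← F.ρ_ap n1 hk] at m3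
  have a := cj_nm m1 hj
  have b := cj_nm n1 hk
  have ht : cj m j * (cj n k)⁻¹ ∈ F.sZs := (F.π_Z (mul_mem a (inv_mem b))).1 (by
    rw [F.π_mul a (inv_mem b), F.π_inv b, show 256 = 2 ^ 8 from rfl, Nat.xor_mod_two_pow,
      show 2 ^ 8 = 256 from rfl, m3, Nat.xor_self])
  have nC := inv_mem (F.sM_C0 n1 n2)
  refine ⟨n⁻¹ * m, ⟨mul_mem nC (F.sM_C0 m1 m2), F.M.mul_mem (F.M.inv_mem n1) m1⟩, _, ht, ?_⟩
  rw [← cj_eq.2 (F.sC0_Z ht nC), ← cj_cj, cj_mul n⁻¹ (cj m j), cj_iv, cj_inv,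
    inv_mul_cancel_right]

theorem sno {U B : Subgroup G} (zU : F.sZs ≤ U) (zB : F.sZs ≤ B) (hU : U ≤ F.J) (hB : B ≤ F.J)
    (h3 : ∃ u ∈ U, ∃ v ∈ U, u ∉ B ∧ v ∉ B ∧ u * v ∉ B)
    (ht : ∀ a ∈ F.J, a ∉ B → ∀ b ∈ F.J, b ∉ B → ∃ r ∈ F.sC0 ⊓ F.M, cj r a * b⁻¹ ∈ B)
    (hd : ∀ n ∈ F.sC0 ⊓ F.M,
      ((∀ b ∈ B, cj n b ∈ B) ∧ ∀ u ∈ U, cj n u ∈ U) ∨ ∀ u ∈ U, cj n u ∈ B) : False := by
  obtain ⟨u, hu, v, hv, uB, vB, wB⟩ := h3
  by_cases hall : ∀ n ∈ F.sC0 ⊓ F.M, ∀ b ∈ B, cj n b ∈ B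
  · by_cases hz : B ≤ F.sZs
    · have j1 := F.jv_mem (v := 1) (by decide)
      have j2 := F.jv_mem (v := 129) (by decide)
      obtain ⟨r, hr, e⟩ := ht _ j1 (fun e => F.sjv (by decide) (by decide) (hz e)) _ j2
        (fun e => F.sjv (by decide) (by decide) (hz e))
      have := F.sqZ (hz e) j2
      rw [inv_mul_cancel_right, F.sqM hr.2 j1, F.π_jv (by decide), F.π_jv (by decide)] at this
      exact absurd this (by decide)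
    obtain ⟨b, hb, bZ⟩ := SetLike.not_le_iff_exists.1 hz
    have k1 : ∀ j ∈ F.J, j ∉ F.sZs → q9 (F.π b) = q9 (F.π j) → j ∈ B := fun j hj jZ e => by
      obtain ⟨n, hn, t, ht, e'⟩ := h.str8 (hB hb) hj bZ jZ e
      exact (B.mul_mem_cancel_left (zB ht)).1 (e' ▸ hall n hn b hb)
    have uZ : u ∉ F.sZs := fun e => uB (zB e)
    obtain ⟨x, hx, x1, x2⟩ := sc_oth (F.π_lt u) (mt (F.π_Z (hU hu)).1 uZ)
    have hx' : x < 512 ∧ x % 256 ≠ 0 :=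
      (by decide : ∀ x ∈ [1, 2, 4, 8, 24, 44, 52], x < 512 ∧ x % 256 ≠ 0) x hx
    have xJ := F.jv_mem hx'.1
    have q1 : q9 (F.π b) = q9 x := by
      have := mt (k1 u (hU hu) uZ) uB
      have := q9_lt (F.π b)
      have := q9_lt (F.π u)
      have := q9_lt x
      omega
    have a1 := k1 _ xJ (F.sjv hx'.1 hx'.2) (by rw [F.π_jv hx'.1, q1])
    have a2 := k1 _ (mul_mem xJ (hU hu)) (fun e => uB ((B.mul_mem_cancel_left a1).1 (zB e))) (by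
      rw [F.π_mul xJ (hU hu), F.π_jv hx'.1, q1, x2])
    exact uB ((B.mul_mem_cancel_left a1).1 a2)
  push Not at hall
  obtain ⟨n, hn, b, hb, nb⟩ := hall
  have hn2 := (hd n hn).resolve_left fun e => nb (e.1 b hb)
  have key : ∀ w ∈ U, w ∉ F.sZs → ∀ u' ∈ U, u' ∉ B → ∀ m ∈ F.sC0 ⊓ F.M, cj m u ∈ B →
      q9 (F.π w) ≠ (q9 (F.π u') + q9 (F.π u) + B9 (F.π u') (F.π (cj m u))) % 2 :=
    fun w hw wZ u' hu' uB' m hm hB' e => by
    have a := hB hB'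
    rw [← F.sqM hm.2 (hU hu), ← q9_xor, ← F.π_mul (hU hu') a] at e
    obtain ⟨k, hk, t, ht, e'⟩ := h.str8 (hU hw) (mul_mem (hU hu') a) wZ
      (fun e => uB' ((B.mul_mem_cancel_right hB').1 (zB e))) e
    refine sc_nc hd hu' uB' uB (mul_mem (zU (inv_mem ht)) hw) hm hk hB' ?_
    rw [cj_mul, e', cj_eq.2 (F.sC0_Z (inv_mem ht) hk.1), inv_mul_cancel_left]
  have uZ : u ∉ F.sZs := fun e => uB (zB e)
  have vZ : v ∉ F.sZs := fun e => vB (zB e)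
  have wZ : u * v ∉ F.sZs := fun e => wB (zB e)
  have hw := mul_mem hu hv
  have a1 := key u hu uZ u hu uB n hn (hn2 u hu)
  have l1 := q9_lt (F.π u)
  have l4 := B9_lt (F.π u) (F.π (cj n u))
  by_cases q0 : q9 (F.π u) = 0
  · have a2 := key v hv vZ u hu uB n hn (hn2 u hu)
    have a3 := key _ hw wZ u hu uB n hn (hn2 u hu)
    have a4 := key u hu uZ v hv vB n hn (hn2 u hu)
    have a5 := key u hu uZ _ hw wB n hn (hn2 u hu)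
    have a6 := B9_xor (F.π u) (F.π v) (F.π (cj n u))
    rw [← F.π_mul (hU hu) (hU hv)] at a6
    have l2 := q9_lt (F.π v)
    have l3 := q9_lt (F.π (u * v))
    have l5 := B9_lt (F.π v) (F.π (cj n u))
    omega
  have q1 : q9 (F.π u) = 1 := by omega
  have k2 : ∀ x < 512, x % 256 ≠ 0 → q9 x = 1 → B9 (F.π u) x = 1 → F.jv x ∈ U :=
    fun x x1 x2 x3 x4 => by
    obtain ⟨m, hm, t, ht, e⟩ := h.str8 (hU hu) (F.jv_mem x1) uZ (F.sjv x1 x2)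
      (by rw [F.π_jv x1, q1, x3])
    rcases hd m hm with ⟨-, e'⟩ | e'
    · exact (U.mul_mem_cancel_left (zU ht)).1 (e ▸ e' u hu)
    · refine (key u hu uZ u hu uB m hm (e' u hu) ?_).elim
      rw [e, F.sBZ ht (F.jv_mem x1), F.π_jv x1, x4, q1]
  obtain ⟨p, hp, p1, p2⟩ := sc_prs (F.π_lt u) q1
  obtain ⟨b1, b2, b3, b4, b5, b6, b7, b8⟩ := (by decide +kernel :
    ∀ p ∈ [(24, 1), (26, 4), (27, 6), (28, 3), (36, 2), (37, 2), (44, 1)],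
      p.1 < 512 ∧ p.1 % 256 ≠ 0 ∧ q9 p.1 = 1 ∧ p.1 ^^^ p.2 < 512 ∧ (p.1 ^^^ p.2) % 256 ≠ 0 ∧
      q9 (p.1 ^^^ p.2) = 1 ∧ (p.1 ^^^ (p.1 ^^^ p.2)) % 256 ≠ 0 ∧
      q9 (p.1 ^^^ (p.1 ^^^ p.2)) = 0) p hp
  have c1 := F.π_mul (F.jv_mem b1) (F.jv_mem b4)
  rw [F.π_jv b1, F.π_jv b4] at c1
  have c2 := mul_mem (k2 _ b1 b2 b3 p1) (k2 _ b4 b5 b6 p2)
  have := key _ c2 (fun e => b7 (by rw [← c1]; exact (F.π_Z (hU c2)).2 e)) u hu uB n hn (hn2 u hu)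
  rw [c1, b8] at this
  omega

theorem sC0_le : F.sC0 ≤ H44.Oppof 2 F.sC0 ⊔ F.M := by
  have JR : F.J ≤ T ⊓ F.Cd := le_inf h.sJT (F.sJ_C0.trans inf_le_right)
  rcases goldZ F.sZs_le JR h.ssylC0 (fun t ht c hc => F.sC0_Z ht hc) (fun j hj => by
    rw [F.sq_J hj]
    split_ifs
    exacts [one_mem _, F.szZ]) (fun j hj c hc e => h.ssc hc hj e.1) with
    e | ⟨U, B, h1, h2, h3, h4, h5, h6, h7⟩
  · intro c hc
    have hK : F.J ⊔ H44.Oppof 2 F.sC0 ≤ F.sC0 := sup_le F.sJ_C0 (H44.Oppof_le _)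
    have hJ := h.sy.syl.isP.to_le h.sJT
    obtain ⟨Q, hQ, hP⟩ := exists_sylIn hJ (le_sup_left : _ ≤ F.J ⊔ H44.Oppof 2 F.sC0)
    obtain ⟨k, hk, hk'⟩ := hQ.exists_conj (isPGroup_cj c hJ) (cj_le_iff.2 (e c hc))
    obtain ⟨b, hb, hb'⟩ := h.ssylC0.exists_conj hQ.isP (hQ.le.trans hK)
    have m1 := h.sy.wc b hb.1 fun j hj => (hb' _ (hP hj)).1
    have m2 := h.sy.wc (b * (k * c)) (mul_mem hb (mul_mem (hK hk) hc)).1 fun j hj => by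
      rw [← cj_cj, ← cj_cj]
      exact (hb' _ (hk' _ (conj_mem_cj hj))).1
    have m3 : k ∈ H44.Oppof 2 F.sC0 ⊔ F.M :=
      sup_le (F.J_M.trans le_sup_right) le_sup_left hk
    exact ((H44.Oppof 2 F.sC0 ⊔ F.M).mul_mem_cancel_left m3).1
      (mem_sup_right ((F.M.mul_mem_cancel_left m1).1 m2))
  · exact (h.sno h1 h2 h3 h4 h5 h6 h7).elim

theorem szs {K : Subgroup G} (hW : F.W ≤ K)
    (h1 : ∀ g ∈ F.H, cj g F.d = F.d ∨ cj g F.d = F.z * F.d → g ∈ K) : F.H ≤ K := by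
  have : Fact (Nat.Prime 2) := ⟨Nat.prime_two⟩
  have TH : T ≤ F.H := fun _ ht => mem_cen.2 (F.M_z (h.sy.leM ht))
  refine H43.Alt8.zstar_mod (orderOf_eq_prime (by rw [sq, F.zz]) F.z_ne)
    (sc_syl (h.sy.syl.of_le TH le_top)) (h.sJT F.dJ) (orderOf_eq_prime (by rw [sq, F.dd]) F.d_ne)
    F.dz_ne (fun g hg hT => ?_) h1 fun O h2 h3 h4 => le_trans ?_ hW
  · have := h.Dz (e := cj g F.d) ⟨g, rfl⟩ ⟨g * F.a, by
      rw [← cj_cj, F.ad, cj_mul, cj_eq.2 (mem_cen.1 hg)]⟩ hT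
    rwa [← (F.J_d F.zJ).eq] at this
  · exact H44.le_Oppof_of_sn (H44.SN.of_le_normalizer h2 h3)
      (Nat.coprime_two_right.2 (GW.isPi_odd_iff.1 h4))

end Two

end Fr

theorem Fr.Two.hm {G : Type u} [Group G] [Finite G] {F : Fr G} {g : G} {T : Subgroup G}
    (h : F.Two g T) : F.H ≤ F.W ⊔ F.M := by
  have h1 : F.H ≤ F.W ⊔ (F.H ⊓ normalizer (F.sC0 : Set G)) :=
    h.szs le_sup_left fun g hg e => mem_sup_right ⟨hg, mem_normalizer_of_conj_mem fun c hc => by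
      have a1 : cj g c ∈ F.H := cj_mem hg hc.1
      have a2 : Commute (cj g c) (cj g F.d) := cj_comm.2 (mem_cen.1 hc.2)
      refine ⟨a1, mem_cen.2 ?_⟩
      rcases e with e | e <;> rw [e] at a2
      · exact a2
      · have := ((mem_cen.1 a1).inv_right).mul_right a2
        rwa [inv_mul_cancel_left] at this⟩
  have h2 : H44.Oppof 2 F.sC0 ≤ F.W :=
    GOLD.le_O_of_cover le_rfl le_normalizer (h1.trans (sup_comm _ _).le)
      (inf_le_inf_left _ (H44.normalizer_le_normalizer_pPrimeCoreOf _))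
      ((H44.Oppof_le _).trans inf_le_left) (GOLD.od_O _)
  have h3 : F.sC0 ≤ F.W ⊔ F.M := h.sC0_le.trans (sup_le_sup_right h2 _)
  refine h.szs le_sup_left fun g hg e => ?_
  rcases e with e | e
  · exact h3 ⟨hg, mem_cen.2 (cj_eq.1 e)⟩
  · have aM := F.S_M F.aS
    have az := F.S_z F.aS
    refine ((F.W ⊔ F.M).mul_mem_cancel_left (mem_sup_right aM)).1
      (h3 ⟨mul_mem (mem_cen.2 az) hg, mem_cen.2 (cj_eq.1 ?_)⟩)
    rw [← cj_cj, e, cj_mul, cj_eq.2 az, F.ad, ← (F.J_d F.zJ).eq, ← mul_assoc, F.zz, one_mul]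

end Cfsg.Agent.FE
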