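import Cfsg.Agent.FE.Gold
import Cfsg.Agent.INVK.Cl0

/-! Goldschmidt's theorem modulo a central subgroup. -/

set_option autoImplicit false

namespace Cfsg.Agent.FE

open Subgroup H42

universe u

theorem sc_three {G : Type u} [Group G] [Finite G] {A B U : Subgroup G} (hA : GOLD.EA A) (hU : U ≤ A)
    (hB : B ≤ A) (h : A ≤ B ⊔ U) (h4 : 4 ≤ B.relIndex A) :
    ∃ u ∈ U, ∃ v ∈ U, u ∉ B ∧ v ∉ B ∧ u * v ∉ B := by
  obtain ⟨a, ha, aB, -⟩ := GOLD.exists_third (B := B) (by omega) A.one_mem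
  obtain ⟨b, hb, bB, ab⟩ := GOLD.exists_third (B := B) (by omega) ha
  obtain ⟨β, h1, u, h2, rfl⟩ := (H49.mem_sup_of_norm_right (hA.norm_of_le hB hU)).1 (h ha)
  obtain ⟨γ, h3, v, h5, rfl⟩ := (H49.mem_sup_of_norm_right (hA.norm_of_le hB hU)).1 (h hb)
  refine ⟨u, h2, v, h5, fun e => aB (B.mul_mem h1 e), fun e => bB (B.mul_mem h3 e), fun e => ab ?_⟩
  rw [mul_inv_rev, hA.inv_eq (hU h5), mul_assoc, ← mul_assoc u]
  exact B.mul_mem h1 (B.mul_mem e (B.inv_mem h3))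

theorem goldZ {G : Type u} [Group G] [Finite G] {C J Z R : Subgroup G} (hZJ : Z ≤ J) (hJR : J ≤ R)
    (hR : SylIn 2 R C) (hZ : ∀ t ∈ Z, ∀ c ∈ C, Commute c t) (hsq : ∀ j ∈ J, j * j ∈ Z)
    (hsc : ∀ j ∈ J, ∀ c ∈ C, cj c j ∈ R → cj c j ∈ J) :
    (∀ c ∈ C, ∀ j ∈ J, cj c j ∈ J ⊔ H44.Oppof 2 C) ∨
    ∃ U B : Subgroup G, Z ≤ U ∧ Z ≤ B ∧ U ≤ J ∧ B ≤ J ∧
      (∃ u ∈ U, ∃ v ∈ U, u ∉ B ∧ v ∉ B ∧ u * v ∉ B) ∧
      (∀ a ∈ J, a ∉ B → ∀ b ∈ J, b ∉ B → ∃ r ∈ C ⊓ normalizer (J : Set G), cj r a * b⁻¹ ∈ B) ∧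
      ∀ n ∈ C ⊓ normalizer (J : Set G),
        ((∀ b ∈ B, cj n b ∈ B) ∧ ∀ u ∈ U, cj n u ∈ U) ∨ ∀ u ∈ U, cj n u ∈ B := by
  have hJC : J ≤ C := hJR.trans hR.le
  have hn : (Z.subgroupOf C).Normal := ⟨fun t ht c => by
    rw [mem_subgroupOf]
    change cj c.1 t.1 ∈ Z
    rw [cj_eq.2 (hZ t.1 ht _ c.2)]
    exact ht⟩
  let φ := QuotientGroup.mk' (Z.subgroupOf C)
  have sur : Function.Surjective φ := QuotientGroup.mk'_surjective _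
  have ker : ∀ x : C, φ x = 1 ↔ x.1 ∈ Z := fun x => QuotientGroup.eq_one_iff x
  have key : ∀ X : Subgroup G, Z ≤ X → ∀ x : C, φ x ∈ (X.subgroupOf C).map φ ↔ x.1 ∈ X :=
    fun X hX x => ⟨fun ⟨y, hy, e⟩ => by
      have : (y⁻¹ * x).1 ∈ X := hX ((ker _).1 (by rw [map_mul, map_inv, e, inv_mul_cancel]))
      exact (X.mul_mem_cancel_left (X.inv_mem hy)).1 this, fun h => ⟨x, h, rfl⟩⟩
  let A := (J.subgroupOf C).map φ
  have kA : ∀ x : C, φ x ∈ A ↔ x.1 ∈ J := key J hZJ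
  have hsq' : ∀ a ∈ A, a * a = 1 := by
    rintro _ ⟨j, hj, rfl⟩
    rw [← map_mul]; exact (ker _).2 (hsq _ hj)
  have hA : GOLD.EA A := ⟨⟨⟨fun a b => Subtype.ext (by
    have h1 := hsq' _ (a * b).2
    have h2 := hsq' _ a.2
    have h3 := hsq' _ b.2
    change a.1 * b.1 = b.1 * a.1
    change a.1 * b.1 * (a.1 * b.1) = 1 at h1
    calc a.1 * b.1 = a.1 * b.1 * (a.1 * (b.1 * b.1) * a.1) * (b.1 * b.1) := by
          rw [h3, mul_one, mul_one, h2, mul_one]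
      _ = a.1 * b.1 * (a.1 * b.1) * (b.1 * a.1) * (b.1 * b.1) := by simp only [mul_assoc]
      _ = b.1 * a.1 := by rw [h1, h3, one_mul, mul_one])⟩⟩, fun a ha => by rw [sq, hsq' a ha]⟩
  have hSC : GOLD.SC ⊤ A := by
    refine GOLD.SC.of_stronglyClosed
      (((hR.isP.comap_subtype (K := C)).toSylow hR.ndvd).mapSurjective sur)
      ⟨map_mono (comap_mono hJR), ?_⟩
    rintro _ ⟨j, hj, rfl⟩ g hg
    obtain ⟨c, rfl⟩ := sur g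
    rw [← map_inv, ← map_mul, ← map_mul] at hg ⊢
    exact (kA _).2 (hsc _ hj _ c.2 ((key R (hZJ.trans hJR) _).1 hg))
  have e1 : ∀ c x : C, cj (φ c) (φ x) = φ (cj c x) := fun c x => by
    simp only [cj, map_mul, map_inv]
  have nm : ∀ n : C, φ n ∈ normalizer (A : Set (C ⧸ Z.subgroupOf C)) ↔
      n.1 ∈ normalizer (J : Set G) := fun n =>
    ⟨fun h => mem_normalizer_of_conj_mem fun j hj => by
      have := cj_nm h ((kA ⟨j, hJC hj⟩).2 hj)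
      rw [e1] at this
      exact (kA _).1 this, fun h => mem_normalizer_of_conj_mem (by
      rintro _ ⟨j, hj, rfl⟩
      change cj (φ n) (φ j) ∈ A
      rw [e1]
      exact (kA (cj n j)).2 (cj_nm h hj))⟩
  rcases gold hSC hA with h | ⟨L, U, B, R', -, hU, hB, hs, h4, -, ht, -, hd⟩
  · left
    intro c hc j hj
    have h1 := h (φ ⟨c, hc⟩) (mem_top _) _ ((kA ⟨j, hJC hj⟩).2 hj)
    rw [e1, H44.Oppof_top] at h1
    obtain ⟨_, ⟨k, hk, rfl⟩, o, ho, e⟩ := mem_sup_of_normal_right.1 h1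
    obtain ⟨x, rfl⟩ := sur o
    obtain ⟨y, hy, e'⟩ := INVK.oc_lift φ (fun t ht => mem_center_iff.2 fun c =>
      Subtype.ext (hZ _ ((ker t).1 ht) _ c.2)) ho
    have h2 : ((k * y)⁻¹ * cj ⟨c, hc⟩ ⟨j, hJC hj⟩).1 ∈ Z :=
      (ker _).1 (by rw [map_mul, map_inv, map_mul, e', e, inv_mul_cancel])
    exact ((J ⊔ H44.Oppof 2 C).mul_mem_cancel_left (inv_mem (mul_mem (mem_sup_left hk)
      (mem_sup_right (mem_map_of_mem _ hy))))).1 (mem_sup_left (hZJ h2))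
  · let pb : Subgroup (C ⧸ Z.subgroupOf C) → Subgroup G := fun X => (X.comap φ).map C.subtype
    have p1 : ∀ X (x : C), x.1 ∈ pb X ↔ φ x ∈ X := fun X x =>
      mem_map_iff_mem C.subtype_injective
    have p2 : ∀ X, Z ≤ pb X := fun X t ht => (p1 X ⟨t, hJC (hZJ ht)⟩).2 (by
      rw [(ker ⟨t, hJC (hZJ ht)⟩).2 ht]; exact X.one_mem)
    have p3 : ∀ X, X ≤ A → pb X ≤ J := by
      rintro X hX _ ⟨x, hx, rfl⟩
      exact (kA x).1 (hX hx)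
    have p4 : ∀ X Y (n : C), (∀ x ∈ X, cj (φ n) x ∈ Y) → ∀ x ∈ pb X, cj n.1 x ∈ pb Y := by
      rintro X Y n h _ ⟨x, hx, rfl⟩
      exact (p1 Y (cj n x)).2 (e1 n x ▸ h _ hx)
    refine Or.inr ⟨pb U, pb B, p2 U, p2 B, p3 U hU, p3 B hB, ?_, fun a ha aB b hb bB => ?_,
      fun n hn => ?_⟩
    · obtain ⟨u, hu, v, hv, h1, h2, h3⟩ := sc_three hA hU hB hs h4
      obtain ⟨u, rfl⟩ := sur u
      obtain ⟨v, rfl⟩ := sur v
      exact ⟨u, (p1 U u).2 hu, v, (p1 U v).2 hv, mt (p1 B u).1 h1, mt (p1 B v).1 h2,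
        mt (p1 B (u * v)).1 (by rwa [map_mul])⟩
    · obtain ⟨r, hr, e⟩ := ht.trans _ ((kA ⟨a, hJC ha⟩).2 ha) (mt (p1 B ⟨a, hJC ha⟩).2 aB) _
        ((kA ⟨b, hJC hb⟩).2 hb) (mt (p1 B ⟨b, hJC hb⟩).2 bB)
      obtain ⟨r, rfl⟩ := sur r
      refine ⟨r, ⟨r.2, (nm r).1 (ht.norm hr)⟩, (p1 B (cj r ⟨a, hJC ha⟩ * ⟨b, hJC hb⟩⁻¹)).2 ?_⟩
      rwa [map_mul, map_inv, ← e1]
    · rcases hd (φ ⟨n, hn.1⟩) ⟨mem_top _, (nm _).2 hn.2⟩ with ⟨-, h1, h2⟩ | h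
      · exact Or.inl ⟨p4 B B _ h1, p4 U U _ h2⟩
      · exact Or.inr (p4 U B _ h)

/-- no conjugate of an element of `U` is a product `u u'` with `u'` in a second factor -/
theorem sc_nc {G : Type u} [Group G] {N U B : Subgroup G}
    (h : ∀ n ∈ N, ((∀ b ∈ B, cj n b ∈ B) ∧ ∀ u ∈ U, cj n u ∈ U) ∨ ∀ u ∈ U, cj n u ∈ B)
    {u v w n k : G} (hu : u ∈ U) (uB : u ∉ B) (vB : v ∉ B) (hw : w ∈ U) (hn : n ∈ N) (hk : k ∈ N)
    (hv : cj n v ∈ B) : cj k w ≠ u * cj n v := fun e => by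
  rcases h k hk with ⟨-, h1⟩ | h1
  · have h2 : cj n v ∈ U := (U.mul_mem_cancel_left hu).1 (e ▸ h1 w hw)
    rcases h _ (N.inv_mem hn) with ⟨h3, -⟩ | h3
    · exact vB (cj_inv n v ▸ h3 _ hv)
    · exact vB (cj_inv n v ▸ h3 _ h2)
  · exact uB ((B.mul_mem_cancel_right hv).1 (e ▸ h1 w hw))

end Cfsg.Agent.FE
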