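import Cfsg.Agent.FE.SylA

/-! The Sylow 2-subgroup `T`. -/

set_option autoImplicit false

namespace Cfsg.Agent.FE

open Subgroup H42

universe u

namespace Sl

variable {G : Type u} [Group G] [Finite G] {F : Fr G} {T : Subgroup G}

theorem T0_rz {g : G} (h : F.Tw g) {c : ℕ} (hc : c ∈ T0) : F.Rz c := by
  rw [ckT.2.2.2.1, List.mem_map] at hc
  obtain ⟨l, -, rfl⟩ := hc
  induction l with
  | nil => exact h.rz_wd F []
  | cons j l ih =>
    refine .mul F ?_ ih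
    rw [Nat.eq_of_beq_eq_true (al_spec ckT.2.2.2.2.1 (Nat.mod_lt j (by decide)))]
    exact h.rz_wd F _

theorem S_in0 {t : G} (ht : t ∈ F.S) (hd : Commute t F.d) : F.ρ t ∈ T0 := by
  have := Cl.alT_spec ckS (F.S_tri t ht)
  rw [frc_eq, List.contains_iff_mem, show bk (ln (F.κ t)) = bk (F.κ t) by simp [bk, Cl.cl_ln]] at this
  rwa [F.K0_ρ (F.mem_K0.2 ⟨⟨F.S_le ht, F.S_M ht⟩, hd⟩)]

variable (le : F.S ≤ T) (sM : SylIn 2 T F.M) (in0 : ∀ t ∈ T, Commute t F.d → F.ρ t ∈ T0)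
include le sM in0

omit in0 in
theorem TJ {t : G} (ht : t ∈ T) (h : F.ρ t = I9) : t ∈ F.J := by
  obtain ⟨j, hj, y, hy, rfl⟩ := F.JY_dec ((F.ρ_ker (sM.le ht)).1 h)
  obtain ⟨n, hn⟩ := sM.isP ⟨y, (T.mul_mem_cancel_left (le (F.J_le hj))).1 ht⟩
  rwa [eq_one_of_odd (F.Y_ord hy) (congrArg Subtype.val hn), mul_one]

omit le in0 in
theorem ZR {t : G} (ht : t ∈ T) (h : ∀ j ∈ F.J, Commute t j) : F.inZ t :=
  let ⟨_, hn⟩ := sM.isP ⟨t, ht⟩; F.cenJ_two h (congrArg Subtype.val hn)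

omit in0 in
theorem zT {t : G} (ht : t ∈ T) (h : ∀ s ∈ T, Commute t s) : t = 1 ∨ t = F.z := by
  have a := (h _ (le F.aS)).symm
  rcases ZR sM ht fun j hj => h j (le (F.J_le hj)) with e | e | rfl | rfl
  exacts [.inl e, .inr e, (F.a_nd a).elim, (F.a_nd (by
    simpa [mul_assoc, F.zz] using a.mul_right (F.S_z F.aS))).elim]

theorem in1 {t : G} (ht : t ∈ T) (hd : ¬ Commute t F.d) : m9 ab (F.ρ t) ∈ T0 := by
  have := in0 _ (mul_mem (le F.aS) ht) (F.a_mul_d (sM.le ht) hd)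
  rwa [F.ρ_mul F.aM (sM.le ht), F.ρa] at this

theorem in_tb {t : G} (ht : t ∈ T) : ∃ j < 128, tb j = F.ρ t := by
  have k : ∀ c ∈ T0, ∃ j < 64, T0.getD j 0 = c := fun c hc => by
    obtain ⟨j, hj, e⟩ := List.mem_iff_getElem.1 hc
    exact ⟨j, hj, (List.getD_eq_getElem _ _ hj).trans e⟩
  by_cases hd : Commute t F.d
  · obtain ⟨j, hj, e⟩ := k _ (in0 t ht hd)
    exact ⟨j, by omega, by rw [tb, Nat.blt_eq.mpr hj, cond_true, e]⟩
  · obtain ⟨j, hj, e⟩ := k _ (in1 le sM in0 ht hd)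
    have m := sM.le ht
    refine ⟨j + 64, by omega, ?_⟩
    rw [tb, Bool.eq_false_iff.2 (by simp : ¬ Nat.blt (j + 64) 64 = true), cond_false, Nat.add_sub_cancel, e,
      ← F.ρa, ← F.ρ_mul F.aM m, ← F.ρ_mul F.aM (mul_mem F.aM m), ← mul_assoc, F.aa, one_mul]

theorem wc {h : G} (hh : h ∈ F.H) (hJ : ∀ j ∈ F.J, cj h j ∈ T) : h ∈ F.M := by
  by_contra hn
  have hz := cj_eq.2 (mem_cen.1 hh)
  have hM := fun j hj => sM.le (hJ j hj)
  let I : Subgroup G := F.J ⊓ F.J.comap (MulAut.conj h).toMonoidHom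
  have mI : ∀ {j}, j ∈ I ↔ j ∈ F.J ∧ cj h j ∈ F.J := Iff.rfl
  let f := fun j => F.ρ (cj h j)
  let p := fun j => F.π (cj h j)
  have e1 := relIndex_eq_ncard (K := I) (P := F.J) f fun a ha b hb => by
    have m := mul_mem (inv_mem ha) hb
    rw [F.ρ_eq (hM a ha) (hM b hb), ← cj_iv, ← cj_mul, ← F.ρ_ker (hM _ m), mI]
    exact ⟨fun e => ⟨m, TJ le sM (hJ _ m) e⟩, fun e => F.ρ_J e.2⟩
  have e2 := relIndex_eq_ncard (K := zpowers F.z) (P := I) p fun a ha b hb => by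
    have m := (mI.1 (mul_mem (inv_mem ha) hb)).2
    simp only [p]
    rw [← Nat.xor_eq_zero_iff, ← F.π_inv (mI.1 ha).2, ← F.π_mul (inv_mem (mI.1 ha).2) (mI.1 hb).2, ← cj_iv,
      ← cj_mul]
    refine (F.π_zero m).trans ⟨fun e => ?_, fun e => ?_⟩
    · rcases e with e | e
      · rw [cj_eq_one.1 e]; exact one_mem _
      · rw [cj_inj.1 (e.trans hz.symm)]; exact mem_zpowers _
    · rcases zp2 F.zz e with e | e <;> rw [e]
      exacts [.inl (cj_one _), .inr hz]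
  have c1 := card_mul_relIndex (X := I) (Y := F.J) inf_le_left
  have c2 := card_mul_relIndex (X := zpowers F.z) (Y := I) (zpowers_le.2 (mI.2 ⟨F.zJ, hz.symm ▸ F.zJ⟩))
  rw [e2, Nat.card_zpowers, orderOf_eq_prime (p := 2) (by rw [sq, F.zz]) F.z_ne] at c2
  rw [e1, F.card_J, ← c2, mul_assoc] at c1
  replace c1 := Nat.eq_of_mul_eq_mul_left (k := 512) (by decide) c1
  generalize hP : p '' I = P at *
  generalize hB : f '' F.J = B at *
  have fB : B.Finite := hB ▸ (Set.toFinite _).image _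
  have pl : ∀ v ∈ P, v < 512 := by subst hP; rintro _ ⟨j, -, rfl⟩; exact F.π_lt _
  have bt : ∀ r ∈ B, ∃ j < 128, tb j = r := by
    subst hB; rintro _ ⟨j, hj, rfl⟩; exact in_tb le sM in0 (hJ j hj)
  have fix : ∀ r ∈ B, ∀ v ∈ P, fx r v = true := by
    subst hB hP
    rintro _ ⟨a, ha, rfl⟩ _ ⟨i, hi, rfl⟩
    rw [fx, Nat.beq_eq, ← F.ρ_ap (hM a ha) (mI.1 hi).2, cj_sw, F.cj_J ha hi.1]
    split_ifs
    · rfl
    · rw [cj_mul, hz, F.π_mul F.zJ (mI.1 hi).2, F.πz, Nat.zero_xor]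
  have sq : ∀ a ∈ F.J, cj h a * cj h a = 1 ∨ cj h a * cj h a = F.z := fun a ha => by
    rw [← cj_mul, F.sq_J ha]
    split_ifs
    exacts [.inl (cj_one h), .inr hz]
  have inv : ∀ r ∈ B, iv r = true := by
    subst hB
    rintro _ ⟨a, ha, rfl⟩
    rw [iv, Nat.beq_eq, ← F.ρ_mul (hM a ha) (hM a ha)]
    rcases sq a ha with e | e <;> rw [e]
    exacts [F.ρ_one, F.ρ_J F.zJ]
  have cm : ∀ r ∈ B, ∀ s ∈ B, m9 r s = m9 s r := by
    subst hB
    rintro _ ⟨a, ha, rfl⟩ _ ⟨b, hb, rfl⟩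
    rw [← F.ρ_mul (hM a ha) (hM b hb), ← F.ρ_mul (hM b hb) (hM a ha), ← cj_mul,
      show a * b = cj a b * a by simp [cj], F.cj_J ha hb]
    split_ifs
    · rw [cj_mul]
    · rw [mul_assoc, cj_mul, hz, cj_mul, F.ρ_I_mul (mul_mem (hM b hb) (hM a ha)) (F.J_M F.zJ) (F.ρ_J F.zJ)]
  have E : ∀ r ∈ B, e16 r = true := fun r hr => by
    by_contra n
    obtain ⟨i, hi, e⟩ := bt r hr
    have := al_spec ck1 hi
    simp only [e, frc_eq (x := r), inv r hr, n, Bool.not_true, Bool.false_or, Bool.and_eq_true, Nat.blt_eq,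
      Bool.or_eq_true, false_or] at this
    have h1 := le_cnt fun v hv => ⟨pl v hv, fix r hr v hv⟩
    have h2 := (le_tb fun s hs => ⟨bt s hs, by
      rw [inv s hs, ← ap9_m9, ← ap9_m9, cm r hr s hs, Nat.beq_refl]; rfl⟩).trans_lt this.1.2
    have h3 : P.ncard = 32 ∧ B.ncard = 16 := by
      have : P.ncard ≤ 32 := by omega
      generalize P.ncard = a at *
      interval_cases a <;> omega
    have h4 : P = {v | v < 512 ∧ fx r v = true} := Set.eq_of_subset_of_ncard_le (fun v hv => ⟨pl v hv, fix r hr v hv⟩)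
      (by rw [cnt_card]; omega) (cnt_fin 512 (fx r))
    have h5 := (le_tb fun s hs => ⟨bt s hs, by
      rw [inv s hs, Bool.true_and]
      refine al_of fun v hv => ?_
      cases e : fx r v
      · rfl
      · exact fix s hs v (h4 ▸ ⟨hv, e⟩)⟩).trans_lt this.2
    omega
  obtain ⟨r, hr, r1⟩ : ∃ r ∈ B, r ≠ I9 := by
    by_contra k
    push Not at k
    exact hn (mem_normalizer_of_conj_mem fun j hj => TJ le sM (hJ j hj) (k _ (hB ▸ ⟨j, hj, rfl⟩)))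
  obtain ⟨i, hi, e⟩ := bt r hr
  have := al_spec ck2 hi
  simp only [e, frc_eq (x := r), E r hr, r1, Bool.not_true, Bool.false_or, Bool.and_eq_true, Nat.blt_eq,
    Bool.or_eq_true, Nat.beq_eq, false_or] at this
  have h1 := le_cnt fun v hv => ⟨pl v hv, fix r hr v hv⟩
  obtain ⟨s, hs, s1⟩ : ∃ s ∈ B, s ∉ ({I9, r} : Set ℕ) := Set.not_subset.1 fun k => by
    have := (Set.ncard_le_ncard k).trans (Set.ncard_insert_le _ _)
    rw [Set.ncard_singleton] at this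
    generalize B.ncard = a at *
    interval_cases a <;> omega
  simp only [Set.mem_insert_iff, Set.mem_singleton_iff, not_or] at s1
  obtain ⟨j, hj, e⟩ := bt s hs
  have h2 := al_spec this.2 hj
  simp only [e, frc_eq, E s hs, s1, Bool.not_true, Bool.false_or, Bool.or_eq_true, Nat.beq_eq, false_or] at h2
  have L : ∀ v ∈ P, inl v = true := fun v hv => by
    simpa [fix r hr v hv, fix s hs v hv] using al_spec h2 (pl v hv)
  have h3 := (le_cnt fun v hv => ⟨pl v hv, L v hv⟩).trans_eq ck3.1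
  have h4 := (le_tb (f := fun r => e16 r && !Nat.beq r f0) (s := B \ {f0}) fun s hs => ⟨bt s hs.1, by
    rw [E s hs.1, Bool.eq_false_iff.2 fun e => hs.2 (Nat.eq_of_beq_eq_true e)]; rfl⟩).trans_eq ck3.2.1
  have h5 : f0 ∈ B := by
    by_contra n
    rw [Set.sdiff_singleton_eq_self n] at h4
    have := Nat.mul_le_mul h3 h4
    omega
  have h6 : 32 ≤ P.ncard := not_lt.1 fun n => by
    have := Nat.mul_le_mul (Nat.le_of_lt_succ n) ((Set.ncard_sdiff_singleton_add_one h5 fB).ge.trans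
      (Nat.succ_le_succ h4))
    omega
  obtain ⟨t, ht, e0⟩ : ∃ t ∈ F.J, F.ρ (cj h t) = f0 := by rw [← hB] at h5; exact h5
  have q : ∀ i ∈ I, i * i = 1 ∧ Commute t i := fun i hi => by
    have := al_spec ck3.2.2.2 (F.π_lt (cj h i))
    simp only [L _ (hP ▸ ⟨i, hi, rfl⟩ : p i ∈ P), p, frc_eq, Bool.not_true, Bool.false_or, Bool.and_eq_true,
      Nat.beq_eq, Nat.blt_eq] at this
    refine ⟨(cj_eq_one (g := h)).1 (by rw [cj_mul, F.sq_J (mI.1 hi).2, if_pos this.1]), (cj_comm (g := h)).1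
      (F.star (hM t ht) (by_contra fun n => ck3.2.2.1 (e0 ▸ in1 le sM in0 (hJ t ht) n))
        ((sq t ht).imp_right .inl) (mI.1 hi).2 this.1 this.2.1 (e0.symm ▸ this.2.2))⟩
  have ab : ∀ a ∈ I, ∀ b ∈ I, Commute a b := fun a ha b hb => by
    have := (q _ (mul_mem ha hb)).1
    rw [Commute, SemiconjBy, ← inv_eq_of_mul_eq_one_right this, mul_inv_rev,
      inv_eq_of_mul_eq_one_right (q a ha).1, inv_eq_of_mul_eq_one_right (q b hb).1]
  have a1 : I ⊔ zpowers t ≤ centralizer (I : Set G) :=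
    sup_le (fun a ha b hb => ab b hb a ha) (zpowers_le.2 fun b hb => (q b hb).2.symm)
  have a2 : I ⊔ zpowers t ≤ centralizer (I ⊔ zpowers t : Subgroup G) :=
    sup_le (le_centralizer_iff.1 a1) (zpowers_le.2 (mem_centralizer_iff.2 fun b hb => mem_cen.1
      ((sup_le (fun a ha => mem_cen.2 (q a ha).2.symm) (zpowers_le.2 (mem_cen.2 (Commute.refl t))) :
        _ ≤ centralizer {t}) hb)))
  have a3 := F.ab_J (sup_le inf_le_left (zpowers_le.2 ht)) fun a ha b hb => (a2 hb a ha)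
  have a4 : I = I ⊔ zpowers t := eq_of_le_of_card_ge le_sup_left (a3.trans (by omega))
  have := F.ρ_J (mI.1 (a4 ▸ mem_sup_right (mem_zpowers t))).2
  exact absurd (e0.symm.trans this) (by decide)

theorem sy (H : ∀ s ∈ T, Commute s F.d → F.ρ (s * s) = I9 → ∃ m ∈ F.M, cj m s ∈ F.K) : F.Sy T := by
  have : Fact (Nat.Prime 2) := ⟨Nat.prime_two⟩
  have JT : F.J ≤ T := F.J_le.trans le
  have cz : ∀ {P : Subgroup G} {y}, P ≤ T → y ∈ normalizer (P : Set G) → ∀ s ∈ P, Commute (cj y F.z) s :=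
    fun hP hy s hs => by
      rw [← cj_inv' _ s, cj_comm]
      exact (F.M_z (sM.le (hP (cj_nm (inv_mem hy) hs)))).symm
  have syl : SylIn 2 T ⊤ := by
    obtain ⟨P, hP, l⟩ := exists_sylIn sM.isP (le_top (a := T))
    rcases l.eq_or_lt with rfl | l'
    · exact hP
    obtain ⟨y, ⟨y1, y2⟩, y3⟩ := SetLike.exists_of_lt (lt_inf_normalizer hP.isP l')
    have yM := wc le sM in0 (mem_cen.2 (cj_eq.1 ((zT le sM (cj_nm y2 (le F.zS)) (cz le_rfl y2)).resolve_left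
      fun e => F.z_ne (cj_eq_one.1 e)))) fun j hj => cj_nm y2 (JT hj)
    exact (y3 (sM.eq_of_le (R := P ⊓ F.M) hP.isP.to_inf_left inf_le_right (le_inf l sM.le) ▸ ⟨y1, yM⟩)).elim
  have JR : F.J ≤ T ⊓ F.Cd := le_inf JT fun j hj => mem_cen.2 (F.J_d hj)
  have sylR : SylIn 2 (T ⊓ F.Cd) F.Cd := by
    obtain ⟨P, hP, l⟩ := exists_sylIn (sM.isP.to_inf_left (K := F.Cd)) inf_le_right
    rcases l.eq_or_lt with e | l'
    · exact e ▸ hP
    obtain ⟨y, ⟨y1, y2⟩, y3⟩ := SetLike.exists_of_lt (lt_inf_normalizer hP.isP l')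
    have yd := mem_cen.1 (hP.le y1)
    rcases ZR sM (cj_nm y2 (JR F.zJ)).1 fun j hj => cz inf_le_left y2 j (JR hj) with e | e | e | e
    · exact (F.z_ne (cj_eq_one.1 e)).elim
    · have yM := wc le sM in0 (mem_cen.2 (cj_eq.1 e)) fun j hj => (cj_nm y2 (JR hj)).1
      have := (sM.inf_normal (M := F.M ⊓ F.Cd) inf_le_left fun m hm => mem_normalizer_of_conj_mem fun t ht =>
        ⟨cj_mem hm ht.1, mem_cen.2 ((F.cj_nd hm ht.1).2 (mem_cen.1 ht.2))⟩).eq_of_le (R := P ⊓ F.M)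
        hP.isP.to_inf_left (le_inf inf_le_right (inf_le_left.trans hP.le))
        (fun t ht => ⟨l ⟨ht.1, ht.2.2⟩, ht.2.1⟩)
      exact (y3 ⟨(this.le ⟨y1, yM⟩).1, hP.le y1⟩).elim
    · exact (F.dz_ne (cj_inj.1 ((cj_eq.2 yd).trans e.symm))).elim
    have h1 := F.jv_mem (v := 129) (by decide)
    have h2 := cj_nm y2 (JR h1)
    have h3 : cj y (F.jv 129) * cj y (F.jv 129) = F.d * F.z := by
      rw [← cj_mul, F.sq_J h1, F.π_jv (by decide), if_neg (by decide), e]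
    obtain ⟨m, hm, hK⟩ := H _ h2.1 (mem_cen.1 h2.2) (h3 ▸ F.ρ_J (mul_mem F.dJ F.zJ))
    obtain ⟨k, hk, hS⟩ := F.S_sylK.exists_conj (two_zp (g := cj m (cj y (F.jv 129))) (n := 2) (by
      rw [show 2 ^ 2 = 2 * 2 from rfl, pow_mul, sq (cj m _), ← cj_mul, h3, sq]
      exact cj_sq (Fr.inZ.sq (F := F) (.inr (.inr (.inr rfl)))))) (zpowers_le.2 hK)
    have n := F.nsq (hS _ (mem_zpowers _))
    have km := mul_mem (F.K_le hk) hm
    change cj k _ * cj k _ ≠ _ ∧ cj k _ * cj k _ ≠ _ at n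
    rw [← cj_mul, ← cj_mul m, h3, cj_cj, cj_mul, cj_eq.2 (F.M_z km)] at n
    rcases F.M_d km with e | e <;> rw [e] at n
    exacts [(n.2 rfl).elim, (n.1 (by rw [mul_assoc, F.zz, mul_one])).elim]
  refine ⟨le, sM.le, syl, in0, fun _ => in1 le sM in0, fun _ => TJ le sM, fun _ => zT le sM,
    fun _ => wc le sM in0, sylR, fun ⟨g, e⟩ => ?_⟩
  obtain ⟨k, -, hk⟩ := sylR.exists_conj (isPGroup_cj g⁻¹ sM.isP) (cj_le_iff.2 fun t ht => mem_cen.2 (by
    rw [← cj_inv g F.d, e]; exact cj_comm.2 (F.M_z (sM.le ht))))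
  have := card_le_of_le (cj_le_iff.2 hk)
  rw [card_cj, card_cj] at this
  exact F.a_nd (mem_cen.1 ((eq_of_le_of_card_ge inf_le_left this).ge (le F.aS)).2)

end Sl

namespace Fr

open Sl

variable {G : Type u} [Group G] [Finite G] (F : Fr G)

theorem syl1 (h : F.M ≤ F.K) : F.Sy F.S :=
  sy le_rfl (F.S_sylK.of_le F.S_M h) (fun _ => S_in0) fun s hs _ _ =>
    ⟨1, one_mem _, by simpa [cj] using F.S_sylK.le hs⟩

theorem syl2 {g : G} (h : F.Tw g) : ∃ T, F.Two g T := by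
  have : Fact (Nat.Prime 2) := ⟨Nat.prime_two⟩
  have ck := fun c hc => List.all_eq_true.1 ckT.2.1 c hc
  simp only [Bool.and_eq_true, Bool.or_eq_true, List.contains_iff_mem, Bool.not_eq_true'] at ck
  let M1 : Submonoid G :=
    { carrier := {m | m ∈ F.M ∧ Commute m F.d ∧ F.ρ m ∈ T0}
      one_mem' := ⟨one_mem _, .one_left _, F.ρ_one ▸ by decide⟩
      mul_mem' := fun {a b} ha hb => ⟨mul_mem ha.1 hb.1, ha.2.1.mul_left hb.2.1,
        F.ρ_mul ha.1 hb.1 ▸ T0_mul ha.2.2 hb.2.2⟩ }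
  let M0 : Subgroup G :=
    { toSubmonoid := M1
      inv_mem' := fun {a} ha => (Submonoid.powers_le (P := M1)).2 ha
        (mem_powers_iff_mem_zpowers.2 (inv_mem (mem_zpowers a))) }
  have ai : F.a⁻¹ = F.a := inv_eq_of_mul_eq_one_right F.aa
  have aN : F.a ∈ normalizer (M0 : Set G) := mem_normalizer_of_conj_mem fun m hm =>
    ⟨cj_mem F.aM hm.1, (F.cj_nd F.aM hm.1).2 hm.2.1, by
      rw [ai, F.ρ_mul (mul_mem F.aM hm.1) F.aM, F.ρ_mul F.aM hm.1, F.ρa]; exact (ck _ hm.2.2).1.2⟩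
  have aN' := zpowers_le.2 aN
  have dec : ∀ m ∈ zpowers F.a ⊔ M0, m ∈ M0 ∨ F.a * m ∈ M0 := fun m hm => by
    obtain ⟨b, hb, k, hk, rfl⟩ := exists_mul_of_mem_sup aN' hm
    rcases zp2 F.aa hb with rfl | rfl
    exacts [.inl (by rwa [one_mul]), .inr (by rwa [← mul_assoc, F.aa, one_mul])]
  have lM : zpowers F.a ⊔ M0 ≤ F.M := sup_le (zpowers_le.2 F.aM) fun m hm => hm.1
  obtain ⟨T, hT, le⟩ := exists_sylIn (H := zpowers F.a ⊔ M0) F.S_syl.isP fun s hs => by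
    by_cases hd : Commute s F.d
    · exact mem_sup_right ⟨F.S_M hs, hd, S_in0 hs hd⟩
    · have hd := F.a_mul_d (F.S_M hs) hd
      have := mul_mem F.aS hs
      exact (mul_mem_cancel_left (mem_sup_left (mem_zpowers _))).1
        (mem_sup_right ⟨F.S_M this, hd, S_in0 this hd⟩)
  have in0 : ∀ t ∈ T, Commute t F.d → t ∈ M0 := fun t ht hd => (dec t (hT.le ht)).resolve_right fun e =>
    F.a_nd (by simpa using e.2.1.mul_left hd.inv_left)
  have JY : F.J ⊔ F.Y ≤ M0 := sup_le (fun j hj => ⟨F.J_M hj, F.J_d hj, F.ρ_J hj ▸ by decide⟩)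
    fun y hy => ⟨F.Y_M hy, F.Y_cen hy F.dJ, F.ρ_Y hy ▸ by decide⟩
  have c64 : ∀ P ≤ M0, (∀ c ∈ T0, ∃ t ∈ P, F.ρ t = c) → (F.J ⊔ F.Y).relIndex P = 2 ^ 6 := fun P hP k => by
    rw [relIndex_eq_ncard F.ρ fun a ha b hb => F.ρ_eq (hP ha).1 (hP hb).1,
      show F.ρ '' P = ↑T0.toFinset from Set.ext fun c => ⟨by
        rintro ⟨t, ht, rfl⟩; simpa using (hP ht).2.2, fun hc => k c (by simpa using hc)⟩,
      Set.ncard_coe_finset, List.toFinset_card_of_nodup ckT.2.2.1]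
    rfl
  have sur : ∀ c ∈ T0, ∃ t ∈ T ⊓ M0, F.ρ t = c := fun c hc => by
    obtain ⟨m, hm, md, rfl⟩ := T0_rz h hc
    obtain ⟨s, hs, k, hk, e⟩ := (hT.inf_normal le_sup_right (sup_le aN' le_normalizer)).exists_mul_of_relIndex_pow
      JY (fun m hm => mem_normalizer_of_conj_mem fun k hk => by
        obtain ⟨j, hj, y, hy, rfl⟩ := F.JY_dec hk
        exact (cj_mul m j y ▸ mul_mem (mem_sup_left (cj_nm hm.1 hj)) (mem_sup_right (F.Y_nm hm.1 hy)) :
          cj m (j * y) ∈ _))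
      (c64 M0 le_rfl fun c hc => let ⟨m, hm, md, e⟩ := T0_rz h hc; ⟨m, ⟨hm, md, e ▸ hc⟩, e⟩)
      (⟨hm, md, hc⟩ : m ∈ M0)
    exact ⟨s, hs, by rw [e, F.ρ_mul_I hs.2.1 (JY hk).1 ((F.ρ_ker (JY hk).1).2 hk)]⟩
  have sM : SylIn 2 T F.M := ⟨hT.le.trans lM, hT.isP, fun d => by
    have e1 := relIndex_mul_relIndex _ _ _ le (hT.le.trans lM)
    rw [← relIndex_mul_relIndex _ _ _ F.S_sylK.le F.K_le, h.idx] at e1
    have e2 := card_mul_relIndex le
    have e3 := card_mul_relIndex (X := F.J) (Y := T ⊓ M0) (le_inf (F.J_le.trans le) (le_sup_left.trans JY))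
    have e4 := relIndex_le_of_le_left (L := T ⊓ M0) (le_sup_left : F.J ≤ F.J ⊔ F.Y)
      index_ne_zero_of_finite
    rw [c64 _ inf_le_right sur] at e4
    rw [F.card_J] at e3
    rw [F.S_card] at e2
    have e5 : Nat.card (T ⊓ M0 : Subgroup G) < Nat.card T := not_le.1 fun k => F.a_nd
      ((eq_of_le_of_card_ge inf_le_left k).ge (le F.aS)).2.2.1
    obtain ⟨n, hn⟩ := hT.isP.exists_card_eq
    have : 2 ^ 17 ∣ Nat.card T := hn ▸ pow_dvd_pow 2 ((Nat.pow_lt_pow_iff_right (a := 2) (by decide)).1 (by omega))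
    obtain ⟨a, ha⟩ : 4 ∣ F.S.relIndex T := by omega
    obtain ⟨b, hb⟩ := d
    rw [ha, hb, show 4 * a * (2 * b) = 8 * (a * b) by ring] at e1
    exact F.S_sylK.ndvd (by omega)⟩
  refine ⟨T, h, sy le sM (fun t ht hd => (in0 t ht hd).2.2) fun s hs hd e => ?_, fun c hc =>
    let ⟨t, ht, e⟩ := sur c hc; ⟨t, ht.1, ht.2.2.1, e⟩⟩
  have s0 := in0 s hs hd
  have key : ∀ l l', m9 (wd l) (wd l') = I9 → inC (m9 (m9 (wd l) (F.ρ s)) (wd l')) = true →
      ∃ m ∈ F.M, cj m s ∈ F.K := fun l l' e1 e2 => by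
    obtain ⟨m, hm, -, e⟩ := h.rz_wd F l
    obtain ⟨k, hk, -, e'⟩ := h.rz_wd F l'
    rw [← e, ← e', ← F.ρ_mul hm hk] at e1
    rw [← e, ← e', ← F.ρ_mul hm s0.1, ← F.ρ_mul (mul_mem hm s0.1) hk] at e2
    exact ⟨m, hm, by
      simpa [cj, mul_assoc] using mul_mem (F.inC_K (mul_mem (mul_mem hm s0.1) hk) e2)
        (inv_mem (F.JY_K ((F.ρ_ker (mul_mem hm hk)).1 e1)))⟩
  rcases (ck _ s0.2.2).2 with ((k | k) | k) | k
  · rw [iv, ← F.ρ_mul s0.1 s0.1, e] at k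
    exact absurd k (by decide)
  exacts [⟨1, one_mem _, by simpa [cj] using F.inC_K s0.1 k⟩, key _ _ ckT.2.2.2.2.2.1 k,
    key _ _ ckT.2.2.2.2.2.2 k]

end Fr

end Cfsg.Agent.FE
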