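import Cfsg.Agent.FE.Cls

/-! Computations with the 128 codes of `T`. -/

set_option autoImplicit false

namespace Cfsg.Agent.FE

namespace Sl

theorem cnt_card (n : ℕ) (f : ℕ → Bool) : {v | v < n ∧ f v = true}.ncard = cnt n f := by
  rw [show {v | v < n ∧ f v = true} = ↑((Finset.range n).filter (f · = true)) by ext; simp,
    Set.ncard_coe_finset]
  induction n with
  | zero => rfl
  | succ n ih =>
    rw [Finset.range_add_one, Finset.filter_insert, show cnt (n + 1) f = cond (f n) (cnt n f + 1) (cnt n f) from rfl]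
    cases f n <;> simp [ih]

theorem cnt_fin (n : ℕ) (f : ℕ → Bool) : {v | v < n ∧ f v = true}.Finite :=
  (Set.finite_lt_nat n).subset fun _ h => h.1

theorem le_cnt {s : Set ℕ} {n : ℕ} {f : ℕ → Bool} (h : ∀ v ∈ s, v < n ∧ f v = true) : s.ncard ≤ cnt n f :=
  cnt_card n f ▸ Set.ncard_le_ncard h (cnt_fin n f)

/-- the 128 codes -/
def tb (i : ℕ) : ℕ := cond (Nat.blt i 64) (T0.getD i 0) (m9 ab (T0.getD (i - 64) 0))

theorem le_tb {s : Set ℕ} {f : ℕ → Bool} (h : ∀ r ∈ s, (∃ j < 128, tb j = r) ∧ f r = true) :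
    s.ncard ≤ cnt 128 fun j => frc (tb j) f := by
  rw [← cnt_card]
  refine (Set.ncard_le_ncard (fun r hr => ?_) ((cnt_fin _ _).image tb)).trans (Set.ncard_image_le (cnt_fin _ _))
  obtain ⟨⟨j, hj, rfl⟩, e⟩ := h r hr
  exact ⟨j, ⟨hj, by rw [frc_eq, e]⟩, rfl⟩

def iv (r : ℕ) : Bool := Nat.beq (m9 r r) I9
def fx (r v : ℕ) : Bool := Nat.beq (ap9 r v) v
def inl (v : ℕ) : Bool := Nat.blt (v % 16) 4 && Nat.blt (v % 256) 64

theorem ck1 : al 128 (fun i => frc (tb i) fun f => !iv f || e16 f || (Nat.blt (cnt 512 (fx f)) 33 &&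
    Nat.blt (cnt 128 fun j => frc (tb j) fun r => iv r && Nat.beq (ap9 f (ap9 r 8)) (ap9 r (ap9 f 8))) 32 &&
    Nat.blt (cnt 128 fun j => frc (tb j) fun r => iv r && al 512 fun v => !fx f v || fx r v) 16)) = true := by
  decide +kernel

theorem ck2 : al 128 (fun i => frc (tb i) fun f => !e16 f || Nat.beq f I9 || (Nat.blt (cnt 512 (fx f)) 129 &&
    al 128 fun j => frc (tb j) fun r => !e16 r || Nat.beq r I9 || Nat.beq r f ||
      al 512 fun v => !(fx f v && fx r v) || inl v)) = true := by decide +kernel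

theorem ck3 : cnt 512 inl = 32 ∧ (cnt 128 fun j => frc (tb j) fun r => e16 r && !Nat.beq r f0) = 15 ∧
    m9 ab f0 ∉ T0 ∧ al 512 (fun v => !inl v || (Nat.beq (q9 v) 0 &&
      frc (8 * bt v 0 + 4 * bt v 1 + 128 * bt v 4 + 64 * bt v 5) fun u =>
        Nat.blt u 512 && Nat.beq ((ap9 f0 u ^^^ u) % 256) (v % 256))) = true := by decide +kernel

theorem ckS : Cl.alT (fun k => frc (bk k) fun y => T0.contains (act y)) = true := by decide +kernel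

/-- generators of `T0` -/
def gT (j : ℕ) : ℕ :=
  [1210112753430622417454081, 1211140871745306465928705, 1210315407004837348385793].getD j I9

def wT (l : List ℕ) : ℕ := l.foldr (fun j r => m9 (gT (j % 4)) r) I9

theorem ckT : (al 4 fun j => T0.all fun c => T0.contains (m9 (gT j) c)) = true ∧
    (T0.all fun c => Nat.beq (m9 I9 c) c && T0.contains (m9 (m9 ab c) ab) && (!iv c || inC c ||
      inC (m9 (m9 (wd [4]) c) (wd [4, 4])) || inC (m9 (m9 (wd [4, 3]) c) (wd [4, 3])))) = true ∧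
    T0.Nodup ∧ T0 = List.map wT [[], [0], [2, 0, 2], [2, 0, 2, 0], [0, 2, 0], [0, 2], [2], [2, 0],
      [2, 0, 1, 0, 2, 1], [2, 0, 1, 0, 2, 1, 0], [2, 1, 0, 2, 1], [2, 1, 0, 2, 1, 0], [0, 2, 1, 0, 1],
      [0, 2, 1, 0, 1, 0], [2, 1, 0, 1, 0], [2, 1, 0, 1], [2, 0, 1, 0, 2], [2, 0, 1, 0, 2, 0], [2, 0, 2, 1],
      [2, 0, 2, 1, 0], [1, 0, 2, 1, 0, 1], [1, 0, 2, 1, 0, 1, 0], [2, 0, 1, 0], [2, 0, 1], [2, 1, 0, 2],
      [2, 1, 0, 2, 0], [1, 0, 2, 0], [1, 0, 2], [2, 1], [2, 1, 0], [1], [1, 0], [2, 1, 0, 2, 0, 1, 0],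
      [2, 1, 0, 2, 0, 1], [1, 0, 2, 0, 1], [1, 0, 2, 0, 1, 0], [0, 1, 0, 2, 0, 1, 0], [0, 1, 0, 2, 0, 1],
      [2, 0, 1, 0, 2, 0, 1, 0], [2, 0, 1, 0, 2, 0, 1], [2, 0, 2, 1, 0, 1, 0], [2, 0, 2, 1, 0, 1], [1, 0, 2, 1, 0],
      [1, 0, 2, 1], [0, 1, 0, 2, 1], [0, 1, 0, 2, 1, 0], [1, 0, 1, 0], [1, 0, 1], [0, 2, 1, 0, 2, 0],
      [0, 2, 1, 0, 2], [0, 2, 1, 0], [0, 2, 1], [0, 1, 0, 2], [0, 1, 0, 2, 0], [0, 1, 0], [0, 1],
      [0, 2, 0, 1, 0, 2, 0], [0, 2, 0, 1, 0, 2], [2, 0, 2, 0, 1, 0], [2, 0, 2, 0, 1], [0, 2, 0, 1],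
      [0, 2, 0, 1, 0], [0, 1, 0, 2, 1, 0, 1, 0], [0, 1, 0, 2, 1, 0, 1]] ∧
    (al 4 fun j => Nat.beq (gT j) (wd ([[0], [1, 2, 0, 1], [4, 4, 1, 2, 4, 0, 1]].getD j []))) = true ∧
    m9 (wd [4]) (wd [4, 4]) = I9 ∧ m9 (wd [4, 3]) (wd [4, 3]) = I9 := by decide +kernel

theorem m9_assoc (a b c : ℕ) : m9 (m9 a b) c = m9 a (m9 b c) :=
  ext9 (m9_lt _ _) (m9_lt _ _) fun i hi => by rw [c9_m9 _ _ hi, c9_m9 _ _ hi, ap9_m9, c9_m9 _ _ hi]

theorem T0_mul {c e : ℕ} (hc : c ∈ T0) (he : e ∈ T0) : m9 c e ∈ T0 := by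
  rw [ckT.2.2.2.1, List.mem_map] at hc
  obtain ⟨l, -, rfl⟩ := hc
  induction l with
  | nil =>
    have := List.all_eq_true.1 ckT.2.1 e he
    simp only [Bool.and_eq_true, Nat.beq_eq] at this
    exact this.1.1.symm ▸ he
  | cons j l ih =>
    have := List.all_eq_true.1 (al_spec ckT.1 (Nat.mod_lt j (by decide))) _ ih
    rwa [List.contains_iff_mem, ← m9_assoc] at this

end Sl

end Cfsg.Agent.FE
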