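/-
Tables for `U₄(2)` acting on `J / ⟨z⟩`.
-/
import Cfsg.Agent.FE.Defs
import Cfsg.Agent.FE.BaseT

set_option autoImplicit false

namespace Cfsg.Agent.FE

theorem m9_assoc (a b c : ℕ) : m9 (m9 a b) c = m9 a (m9 b c) :=
  ext9 (m9_lt _ _) (m9_lt _ _) fun i hi => by rw [c9_m9 _ _ hi, c9_m9 _ _ hi, c9_m9 _ _ hi, ap9_m9]

theorem m9_I9 {r : ℕ} (h : r < 2 ^ 81) : m9 r I9 = r :=
  ext9 (m9_lt _ _) h fun i hi => by
    rw [c9_m9 _ _ hi, (by decide : ∀ i < 9, c9 I9 i = 2 ^ i) i hi, ap9_pow _ hi]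

/-- digits in base eight -/
noncomputable def wl (k : ℕ) : ℕ → List ℕ :=
  Nat.rec (fun _ => []) (fun _ r n => cond (Nat.beq n 0) [] ((n % 8 - 1) :: r (n / 8))) k

def W8 : List ℕ := [
  0, 0, 4, 8916, 84, 212, 20, 724, 2132, 276, 1812, 14420, 42772, 141076, 10004, 79956, 45, 5,
  579237, 644773, 22181, 186028, 54949, 120485, 2149, 5, 29, 14437, 669, 342117, 157, 79973, 44,
  80596, 37, 579244, 101, 229, 37, 741, 153253, 964780, 178348, 939685, 17053, 2205, 49821, 6301,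
  71340, 72404, 580308, 71333, 668, 299, 156, 811, 17052, 235, 43, 17195, 91313940, 28134100,
  90839764, 11356884, 684, 47828, 4, 1372, 677, 22188, 20, 348, 2774693, 9091237, 9899, 11027,
  2799788, 9066156, 1707, 2835, 1708, 2772, 92, 1260, 23252, 1701, 1116, 236, 344732, 5355,
  40548524, 6968997, 683, 47891, 6994092, 40523429, 172, 15060, 12, 5468, 44, 860, 165, 54956,
  677541, 5159084, 42667, 43795, 5803, 6931, 702636, 5133989, 5804, 6868, 28, 2789, 1884, 212,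
  56020, 5797, 82588, 1259, 59422885, 23746213, 23771308, 59397804, 171, 15123, 17068, 0, 178341,
  15197, 2799781, 13587, 702629, 46355, 17061, 276, 153260, 363, 2774700, 5483, 677548, 1387, 2220,
  268, 117460, 2797, 2738900, 43757, 641748, 10989, 45, 2213, 1885, 120596, 42845, 2742036, 10077,
  644884, 14508, 1804, 19156, 15085, 43091, 5065428, 10323, 21842644, 22292, 349, 14501, 237, 17067,
  21845780, 49835, 5068564, 115372, 3, 137940, 2909, 5395, 6994085, 1299, 23771301, 1899, 178260,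
  1812, 115365, 23746220, 2219, 6969004, 6315, 342188, 42764, 6227, 36522708, 346836, 342765, 71763,
  2968276, 349972, 5469, 46429, 2971412, 342181, 5357, 136429, 36525844, 1128620, 83, 787, 40982292,
  1136404, 43869, 8979, 7427860, 42859, 1133268, 7424724, 55453, 42772, 1128613, 40979156, 17645,
  80044, 9996, 2131, 170740436, 333907, 871124, 84692, 80621, 87828, 1373, 13661, 874260, 82603,
  170743572, 80037, 1261, 639660, 19, 275, 175200020, 41747, 6953684, 662228, 11101, 10091, 702548,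
  6994004, 22685, 90855077, 10411, 10004, 639653]

theorem tr8_tab : (al 256 fun v => Nat.beq v 0 || al 2 fun e =>
    Nat.beq (ap9 (wd (wl 10 (W8.getD v 0))) (v + 256 * e) % 256)
      (if q9 (v + 256 * e) = 0 then 1 else 129)) = true := by decide +kernel

theorem tr8_wd {v : ℕ} (hv : v < 512) (v0 : v % 256 ≠ 0) :
    ∃ l, ap9 (wd l) v % 256 = if q9 v = 0 then 1 else 129 := by
  have := al_spec tr8_tab (Nat.mod_lt v (by decide))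
  rw [Bool.or_eq_true, Nat.beq_eq] at this
  have := al_spec (this.resolve_left v0) (i := v / 256) (by omega)
  rw [Nat.mod_add_div, Nat.beq_eq] at this
  exact ⟨_, this⟩

theorem inv0_tab : ∀ c ∈ T0, m9 c c = I9 → c = I9 ∨ ∃ l ∈ [[3], [3, 1, 2, 4, 0, 1],
    [1, 2, 4, 2, 1, 3], [1, 2, 4, 2, 1, 3, 1, 0], [1, 2, 4, 2, 1, 3, 1],
    [1, 2, 4, 0, 1, 3, 1, 2, 4, 0, 1], [1, 2, 0, 1], [3, 1, 2, 4, 2, 1], [1, 2, 4, 0, 1, 3],
    [1, 2, 4, 0, 1, 3, 1, 2, 4], [1, 2, 4, 0, 1, 3, 1, 0], [1, 2, 4, 0, 1, 3, 1, 2, 0],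
    [1, 2, 0, 1, 3, 1], [1, 2, 4, 2, 1, 3, 1, 2, 0, 1], [1, 2, 4, 2, 1, 3, 1, 2],
    [1, 2, 4, 2, 1, 3, 1, 2, 0], [1, 2, 4, 0, 1, 3, 1, 2, 0, 1], [1, 2, 0, 1, 3],
    [1, 2, 4, 0, 1, 3, 1, 2], [1, 2, 0, 1, 3, 1, 0], [1, 2, 4, 0, 1, 3, 1, 2, 4, 0],
    [1, 2, 4, 0, 1, 3, 1]],
    (c ∈ tau ∧ m9 (wd l) c = m9 t0 (wd l)) ∨ m9 (wd l) c = m9 f0 (wd l) := by decide +kernel

theorem inv1_tab : ∀ c ∈ T0, m9 (m9 ab c) (m9 ab c) = I9 → ∃ l ∈ [[], [3], [4, 3, 2, 4],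
    [4, 3, 2, 4, 1, 0], [4, 3, 1, 2, 4, 0, 1, 0], [4, 3, 1, 2, 4, 2, 1, 0], [4, 4, 2, 4, 1],
    [4, 3, 2, 4, 1, 2, 0, 1], [4, 4, 2, 4], [3, 1, 2, 0, 1], [4, 3, 1, 2, 4, 2, 1],
    [4, 4, 2, 4, 1, 0], [4, 3, 1, 2, 4, 0, 1]],
    ∃ r ∈ [ab, m9 ab t0], m9 (wd l) (m9 ab c) = m9 r (wd l) := by decide +kernel

theorem nine_tab : ∀ v < 512, ap9 t0 v = v → q9 v = 0 → ∃ l ∈ [[], [1, 0], [1], [4], [4, 4],
    [4, 1, 0], [4, 4, 1, 0], [4, 1], [4, 4, 1]], m9 (wd l) t0 = m9 t0 (wd l) ∧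
      ap9 (wd l) v % 256 ∈ [0, 1, 2, 3, 16, 17, 18, 19] := by decide +kernel

theorem o2_tab : ∀ c ∈ T0, ∀ e ∈ T0, m9 (wd [3, 1, 3, 1]) c = m9 e (wd [3, 1, 3, 1]) → c = I9 := by
  decide +kernel

theorem tau_tab : ∀ c ∈ tau, c ∈ T0 ∧ ∃ l ∈ [[3], [1, 2, 4, 2, 1, 3], [4, 1, 2, 0, 1, 3], [],
    [1, 2, 0, 1, 3]], m9 (wd l) t0 = m9 c (wd l) := by decide +kernel

theorem pair_tab : ∀ c ∈ tau, ∀ e ∈ tau, c ≠ e → ∃ l ∈ [[1, 2, 4, 2, 1, 3], [1, 2, 4, 0, 1, 3], [3],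
    [1, 2, 0, 1, 3], [3, 1, 2, 4, 2, 1, 3], [1, 2, 4, 0, 1, 3, 1, 2, 4, 0, 1], [3, 1, 2, 4, 0, 1],
    [3, 1, 2, 4, 0, 1, 3, 1, 2, 0, 1], [3, 1, 2, 4, 0, 1, 3], [1, 2, 4, 0, 1, 3, 1, 2, 4, 2, 1],
    [3, 1, 2, 4, 2, 1], [1, 2, 0, 1, 3, 1, 2, 4, 2, 1], [], [1, 2, 4, 0, 1], [1, 2, 4, 2, 1],
    [1, 2, 0, 1], [3, 1, 2, 0, 1, 3], [1, 2, 4, 0, 1, 3, 1, 2, 0, 1],
    [1, 2, 4, 2, 1, 3, 1, 2, 0, 1], [3, 1, 2, 0, 1]],
    m9 (wd l) c = m9 t0 (wd l) ∧ m9 (wd l) e = m9 (gn 0) (wd l) := by decide +kernel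

/-- words in a list of codes -/
def wg (L l : List ℕ) : ℕ := l.foldr (fun i r => m9 (L.getD i I9) r) I9

theorem wg_ind {p : ℕ → Prop} (h1 : p I9) (hm : ∀ r s, p r → p s → p (m9 r s)) {L : List ℕ}
    (hL : ∀ c ∈ L, p c) (l : List ℕ) : p (wg L l) := by
  induction l with
  | nil => exact h1
  | cons i l ih =>
    refine hm _ _ ?_ ih
    rcases lt_or_ge i L.length with h | h
    · rw [List.getD_eq_getElem _ _ h]; exact hL _ (List.getElem_mem h)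
    · rwa [List.getD_eq_default _ _ h]

/-- five transvections that generate `U₄(2)` -/
def tvs : List ℕ := [gn 0, gn 1, gn 2, 1209074547623419593098248, 1210019539382846738086760]

theorem tvs_tab : (∀ c ∈ tvs, c < 2 ^ 81 ∧ ∃ l ∈ [[3], [0, 1, 3], [1, 2, 0, 1, 3], [3, 1, 3],
    [4, 1, 3, 2, 0, 1, 3]], m9 (wd l) t0 = m9 c (wd l)) ∧ ∀ i < 5, ∃ l ∈ [[0], [1], [2],
      [4, 2, 3, 0, 1, 2, 0, 4], [4, 1, 2, 4, 3, 2, 0, 4, 1, 2, 3, 0, 1, 2, 1]], wg tvs l = gn i := by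
  decide +kernel

theorem genT_tab : wg [gn 0, gn 1, gn 2, gn 3, 1210596701837526264194049]
    [4, 3, 1, 4, 1, 3, 2, 0, 4, 3] = gn 4 ∧ 1210596701837526264194049 ∈ T0 := by decide +kernel

/-- the orbit of `w` -/
def Om (v : ℕ) : Bool := Nat.testBit
  0x800129684698100152a40401a85401013c42c38200210011000900050003000016684001200189980801a1a40201545400810041cc123322f0060f0a00fcfffe v

theorem Om_tab : (∀ i < 5, ∀ v < 512, Om (ap9 (gn i) v) = Om v) ∧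
    (∀ v < 512, Om v = true → q9 v = 0 ∧ v % 256 ≠ 0) ∧
    (∀ v < 512, q9 v = 0 → v % 256 ≠ 0 → Om v = true ∨ Om (v ^^^ 256) = true) ∧
    ∀ v < 512, v % 256 = 1 → v = if Om v = true then 1 else 257 := by decide +kernel

/-- the line `⟨1, 2, 16, 32⟩` -/
def lb (u : ℕ) : Prop := u &&& 204 = 0

instance : DecidablePred lb := fun u => inferInstanceAs (Decidable (u &&& 204 = 0))

theorem lb_tab : (∀ u < 512, lb u → ∃ c ∈ tau, ∃ v < 256, (ap9 c v ^^^ v) % 256 = u % 256) ∧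
    (∀ u < 512, (∀ v ∈ [1, 2, 16, 32], B9 u v = 0) → lb u) ∧
    (∀ u < 512, (ap9 f0 u ^^^ u) % 256 = 0 → lb u) ∧
    (∀ u < 512, u % 256 ∈ [0, 1, 2, 3, 16, 17, 18, 19] → lb u) ∧
    (∀ u < 512, (∀ v ∈ [1, 2, 4, 16, 32, 64], B9 v u = 0) → u % 256 ∈ [0, 1, 16, 17]) ∧
    ∀ c ∈ T0, e16 c = true → c = I9 ∨ ∃ a ∈ tau, c = a ∨ ∃ b ∈ tau, c = m9 a b := by
  decide +kernel

def tim (c : ℕ) : List ℕ := [[0, 2, 288, 290], [0, 18, 35, 49], [0, 19, 33, 50], [0, 1, 272, 273],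
  [0, 3, 304, 307]].getD (tau.idxOf c) []

theorem tim_tab : (∀ c ∈ tau, ∀ v < 512, ap9 c v ^^^ v ∈ tim c) ∧
    (∀ c ∈ tau, ∀ e ∈ tau, c ≠ e → ∀ u ∈ tim c, u ∈ tim e → u = 0) ∧
    (∀ c ∈ tau, ∀ e ∈ tau, m9 c e = m9 e c) ∧
    ∀ a ∈ tau, ∀ b ∈ tau, ∀ c ∈ tau, ∀ e ∈ tau, m9 (m9 a b) (m9 c e) = I9 →
      a = b ∨ (a = c ∧ b = e) ∨ (a = e ∧ b = c) := by decide +kernel

theorem fJ_tab : (al 512 fun v => al 2 fun e => !isD (mm (mm cx g1) (jc v e))) = true := by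
  decide +kernel

theorem pr_tab : (al 512 fun v => al 2 fun e => !isD (mm g1 (jc v e)) ||
    [one, cw, jc 272 0, jc 273 1].all fun b => Nat.beq (ty (mm (mm cx b) (mm g1 (jc v e)))) 5) =
    true := by decide +kernel

end Cfsg.Agent.FE
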