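/-
The case `M / J C(J) = W(E₆)`: the action on `J`, the class of `d`.
-/
import Cfsg.Agent.FE.Cls
import Cfsg.Agent.FE.TwoT

set_option autoImplicit false
set_option linter.unusedSectionVars false

namespace Cfsg.Agent.FE

open Subgroup H42

universe u

theorem card_le_two_mul {G : Type u} [Group G] [Finite G] {T : Subgroup G} {u u' : G}
    (h : ∀ t ∈ T, cj t u = u ∨ cj t u = u') :
    Nat.card T ≤ 2 * Nat.card (T ⊓ centralizer {u} : Subgroup G) := by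
  rw [← card_mul_relIndex (inf_le_left : T ⊓ centralizer {u} ≤ T), mul_comm, inf_relIndex_left,
    relIndex_eq_ncard (fun t => cj t u) fun a _ b _ => by
      rw [mem_cen, ← cj_eq, ← cj_cj, ← cj_inj (g := a) (y := u), cj_inv', eq_comm]]
  refine Nat.mul_le_mul_right _ ((Set.ncard_le_ncard (t := {u, u'}) ?_).trans
    ((Set.ncard_insert_le _ _).trans (by simp)))
  rintro _ ⟨t, ht, rfl⟩
  exact h t ht

namespace Fr

variable {G : Type u} [Group G] [Finite G] (F : Fr G)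

theorem ρ_cj {m t : G} (hm : m ∈ F.M) (ht : t ∈ F.M) {r : ℕ} (hr : r < 2 ^ 81)
    (h : m9 (F.ρ m) (F.ρ t) = m9 r (F.ρ m)) : F.ρ (cj m t) = r := by
  rw [cj, F.ρ_mul (mul_mem hm ht) (inv_mem hm), F.ρ_mul hm ht, h, m9_assoc,
    ← F.ρ_mul hm (inv_mem hm), mul_inv_cancel, F.ρ_one, m9_I9 hr]
theorem ρ_cj' {m t : G} (hm : m ∈ F.M) (ht : t ∈ F.M) :
    m9 (F.ρ m) (F.ρ t) = m9 (F.ρ (cj m t)) (F.ρ m) := by
  rw [← F.ρ_mul hm ht, ← F.ρ_mul (cj_mem hm ht) hm, cj, inv_mul_cancel_right]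
theorem ρ_cjY {y t : G} (hy : y ∈ F.Y) (ht : t ∈ F.M) : F.ρ (cj y t) = F.ρ t := by
  rw [cj, F.ρ_mul_I (mul_mem (F.Y_M hy) ht) (inv_mem (F.Y_M hy)) (F.ρ_Y (inv_mem hy)),
    F.ρ_I_mul ht (F.Y_M hy) (F.ρ_Y hy)]
theorem xM : F.x ∈ F.M := F.S_M F.xS
theorem D_d : F.D F.d := ⟨1, by simp [cj]⟩
theorem D_dz : F.D (F.d * F.z) := ⟨_, F.ad⟩
variable {F} in
theorem D.cj {e : G} (h : F.D e) (k : G) : F.D (cj k e) := h.elim fun g e => ⟨k * g, by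
  rw [← cj_cj, e]⟩
variable {F} in
theorem D.of_cj {e k : G} (h : F.D (FE.cj k e)) : F.D e := cj_inv k e ▸ h.cj k⁻¹
variable {F} in
theorem D.sq {e : G} (h : F.D e) : e * e = 1 := h.elim fun _ e => e ▸ cj_sq F.dd
variable {F} in
theorem D.ne {e : G} (h : F.D e) : e ≠ 1 := h.elim fun _ e h => F.d_ne (cj_eq_one.1 (e.trans h))
theorem cj_J_iff {m j : G} (hm : m ∈ F.M) : cj m j ∈ F.J ↔ j ∈ F.J :=
  (mem_normalizer_iff.1 hm j).symm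
theorem x_nJ : F.x ∉ F.J := fun h => absurd (F.κx ▸ (F.mem_J.1 h).2) (by decide +kernel)
theorem cj_Z {m t : G} (hm : m ∈ F.M) (hd : Commute m F.d) : F.inZ (cj m t) ↔ F.inZ t := by
  refine ⟨fun h => ?_, fun h => by rwa [cj_eq.2 (h.comm (F.M_z hm) hd)]⟩
  rwa [← cj_inv m t, cj_eq.2 (h.comm (F.M_z hm) hd).inv_left]
theorem Z_of_π {j k : G} (hj : j ∈ F.J) (hk : k ∈ F.J) (e : F.π j % 256 = F.π k % 256) :
    F.inZ (j⁻¹ * k) := by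
  rw [← F.π_Z (mul_mem (inv_mem hj) hk), F.π_mul (inv_mem hj) hk, F.π_inv hj]
  exact (Nat.xor_mod_two_pow (n := 8)).trans (by rw [show 2 ^ 8 = 256 from rfl, e, Nat.xor_self])
theorem π_eq {j k : G} (hj : j ∈ F.J) (hk : k ∈ F.J) (e : F.π j = F.π k) :
    j = k ∨ j = k * F.z := by
  have : F.π (k⁻¹ * j) = 0 := by rw [F.π_mul (inv_mem hk) hj, F.π_inv hk, e, Nat.xor_self]
  exact ((F.π_zero (mul_mem (inv_mem hk) hj)).1 this).imp (fun h => (inv_mul_eq_one.1 h).symm)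
    inv_mul_eq_iff_eq_mul.1
theorem tg1 : tri g1 = true := by decide +kernel
/-- a second transposition -/
def x1 : G := F.ι g1
theorem x1S : F.x1 ∈ F.S := F.ι_mem _ tg1
theorem κx1 : F.κ F.x1 = g1 := F.κ_ι _ tg1
theorem ρx1 : F.ρ F.x1 = gn 0 :=
  F.ρ_rel (F.S_le F.x1S) (F.S_M F.x1S) (by rw [F.κx1]; decide +kernel)
theorem ρf : F.ρ (F.x * F.x1) = f0 := by
  rw [F.ρ_mul F.xM (F.S_M F.x1S), F.ρx, F.ρx1]; decide +kernel
theorem D_of {s : G} (hs : s ∈ F.S) (h : isD (F.κ s) = true) : F.D s := by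
  rcases F.Dx hs h with rfl | rfl | ⟨m, -, -, rfl⟩
  exacts [F.D_d, F.D_dz, F.D_x.cj m]
theorem D_x1 : F.D F.x1 := F.D_of F.x1S (by rw [F.κx1]; decide +kernel)
theorem κ_J {j : G} (hj : j ∈ F.J) : ∃ v < 512, ∃ e < 2, F.κ j = jc v e :=
  ⟨_, pc_lt _, _, Nat.mod_lt _ two_pos, isJ_eq (F.mem_J.1 hj).2⟩

namespace Two

variable {F} {g : G} {T : Subgroup G} (h : F.Two g T)
include h

theorem J_T : F.J ≤ T := F.J_le.trans h.sy.le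
theorem T_pow {t : G} (ht : t ∈ T) : ∃ n, t ^ 2 ^ n = 1 := by
  obtain ⟨n, e⟩ := h.sy.syl.isP ⟨t, ht⟩
  exact ⟨n, congrArg Subtype.val e⟩

theorem tr8 {v : ℕ} (hv : v < 512) (v0 : v % 256 ≠ 0) : ∃ m ∈ F.M, Commute m F.d ∧
    ap9 (F.ρ m) v % 256 = if q9 v = 0 then 1 else 129 := by
  obtain ⟨l, e⟩ := tr8_wd hv v0
  obtain ⟨m, hm, hd, e'⟩ := h.tw.rz_wd F l
  exact ⟨m, hm, hd, e' ▸ e⟩

theorem inv0' {t : G} (ht : t ∈ T) (hd : Commute t F.d) (tt : F.ρ (t * t) = I9) :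
    F.ρ t = I9 ∨ ∃ m ∈ F.M, Commute m F.d ∧
      ((F.ρ t ∈ tau ∧ F.ρ (cj m t) = t0) ∨ F.ρ (cj m t) = f0) := by
  have hM := h.sy.leM ht
  refine (inv0_tab _ (h.sy.in0 t ht hd) (F.ρ_mul hM hM ▸ tt)).imp_right ?_
  rintro ⟨l, -, e⟩
  obtain ⟨m, hm, hd, e'⟩ := h.tw.rz_wd F l
  rw [← e'] at e
  exact ⟨m, hm, hd, e.imp (fun e => ⟨e.1, F.ρ_cj hm hM (by decide) e.2⟩)
    (F.ρ_cj hm hM (by decide))⟩

theorem inv0 {t : G} (ht : t ∈ T) (hd : Commute t F.d) (tt : F.ρ (t * t) = I9) :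
    ∃ m ∈ F.M, Commute m F.d ∧ F.ρ (cj m t) ∈ [I9, t0, f0] := by
  rcases h.inv0' ht hd tt with e | ⟨m, hm, hd, e | e⟩
  · exact ⟨1, one_mem _, .one_left _, by simp [cj, e]⟩
  · exact ⟨m, hm, hd, by simp [e.2]⟩
  · exact ⟨m, hm, hd, by simp [e]⟩

theorem inv1 {t : G} (ht : t ∈ T) (hd : ¬ Commute t F.d) (tt : F.ρ (t * t) = I9) :
    ∃ m ∈ F.M, Commute m F.d ∧ F.ρ (cj m t) ∈ [ab, m9 ab t0] := by
  have hM := h.sy.leM ht
  have e : m9 ab (m9 ab (F.ρ t)) = F.ρ t := by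
    rw [← F.ρa, ← F.ρ_mul F.aM hM, ← F.ρ_mul F.aM (mul_mem F.aM hM), ← mul_assoc, F.aa, one_mul]
  obtain ⟨l, -, r, hr, e'⟩ := inv1_tab _ (h.sy.in1 t ht hd) (by rw [e, ← F.ρ_mul hM hM, tt])
  obtain ⟨m, hm, hd, e2⟩ := h.tw.rz_wd F l
  rw [e, ← e2] at e'
  rw [← F.ρ_cj hm hM ((by decide +kernel : ∀ r ∈ [ab, m9 ab t0], r < 2 ^ 81) r hr) e'] at hr
  exact ⟨m, hm, hd, hr⟩

theorem toT {s t : G} (hs : s ∈ F.M) {n : ℕ} (s2 : s ^ 2 ^ n = 1) (ht : t ∈ T)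
    (e : F.ρ s = F.ρ t) : ∃ y ∈ F.Y, ∃ j ∈ F.J, cj y s = t * j := by
  have hM := h.sy.leM ht
  have l : F.J ⊔ F.Y ≤ T ⊔ F.Y := sup_le_sup_right h.J_T _
  obtain ⟨k, hk, c⟩ := (h.sy.syl.of_le le_sup_left le_top).exists_conj (two_zp s2) (zpowers_le.2
    ((mul_mem_cancel_left (inv_mem (mem_sup_left ht))).1 (l ((F.ρ_eq hM hs).1 e.symm))))
  obtain ⟨q, hq, y, hy, rfl⟩ := exists_mul_of_mem_sup (h.sy.leM.trans F.M_NY) hk
  have c : cj y s ∈ T := by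
    have := cj_mem (inv_mem hq) (c s (mem_zpowers s))
    rwa [← cj, ← cj_cj, cj_inv] at this
  refine ⟨y, hy, t⁻¹ * cj y s, h.sy.TJ _ (mul_mem (inv_mem ht) c) ?_, by simp⟩
  rw [F.ρ_ker (h.sy.leM (mul_mem (inv_mem ht) c)), ← F.ρ_eq hM (h.sy.leM c), F.ρ_cjY hy hs, e]

theorem nine {v : ℕ} (hv : v < 512) (hx : ap9 t0 v = v) (hq : q9 v = 0) :
    ∃ m ∈ F.M, Commute m F.d ∧ m9 (F.ρ m) t0 = m9 t0 (F.ρ m) ∧
      ap9 (F.ρ m) v % 256 ∈ [0, 1, 2, 3, 16, 17, 18, 19] := by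
  obtain ⟨l, -, e⟩ := nine_tab v hv hx hq
  obtain ⟨m, hm, hd, e'⟩ := h.tw.rz_wd F l
  exact ⟨m, hm, hd, e' ▸ e⟩

theorem genρ {P : Subgroup G} (hJ : F.J ≤ P) (hY : F.Y ≤ P)
    (hg : ∀ i < 5, ∃ p ∈ P, p ∈ F.M ∧ F.ρ p = gn i) : F.M ⊓ F.Cd ≤ P := by
  have k : ∀ n ∈ F.M, ∀ i < 5, F.ρ n = gn i → n ∈ P := fun n hn i hi e => by
    obtain ⟨p, hp, hm, e'⟩ := hg i hi
    exact (mul_mem_cancel_left (inv_mem hp)).1
      (sup_le hJ hY ((F.ρ_eq hm hn).1 (e'.trans e.symm)))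
  have k0 : F.K0 ≤ P := F.gen0 hJ (F.OM_Y.trans hY) fun n hn e => by
    obtain ⟨i, hi, e⟩ := (by decide +kernel : ∀ c ∈ [g1, g2, g3, g4], ∃ i < 5,
      rel c (gn i) = true) _ e
    exact k n hn.1.2 i hi (F.ρ_rel hn.1.1 hn.1.2 e)
  intro m hm
  obtain ⟨c, hc, e⟩ := h.tw.dec m hm.1
  obtain ⟨n, hn, y, hy, e'⟩ := F.K_dec e
  have cd : c ∈ F.Cd := sup_le inf_le_right (zpowers_le.2 (mem_cen.2 h.tw.cd)) hc
  have nd : n ∈ F.Cd := by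
    rw [← mul_mem_cancel_right (mem_cen.2 (F.Y_cen hy F.dJ)), ← e']
    exact F.Cd.mul_mem (inv_mem cd) hm.2
  rw [← mul_mem_cancel_left (inv_mem (sup_le k0 (zpowers_le.2 (k g h.tw.mem 4 (by decide) h.tw.ρg))
    hc)), e']
  exact mul_mem (k0 ⟨hn, nd⟩) (hY hy)

theorem genD {P : Subgroup G} (hJ : F.J ≤ P) (hY : F.Y ≤ P)
    (hD : ∀ e, F.D e → e ∈ F.M → Commute e F.d → ¬ F.inZ e → e ∈ P) : F.M ⊓ F.Cd ≤ P := by
  refine h.genρ hJ hY fun i hi => ?_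
  obtain ⟨l, -, e⟩ := tvs_tab.2 i hi
  rw [← e]
  refine wg_ind (p := fun r => ∃ p ∈ P, p ∈ F.M ∧ F.ρ p = r) ⟨1, one_mem _, one_mem _, F.ρ_one⟩
    ?_ (fun c hc => ?_) l
  · rintro _ _ ⟨p, hp, hm, rfl⟩ ⟨q, hq, hm', rfl⟩
    exact ⟨_, mul_mem hp hq, mul_mem hm hm', F.ρ_mul hm hm'⟩
  · obtain ⟨lt, l, -, e⟩ := tvs_tab.1 c hc
    obtain ⟨m, hm, hd, e'⟩ := h.tw.rz_wd F l
    exact ⟨_, hD _ (F.D_x.cj m) (cj_mem hm F.xM) ((F.cj_nd hm F.xM).2 F.xd)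
      fun h => F.x_nJ ((F.cj_J_iff hm).1 h.mem), cj_mem hm F.xM,
      F.ρ_cj hm F.xM lt (by rw [e', F.ρx, e])⟩

theorem genT {P : Subgroup G} (h1 : F.K ≤ P) (h2 : T ≤ P) : F.M ≤ P := by
  have k : ∀ i < 4, ∃ p ∈ P, p ∈ F.M ∧ F.ρ p = gn i := fun i hi => by
    obtain ⟨n, hn, -, e⟩ := F.rz_gn hi
    exact ⟨n, h1 (mem_sup_left hn.1), hn.1.2, e⟩
  have : F.M ⊓ F.Cd ≤ P := by
    refine h.genρ (h.J_T.trans h2) (le_sup_right.trans h1) fun i hi => ?_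
    rcases Nat.lt_succ_iff_lt_or_eq.1 hi with hi | rfl
    · exact k i hi
    rw [← genT_tab.1]
    refine wg_ind (p := fun r => ∃ p ∈ P, p ∈ F.M ∧ F.ρ p = r) ⟨1, one_mem _, one_mem _, F.ρ_one⟩
      ?_ (fun c hc => ?_) _
    · rintro _ _ ⟨p, hp, hm, rfl⟩ ⟨q, hq, hm', rfl⟩
      exact ⟨_, mul_mem hp hq, mul_mem hm hm', F.ρ_mul hm hm'⟩
    · simp only [List.mem_cons, List.not_mem_nil, or_false] at hc
      rcases hc with rfl | rfl | rfl | rfl | rfl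
      iterate 4 exact k _ (by decide)
      obtain ⟨t, ht, -, e⟩ := h.sur _ genT_tab.2
      exact ⟨t, h2 ht, h.sy.leM ht, e⟩
  intro m hm
  by_cases hd : Commute m F.d
  · exact this ⟨hm, mem_cen.2 hd⟩
  · exact (mul_mem_cancel_left (h2 (h.sy.le F.aS))).1
      (this ⟨mul_mem F.aM hm, mem_cen.2 (F.a_mul_d hm hd)⟩)

theorem o2 {P : Subgroup G} (hP : IsPGroup 2 P) (h1 : P ≤ F.M ⊓ F.Cd)
    (h2 : ∀ m ∈ F.M, Commute m F.d → ∀ p ∈ P, cj m p ∈ P) : P ≤ F.J := by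
  obtain ⟨k, hk, c⟩ := (h.sy.sylR.of_le (inf_le_inf_right _ h.sy.leM) inf_le_right).exists_conj
    hP h1
  have l : P ≤ T ⊓ F.Cd := fun p hp => by
    have := c _ (h2 _ (inv_mem hk.1) (mem_cen.1 hk.2).inv_left p hp)
    rwa [← cj, cj_inv'] at this
  intro p hp
  obtain ⟨m, hm, hd, e⟩ := h.tw.rz_wd F [3, 1, 3, 1]
  have hq := l (h2 m hm hd p hp)
  refine h.sy.TJ p (l hp).1 (o2_tab _ (h.sy.in0 p (l hp).1 (mem_cen.1 (l hp).2)) _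
    (h.sy.in0 _ hq.1 (mem_cen.1 hq.2)) ?_)
  rw [← e, F.ρ_cj' hm (h1 hp).1]

theorem Om_ρ {m : G} (hm : m ∈ F.M) (hd : Commute m F.d) {j : G} (hj : j ∈ F.J) :
    Om (F.π (cj m j)) = Om (F.π j) := by
  let P : Subgroup G :=
    { carrier := {m | m ∈ F.M ∧ ∀ j ∈ F.J, Om (F.π (cj m j)) = Om (F.π j)}
      one_mem' := ⟨one_mem _, fun j _ => by simp [cj]⟩
      mul_mem' := fun {a b} ha hb => ⟨mul_mem ha.1 hb.1, fun j hj => by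
        rw [← cj_cj, ha.2 _ (cj_nm hb.1 hj), hb.2 j hj]⟩
      inv_mem' := fun {a} ha => ⟨inv_mem ha.1, fun j hj => by
        rw [← ha.2 _ (cj_nm (inv_mem ha.1) hj), cj_inv']⟩ }
  have k : ∀ m ∈ F.M, F.ρ m = I9 → m ∈ P := fun m hm e => ⟨hm, fun j hj => by
    rw [F.ρ_ap hm hj, e, ap9_I9 (F.π_lt j)]⟩
  refine (h.genρ (P := P) (fun j hj => k j (F.J_M hj) (F.ρ_J hj))
    (fun y hy => k y (F.Y_M hy) (F.ρ_Y hy)) (fun i hi => ?_) ⟨hm, mem_cen.2 hd⟩).2 j hj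
  obtain ⟨m, hm, -, e⟩ := h.tw.rz_wd F [i]
  rw [(by decide +kernel : ∀ i < 5, wd [i] = gn i) i hi] at e
  exact ⟨m, ⟨hm, fun j hj => by rw [F.ρ_ap hm hj, e, Om_tab.1 i hi _ (F.π_lt j)]⟩, hm, e⟩

/-- singular vectors -/
theorem Jw {j : G} (hj : j ∈ F.J) (jj : j * j = 1) (n : ¬ F.inZ j) : ∃ m ∈ F.M, Commute m F.d ∧
    F.π (cj m j) = if Om (F.π j) = true then 1 else 257 := by
  obtain ⟨m, hm, hd, e⟩ := h.tr8 (F.π_lt j) fun e => n ((F.π_Z hj).1 e)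
  have q : q9 (F.π j) = 0 := by
    by_contra q
    exact F.z_ne ((if_neg q).symm.trans ((F.sq_J hj).symm.trans jj))
  rw [if_pos q, ← F.ρ_ap hm hj] at e
  exact ⟨m, hm, hd, h.Om_ρ hm hd hj ▸ Om_tab.2.2.2 _ (F.π_lt _) e⟩

theorem Jz1 {j : G} (hj : j ∈ F.J) (o : Om (F.π j) = true) : ∃ k ∈ F.N ⊔ F.M, cj k F.z = j := by
  obtain ⟨q, n⟩ := Om_tab.2.1 _ (F.π_lt j) o
  obtain ⟨m, hm, -, e⟩ := h.Jw hj ((F.sq_J hj).trans (if_pos q)) fun e => n ((F.π_Z hj).2 e)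
  obtain ⟨v, hv, v0, e⟩ : ∃ v < 64, v ≠ 0 ∧ cj m j = F.av v := by
    rcases F.π_eq (cj_nm hm hj) F.wJ (by rw [e, if_pos o, F.πw]) with e | e
    · exact ⟨2, by decide, by decide, e.trans F.w_av⟩
    · exact ⟨2 ^^^ 1, by decide, by decide, by
        rw [e, F.w_av, F.z_av, F.av_xor _ (by decide) _ (by decide)]⟩
  obtain ⟨n, hn, e'⟩ := F.trA hv v0
  exact ⟨m⁻¹ * n, mul_mem (mem_sup_right (inv_mem hm)) (mem_sup_left hn), by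
    rw [← cj_cj, e', ← e, cj_inv]⟩

theorem Jz {j : G} (hj : j ∈ F.J) (jj : j * j = 1) (n : ¬ F.inZ j) :
    (∃ k ∈ F.N ⊔ F.M, cj k F.z = j) ∨ ∃ k ∈ F.N ⊔ F.M, cj k F.z = j * F.d := by
  have q : q9 (F.π j) = 0 := by
    by_contra q
    exact F.z_ne ((if_neg q).symm.trans ((F.sq_J hj).symm.trans jj))
  refine (Om_tab.2.2.1 _ (F.π_lt j) q fun e => n ((F.π_Z hj).1 e)).imp (h.Jz1 hj) fun o => ?_
  exact h.Jz1 (mul_mem hj F.dJ) (by rwa [F.π_mul hj F.dJ, F.πd])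

theorem nD {k s : G} (e : cj k F.z = s) : ¬ F.D s := fun hs => h.sy.nd (e ▸ hs).of_cj

theorem nD_dw : ¬ F.D (F.d * F.w) := by
  rintro ⟨k, e⟩
  have hu := mul_mem F.dJ F.wJ
  have πu : F.π (F.d * F.w) = 257 := by rw [F.π_mul F.dJ F.wJ, F.πd, F.πw]; rfl
  let U := T ⊓ centralizer {F.d * F.w}
  have c1 : Nat.card T ≤ 2 * Nat.card U := card_le_two_mul (u' := F.d * F.w * F.z) fun t ht => by
    refine F.π_eq (cj_nm (h.sy.leM ht) hu) hu ?_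
    rw [F.ρ_ap (h.sy.leM ht) hu, πu]
    by_cases hd : Commute t F.d
    · exact (by decide +kernel : ∀ c ∈ T0, ap9 c 257 = 257) _ (h.sy.in0 t ht hd)
    · have := (by decide +kernel : ∀ c ∈ T0, ap9 c 257 = 257) _ (h.sy.in1 t ht hd)
      rw [ap9_m9] at this
      exact (by decide +kernel : ∀ v < 512, ap9 ab v = 257 → v = 257) _ (ap9_lt _ _) this
  have c2 : 2 * Nat.card (T ⊓ F.Cd : Subgroup G) ≤ Nat.card T := by
    rw [← card_mul_relIndex (inf_le_left : T ⊓ F.Cd ≤ T), mul_comm]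
    refine Nat.mul_le_mul_left _ ?_
    have : (T ⊓ F.Cd).relIndex T ≠ 0 := index_ne_zero_of_finite
    have : (T ⊓ F.Cd).relIndex T ≠ 1 := fun e =>
      F.a_nd (mem_cen.1 (relIndex_eq_one.1 e (h.sy.le F.aS)).2)
    omega
  obtain ⟨c, hc, l⟩ := h.sy.sylR.exists_conj (isPGroup_cj k⁻¹ (h.sy.syl.isP.to_inf_left (K :=
    centralizer {F.d * F.w}))) (cj_le_iff.2 fun u hu => mem_cen.2 (by
      rw [← cj_inv k F.d, e]; exact cj_comm.2 (mem_cen.1 hu.2)))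
  have eq : H42.cj (c * k⁻¹) U = T ⊓ F.Cd := by
    refine eq_of_le_of_card_ge ?_ (by rw [card_cj]; omega)
    rw [← H42.cj_cj]
    exact cj_le_iff.2 l
  have JU : ∀ j ∈ F.J, cj (c * k⁻¹)⁻¹ j ∈ U := fun j hj => by
    have : j ∈ H42.cj (c * k⁻¹) U := eq ▸ ⟨h.J_T hj, mem_cen.2 (F.J_d hj)⟩
    simpa [cj] using mem_cj.1 this
  have zz : cj (c * k⁻¹) F.z = F.z := by
    rcases F.cenJ_two (g := cj (c * k⁻¹) F.z) (n := 1) (fun j hj => by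
      rw [← cj_inv' (c * k⁻¹) j, cj_comm]; exact (F.M_z (h.sy.leM (JU j hj).1)).symm)
      (by rw [pow_one, pow_two]; exact cj_sq F.zz) with e | e | e | e
    · exact absurd (cj_eq_one.1 e) F.z_ne
    · exact e
    · exact absurd F.D_d (h.nD e)
    · exact absurd F.D_dz (h.nD e)
  have hm := h.sy.wc _ (inv_mem (mem_cen.2 (cj_eq.1 zz))) fun j hj => (JU j hj).1
  have := mem_cen.1 (JU _ (cj_nm (inv_mem hm) (F.jv_mem (v := 128) (by decide)))).2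
  rw [cj_cj, mul_inv_cancel, cj, one_mul, inv_one, mul_one,
    F.comm_J (F.jv_mem (by decide)) hu, F.π_jv (by decide), πu] at this
  exact absurd this (by decide)

theorem nDJ {j : G} (hj : j ∈ F.J) (n : ¬ F.inZ j) : ¬ F.D j := fun hD => by
  by_cases o : Om (F.π j) = true
  · obtain ⟨k, -, e⟩ := h.Jz1 hj o
    exact h.nD e hD
  obtain ⟨m, hm, -, e⟩ := h.Jw hj hD.sq n
  have hu := mul_mem F.dJ F.wJ
  have πu : F.π (F.d * F.w) = 257 := by rw [F.π_mul F.dJ F.wJ, F.πd, F.πw]; rfl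
  rcases F.π_eq (cj_nm hm hj) hu (by rw [e, if_neg o, πu]) with e | e
  · exact h.nD_dw (e ▸ hD.cj m)
  · have := F.cj_J (F.jv_mem (v := 128) (by decide)) hu
    rw [F.π_jv (by decide), πu, if_neg (by decide), ← (F.J_z hu).eq, ← e] at this
    exact h.nD_dw (this ▸ hD.cj m).of_cj

theorem DJ {e : G} (he : F.D e) (hJ : e ∈ F.J) : e = F.d ∨ e = F.d * F.z := by
  rcases by_contra fun n => h.nDJ hJ n he with e | e | e
  · exact absurd e he.ne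
  · exact absurd (e ▸ he) h.sy.nd
  · exact e

end Two

end Fr

end Cfsg.Agent.FE
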