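/-
The case `M / J C(J) = W(E₆)`: the transpositions in `T`.
-/
import Cfsg.Agent.FE.TwoA

set_option autoImplicit false
set_option linter.unusedSectionVars false

namespace Cfsg.Agent.FE

open Subgroup H42

universe u

namespace Fr.Two

variable {G : Type u} [Group G] [Finite G] {F : Fr G} {g : G} {T : Subgroup G} (h : F.Two g T)
include h

theorem toT1 {s t : G} (hs : s ∈ F.M) (s2 : s * s = 1) (ht : t ∈ T)
    (e : F.ρ s = F.ρ t) : ∃ y ∈ F.Y, ∃ j ∈ F.J, cj y s = t * j :=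
  h.toT hs (n := 1) (by rw [pow_one, pow_two, s2]) ht e

theorem cjx {m : G} (hm : m ∈ F.M) (e : m9 (F.ρ m) t0 = m9 t0 (F.ρ m)) :
    ∃ y ∈ F.Y, ∃ j ∈ F.J, cj (y * m) F.x = F.x * j ∧ F.π j % 256 ∈ [0, 1, 16, 17] := by
  have e1 := F.ρ_cj hm F.xM (r := t0) (by decide) (by rw [F.ρx, e])
  obtain ⟨y, hy, j, hj, e2⟩ := h.toT1 (cj_mem hm F.xM) (cj_sq F.xx)
    (h.sy.le F.xS) (e1.trans F.ρx.symm)
  rw [cj_cj] at e2
  refine ⟨y, hy, j, hj, e2, lb_tab.2.2.2.2.1 _ (F.π_lt j) fun v hv => ?_⟩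
  obtain ⟨lt, fx⟩ := (by decide +kernel : ∀ v ∈ [1, 2, 4, 16, 32, 64], v < 512 ∧ ap9 t0 v = v) v hv
  have hk := F.jv_mem lt
  have hm' := mul_mem (F.Y_M hy) hm
  have hk' := cj_nm (inv_mem hm') hk
  have c1 : Commute (F.jv v) F.x := (F.CJx hk).2 (by rw [F.π_jv lt, fx])
  have c2 : Commute (cj (y * m)⁻¹ (F.jv v)) F.x := by
    rw [F.CJx hk', ← F.ρx, ← F.ρ_ap F.xM hk', ← cj_inv (y * m) F.x, cj_sw,
      F.ρ_ap (inv_mem hm') (cj_nm (cj_mem hm' F.xM) hk), F.ρ_ap (cj_mem hm' F.xM) hk, e2,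
      F.ρ_mul_I F.xM (F.J_M hj) (F.ρ_J hj), F.ρx, F.π_jv lt, fx, F.ρ_ap (inv_mem hm') hk, F.π_jv lt]
  rw [← cj_comm (g := y * m), cj_inv', e2] at c2
  rw [← F.π_jv lt, ← F.comm_J hk hj]
  simpa using c1.inv_right.mul_right c2

theorem b3 : ∃ m ∈ F.M, ∃ j ∈ F.J, cj m (F.ι (rp 7)) = F.x * j ∧ F.π j % 256 ∈ [2, 3, 18, 19] := by
  obtain ⟨y, hy, j, hj, e, l⟩ := h.cjx h.tw.mem (by rw [h.tw.ρg]; decide +kernel)
  have hk := F.jv_mem (v := 32) (by decide)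
  have hm := mul_mem (F.Y_M hy) h.tw.mem
  refine ⟨_, hm, _, mul_mem hj (cj_nm hm hk), ?_, ?_⟩
  · rw [show rp 7 = mm cx (jc 32 0) by decide +kernel, F.ι_mul tx (jc_tri (by decide) two_pos),
      cj_mul, ← mul_assoc F.x, ← e]; rfl
  · rw [F.π_mul hj (cj_nm hm hk), F.ρ_ap hm hk, F.ρ_I_mul h.tw.mem (F.Y_M hy) (F.ρ_Y hy), h.tw.ρg,
      F.π_jv (by decide)]
    exact (by decide +kernel : ∀ u < 512, u % 256 ∈ [0, 1, 16, 17] →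
      (u ^^^ ap9 cg 32) % 256 ∈ [2, 3, 18, 19]) _ (F.π_lt j) l

omit h in
theorem rpJ {i : ℕ} (hi : i < 7) : F.ι (rp i) ∈ F.J ∧ F.κ (F.ι (rp i)) = rp i := by
  obtain ⟨h1, h2⟩ := (by decide +kernel : ∀ i < 7, tri (rp i) = true ∧ isJ (rp i) = true) i hi
  exact ⟨F.mem_J.2 ⟨F.ι_mem _ h1, by rwa [F.κ_ι _ h1]⟩, F.κ_ι _ h1⟩

omit h in
theorem blkπ {j : G} (hj : j ∈ F.J) (e : isD (F.κ (F.x * j)) = true) :
    j = 1 ∨ F.π j ∈ [1, 272, 273] := by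
  rcases F.blkx hj e with e | e | e | e <;> rw [e]
  · exact .inl rfl
  all_goals simp [F.πw, F.π_jv, F.π_mul (F.jv_mem (v := 273) (by decide)) F.zJ, F.πz]

theorem DS7 {s : G} (hs : s ∈ F.S) (hD : F.D s) (n7 : ty (F.κ s) ≠ 7) : isD (F.κ s) = true := by
  obtain ⟨lt, -, k, n, -, e⟩ := F.cls hs hD.sq hD.ne
  obtain ⟨h1, h2⟩ := rpJ (F := F) (by omega : ty (F.κ s) < 7)
  refine k.1 ((by decide +kernel : ∀ i < 7, rp i = cd ∨ rp i = mm cd cz → i = 1) _ (by omega) ?_)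
  rw [← h2, ← F.κd, ← F.κz, ← F.κS F.dS F.zS]
  exact (h.DJ (e ▸ hD.cj n) h1).imp (congrArg _) (congrArg _)

theorem DS {s : G} (hs : s ∈ F.S) (hD : F.D s) : isD (F.κ s) = true := by
  refine h.DS7 hs hD fun e7 => ?_
  obtain ⟨-, -, -, n, -, e⟩ := F.cls hs hD.sq hD.ne
  obtain ⟨m, -, j, hj, e', l⟩ := h.b3
  have hD' : F.D (F.x * j) := e' ▸ (e7 ▸ e ▸ hD.cj n).cj m
  rcases blkπ hj (h.DS7 (mul_mem F.xS (F.J_le hj)) hD' (F.xJ_ty hj (by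
    simp at l ⊢; omega))) with e | e
  · simp [e, F.π_one] at l
  · simp at l e; omega

theorem toS {t : G} (ht : t ∈ T) (tt : t * t = 1) :
    ∃ m ∈ F.M, Commute m F.d ∧ cj m t ∈ F.S := by
  obtain ⟨m, hm, hd, s, hs, e⟩ : ∃ m ∈ F.M, Commute m F.d ∧ ∃ s ∈ F.S, F.ρ (cj m t) = F.ρ s := by
    by_cases c : Commute t F.d
    · obtain ⟨m, hm, hd, e⟩ := h.inv0 ht c (tt ▸ F.ρ_one)
      simp only [List.mem_cons, List.not_mem_nil, or_false] at e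
      rw [← F.ρ_one, ← F.ρx, ← F.ρf] at e
      rcases e with e | e | e
      exacts [⟨m, hm, hd, _, one_mem _, e⟩, ⟨m, hm, hd, _, F.xS, e⟩,
        ⟨m, hm, hd, _, mul_mem F.xS F.x1S, e⟩]
    · obtain ⟨m, hm, hd, e⟩ := h.inv1 ht c (tt ▸ F.ρ_one)
      simp only [List.mem_cons, List.not_mem_nil, or_false] at e
      rw [← F.ρx, ← F.ρa, ← F.ρ_mul F.aM F.xM] at e
      rcases e with e | e
      exacts [⟨m, hm, hd, _, F.aS, e⟩, ⟨m, hm, hd, _, mul_mem F.aS F.xS, e⟩]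
  obtain ⟨y, hy, j, hj, e⟩ := h.toT1 (cj_mem hm (h.sy.leM ht)) (cj_sq tt) (h.sy.le hs) e
  exact ⟨y * m, mul_mem (F.Y_M hy) hm, (F.Y_cen hy F.dJ).mul_left hd, by
    rw [← cj_cj, e]; exact mul_mem hs (F.J_le hj)⟩

theorem DF {e : G} (he : F.D e) (hT : e ∈ T) :
    e = F.d ∨ e = F.d * F.z ∨ ∃ m ∈ F.M, Commute m F.d ∧ cj m F.x = e := by
  obtain ⟨m, hm, hd, hs⟩ := h.toS hT he.sq
  rcases F.Dx hs (h.DS hs (he.cj m)) with e | e | ⟨k, hk, kd, e⟩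
  · exact .inl (cj_inj.1 (e.trans (cj_eq.2 hd).symm))
  · exact .inr (.inl (cj_inj.1 (e.trans (cj_eq.2 (hd.mul_right (F.M_z hm))).symm)))
  · exact .inr (.inr ⟨m⁻¹ * k, mul_mem (inv_mem hm) hk, hd.inv_left.mul_left kd, by
      rw [← cj_cj, e, cj_inv]⟩)

theorem DT_d {e : G} (he : F.D e) (hT : e ∈ T) : Commute e F.d := by
  rcases h.DF he hT with rfl | rfl | ⟨m, hm, -, rfl⟩
  exacts [.refl _, F.J_d (mul_mem F.dJ F.zJ), (F.cj_nd hm F.xM).2 F.xd]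

theorem DF' {e : G} (he : F.D e) (hT : e ∈ T) (n : ¬ F.inZ e) :
    ∃ m ∈ F.M, Commute m F.d ∧ cj m F.x = e :=
  ((h.DF he hT).resolve_left fun e => n (.inr (.inr (.inl e)))).resolve_left
    fun e => n (.inr (.inr (.inr e)))

theorem Dtau {e : G} (he : F.D e) (hT : e ∈ T) (n : ¬ F.inZ e) : F.ρ e ∈ tau := by
  rcases h.inv0' hT (h.DT_d he hT) (he.sq ▸ F.ρ_one) with k | ⟨m, hm, -, k | k⟩
  · exact absurd (.inr (.inr (h.DJ he (h.sy.TJ e hT k)))) n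
  · exact k.1
  obtain ⟨y, -, j, hj, k⟩ := h.toT1 (cj_mem hm (h.sy.leM hT)) (cj_sq he.sq)
    (h.sy.le (mul_mem F.xS F.x1S)) (k.trans F.ρf.symm)
  have := h.DS (mul_mem (mul_mem F.xS F.x1S) (F.J_le hj)) (k ▸ (he.cj m).cj y)
  obtain ⟨v, hv, c, hc, k⟩ := F.κ_J hj
  rw [F.κS (mul_mem F.xS F.x1S) (F.J_le hj), F.κS F.xS F.x1S, F.κx, F.κx1, k] at this
  simpa [this] using al_spec (al_spec fJ_tab hv) hc

theorem blk {e f : G} (he : F.D e) (hT : e ∈ T) (n : ¬ F.inZ e) (hf : F.D f) (hT' : f ∈ T)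
    (r : F.ρ e = F.ρ f) : e * f ∈ F.J ∧ Commute e f ∧ (e * f = 1 ∨ Om (F.π (e * f)) = true) ∧
      F.π (e * f) ∈ tim (F.ρ e) := by
  have hM := h.sy.leM hT
  have hJ := h.sy.TJ _ (mul_mem hT hT') (by
    rw [F.ρ_mul hM (h.sy.leM hT'), ← r, ← F.ρ_mul hM hM, he.sq, F.ρ_one])
  have ht := h.Dtau he hT n
  obtain ⟨m, hm, hd, rfl⟩ := h.DF' he hT n
  obtain ⟨j, hj, rfl⟩ : ∃ j ∈ F.J, f = cj m (F.x * j) := ⟨_, cj_nm (inv_mem hm) hJ, by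
    rw [cj_mul, cj_inv', ← mul_assoc, he.sq, one_mul]⟩
  have k := blkπ hj (h.DS (mul_mem F.xS (F.J_le hj)) hf.of_cj)
  obtain ⟨fx, v, hv, ev⟩ := (by decide +kernel : ∀ u ∈ [0, 1, 272, 273], ap9 t0 u = u ∧
    ∃ v < 512, u = ap9 t0 v ^^^ v) (F.π j) (k.elim (fun e => by simp [e, F.π_one])
      (List.mem_cons_of_mem _))
  rw [← cj_mul, ← mul_assoc, F.xx, one_mul] at hJ ⊢
  refine ⟨hJ, cj_comm.2 ((Commute.refl _).mul_right ((F.CJx hj).2 fx).symm), k.imp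
    (fun e => by rw [e, cj_one]) fun e => ?_, ?_⟩
  · rw [h.Om_ρ hm hd hj]
    exact (by decide +kernel : ∀ u ∈ [1, 272, 273], Om u = true) _ e
  · rw [F.ρ_ap hm hj, ev, ap9_xor, ← ap9_m9, ← F.ρx, F.ρ_cj' hm F.xM, ap9_m9]
    exact tim_tab.1 _ ht _ (ap9_lt _ _)

theorem DcommT {e f : G} (he : F.D e) (hf : F.D f) (h1 : e ∈ T) (h2 : f ∈ T) : Commute e f := by
  have m1 := h.sy.leM h1
  have m2 := h.sy.leM h2
  by_cases n1 : F.inZ e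
  · exact (n1.comm (F.M_z m2) (h.DT_d hf h2)).symm
  by_cases n2 : F.inZ f
  · exact n2.comm (F.M_z m1) (h.DT_d he h1)
  by_cases r : F.ρ e = F.ρ f
  · exact (h.blk he h1 n1 hf h2 r).2.1
  have t1 := h.Dtau he h1 n1
  have t2 := h.Dtau hf h2 n2
  obtain ⟨j1, -, o, k1⟩ := h.blk he h1 n1 (he.cj f) (cj_mem h2 h1)
    (F.ρ_cj m2 m1 (F.ρ_lt _) (tim_tab.2.2.1 _ t2 _ t1)).symm
  obtain ⟨-, -, -, k2⟩ := h.blk hf h2 n2 (hf.cj e) (cj_mem h1 h2)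
    (F.ρ_cj m1 m2 (F.ρ_lt _) (tim_tab.2.2.1 _ t1 _ t2)).symm
  have i1 := inv_eq_of_mul_eq_one_right he.sq
  have i2 := inv_eq_of_mul_eq_one_right hf.sq
  rw [show f * cj e f = (e * cj f e)⁻¹ by simp [cj, mul_assoc, i1, i2], F.π_inv j1] at k2
  rw [tim_tab.2.1 _ t1 _ t2 r _ k1 k2] at o
  exact (cj_eq.1 ((eq_inv_of_mul_eq_one_right (o.resolve_right (by decide))).trans i1)).symm

theorem Dcomm {e f : G} (he : F.D e) (hf : F.D f) {P : Subgroup G} (hP : IsPGroup 2 P)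
    (h1 : e ∈ P) (h2 : f ∈ P) : Commute e f := by
  obtain ⟨k, -, c⟩ := h.sy.syl.exists_conj hP le_top
  exact cj_comm.1 (h.DcommT (he.cj k) (hf.cj k) (c e h1) (c f h2))

theorem Dz {e : G} (he : F.D e) (hz : F.D (e * F.z)) (hT : e ∈ T) :
    e = F.d ∨ e = F.d * F.z := by
  refine (h.DF he hT).imp_right fun k => k.resolve_right ?_
  rintro ⟨m, hm, -, rfl⟩
  rw [← cj_eq.2 (F.M_z hm), ← cj_mul] at hz
  rcases blkπ F.zJ (h.DS (mul_mem F.xS F.zS) hz.of_cj) with e | e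
  · exact F.z_ne e
  · simp [F.πz] at e

theorem Blk {e e' f f' : G} (he : F.D e ∧ e ∈ T ∧ ¬ F.inZ e) (he' : F.D e' ∧ e' ∈ T ∧ ¬ F.inZ e')
    (hf : F.D f ∧ f ∈ T ∧ ¬ F.inZ f) (hf' : F.D f' ∧ f' ∈ T ∧ ¬ F.inZ f')
    (e1 : e * e' * (f * f') = F.z) : e * e' ∈ F.J := by
  by_contra n
  have r : F.ρ e ≠ F.ρ e' := fun r => n (h.blk he.1 he.2.1 he.2.2 he'.1 he'.2.1 r).1
  have t1 := h.Dtau he.1 he.2.1 he.2.2
  have t2 := h.Dtau he'.1 he'.2.1 he'.2.2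
  have key : ∀ f f', F.D f → f ∈ T → F.D f' → f' ∈ T → e * e' * (f * f') = F.z →
      F.ρ e = F.ρ f → F.ρ e' ≠ F.ρ f' := fun f f' a1 a2 b1 b2 e1 r1 r2 => by
    obtain ⟨j1, -, o1, k1⟩ := h.blk he.1 he.2.1 he.2.2 a1 a2 r1
    obtain ⟨j2, -, o2, k2⟩ := h.blk he'.1 he'.2.1 he'.2.2 b1 b2 r2
    rw [(h.DcommT he'.1 a1 he'.2.1 a2).mul_mul_mul_comm] at e1
    have := F.π_mul j1 j2
    rw [e1, F.πz, eq_comm, Nat.xor_eq_zero_iff] at this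
    have z := tim_tab.2.1 _ t1 _ t2 r _ k1 (this ▸ k2)
    rw [← this] at o2
    rw [z] at o1 o2
    rw [o1.resolve_right (by decide), o2.resolve_right (by decide), one_mul] at e1
    exact F.z_ne e1.symm
  have M := fun {e} (he : F.D e ∧ e ∈ T ∧ ¬ F.inZ e) => h.sy.leM he.2.1
  rcases tim_tab.2.2.2 _ t1 _ t2 _ (h.Dtau hf.1 hf.2.1 hf.2.2) _ (h.Dtau hf'.1 hf'.2.1 hf'.2.2) (by
    rw [← F.ρ_mul (M he) (M he'), ← F.ρ_mul (M hf) (M hf'), ← F.ρ_mul (mul_mem (M he) (M he'))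
      (mul_mem (M hf) (M hf')), e1, F.ρ_J F.zJ]) with k | k | k
  · exact r k
  · exact key f f' hf.1 hf.2.1 hf'.1 hf'.2.1 e1 k.1 k.2
  · exact key f' f hf'.1 hf'.2.1 hf.1 hf.2.1
      (h.DcommT hf.1 hf'.1 hf.2.1 hf'.2.1 ▸ e1) k.1 k.2

end Fr.Two

end Cfsg.Agent.FE
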