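/-
The case `M / J C(J) = W(E₆)`: the group `E = 2^10`.
-/
import Cfsg.Agent.FE.TwoB

set_option autoImplicit false
set_option linter.unusedSectionVars false

namespace Cfsg.Agent.FE

open Subgroup H42

universe u

namespace Fr.Two

variable {G : Type u} [Group G] [Finite G] {F : Fr G} {g : G} {T : Subgroup G} (h : F.Two g T)
include h

theorem E_le : F.E T ≤ T ⊓ F.Cd :=
  (closure_le _).2 fun _ he => ⟨he.2, mem_cen.2 (h.DT_d he.1 he.2)⟩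

omit h in
theorem mem_E {e : G} (he : F.D e) (hT : e ∈ T) : e ∈ F.E T := subset_closure ⟨he, hT⟩

omit h in
theorem commE {y c : G} (hy : ∀ e, F.D e → e ∈ T → Commute y e) (hc : c ∈ F.E T) : Commute y c :=
  (mem_cen.1 ((closure_le (centralizer {y})).2 (fun e he => mem_cen.2 (hy e he.1 he.2).symm)
    hc)).symm

theorem E_comm {a b : G} (ha : a ∈ F.E T) (hb : b ∈ F.E T) : Commute a b :=
  commE (fun _ h1 h2 => (commE (fun _ h3 h4 => h.DcommT h1 h3 h2 h4) ha).symm) hb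

theorem E_sq {e : G} (he : e ∈ F.E T) : e * e = 1 := by
  induction he using closure_induction with
  | mem x hx => exact hx.1.sq
  | one => exact one_mul _
  | mul x y hx hy h1 h2 => rw [(h.E_comm hy hx).mul_mul_mul_comm, h1, h2, one_mul]
  | inv x _ h1 => rw [← mul_inv_rev, h1, inv_one]

omit h in
theorem wcE {k : G} (hk : ∀ e ∈ F.E T, cj k e ∈ T) : k ∈ normalizer (F.E T : Set G) :=
  mem_normalizer_of_conj_mem fun _ he => (closure_le ((F.E T).comap (MulAut.conj k).toMonoidHom)).2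
    (fun e he => mem_E (he.1.cj k) (hk e (mem_E he.1 he.2))) he

theorem ZE {t : G} (ht : F.inZ t) : t ∈ F.E T := by
  have h1 := mem_E F.D_d (h.J_T F.dJ)
  have h2 := mem_E F.D_dz (h.J_T (mul_mem F.dJ F.zJ))
  rcases ht with rfl | rfl | rfl | rfl
  exacts [one_mem _, (mul_mem_cancel_left h1).1 h2, h1, h2]

theorem tauD {c : ℕ} (hc : c ∈ tau) : ∃ e, F.D e ∧ e ∈ T ∧ F.ρ e = c := by
  obtain ⟨h0, l, -, e⟩ := tau_tab c hc
  obtain ⟨m, hm, -, e'⟩ := h.tw.rz_wd F l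
  obtain ⟨t, ht, -, rfl⟩ := h.sur c h0
  obtain ⟨y, -, j, hj, k⟩ := h.toT1 (cj_mem hm F.xM) (cj_sq F.xx)
    ht (F.ρ_cj hm F.xM (F.ρ_lt _) (by rw [e', F.ρx, e]))
  exact ⟨_, k ▸ (F.D_x.cj m).cj y, mul_mem ht (h.J_T hj),
    F.ρ_mul_I (h.sy.leM ht) (F.J_M hj) (F.ρ_J hj)⟩

theorem EJ {j : G} (hj : j ∈ F.J) (l : lb (F.π j)) : j ∈ F.E T := by
  obtain ⟨c, hc, v, hv, e⟩ := lb_tab.1 _ (F.π_lt j) l
  obtain ⟨t, h1, h2, rfl⟩ := h.tauD hc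
  have hk := F.jv_mem (by omega : v < 512)
  have hc := mul_mem (cj_nm (h.sy.leM h2) hk) (inv_mem hk)
  have : cj t (F.jv v) * (F.jv v)⁻¹ ∈ F.E T := by
    have := mul_mem (mem_E h1 h2) (inv_mem (mem_E (h1.cj (F.jv v)) (cj_mem (h.J_T hk) h2)))
    simpa [cj, mul_assoc] using this
  refine (mul_mem_cancel_left (inv_mem this)).1 (h.ZE (F.Z_of_π hc hj ?_))
  rw [F.π_mul (cj_nm (h.sy.leM h2) hk) (inv_mem hk), F.π_inv hk, F.ρ_ap (h.sy.leM h2) hk,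
    F.π_jv (by omega), e]

theorem CT {t : G} (ht : t ∈ T) (c : ∀ e ∈ F.E T, Commute t e) : t ∈ F.E T := by
  have k : ∀ v ∈ [1, 2, 16, 32], v < 512 ∧ lb v := by decide
  have hv : ∀ v ∈ [1, 2, 16, 32], F.jv v ∈ F.E T := fun v hv =>
    h.EJ (F.jv_mem (k v hv).1) (by rw [F.π_jv (k v hv).1]; exact (k v hv).2)
  have fx : ∀ i < 9, 2 ^ i ∈ [1, 2, 16, 32] → c9 (F.ρ t) i = 2 ^ i := fun i hi l => by
    rw [F.c9_ρ t hi, cj_eq.2 (c _ (hv _ l)), F.π_jv (p9 hi)]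
  obtain ⟨e, he, r⟩ : ∃ e ∈ F.E T, F.ρ e = F.ρ t := by
    rcases lb_tab.2.2.2.2.2 _ (h.sy.in0 t ht (c _ (h.ZE (.inr (.inr (.inl rfl)))))) (by
      simp [e16, fx]) with r | ⟨a, ha, r | ⟨b, hb, r⟩⟩
    · exact ⟨1, one_mem _, F.ρ_one.trans r.symm⟩
    · obtain ⟨e, h1, h2, e'⟩ := h.tauD ha
      exact ⟨e, mem_E h1 h2, e'.trans r.symm⟩
    · obtain ⟨e, h1, h2, rfl⟩ := h.tauD ha
      obtain ⟨f, h3, h4, rfl⟩ := h.tauD hb
      exact ⟨_, mul_mem (mem_E h1 h2) (mem_E h3 h4),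
        (F.ρ_mul (h.sy.leM h2) (h.sy.leM h4)).trans r.symm⟩
  have hT := (h.E_le he).1
  have hj := h.sy.TJ _ (mul_mem (inv_mem hT) ht) ((F.ρ_ker (h.sy.leM (mul_mem (inv_mem hT) ht))).2
    ((F.ρ_eq (h.sy.leM hT) (h.sy.leM ht)).1 r))
  refine (mul_mem_cancel_left (inv_mem he)).1 (h.EJ hj (lb_tab.2.1 _ (F.π_lt _) fun v l => ?_))
  rw [← F.π_jv (k v l).1, ← F.comm_J hj (F.jv_mem (k v l).1)]
  exact (h.E_comm (inv_mem he) (hv v l)).mul_left (c _ (hv v l))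

theorem CE {y : G} {n : ℕ} (y2 : y ^ 2 ^ n = 1) (hy : ∀ e, F.D e → e ∈ T → Commute y e) :
    y ∈ F.E T := by
  have c : ∀ e ∈ F.E T, Commute y e := fun _ => commE hy
  obtain ⟨k, -, l⟩ := h.sy.syl.exists_conj ((two_zp y2).to_sup_of_normal_right'
    (h.sy.syl.isP.to_le (h.E_le.trans inf_le_left)) (zpowers_le.2 (mem_normalizer_of_conj_mem
      fun e he => by rwa [← cj, cj_eq.2 (c e he)]))) le_top
  have hk := wcE fun e he => l e (mem_sup_right he)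
  refine (mem_normalizer_iff.1 hk y).2 (h.CT (l y (mem_sup_left (mem_zpowers y))) fun e he => ?_)
  rw [← cj_inv' k e]
  exact cj_comm.2 (c _ (cj_nm (inv_mem hk) he))

theorem fE : F.x * F.x1 ∈ F.E T :=
  mul_mem (mem_E F.D_x (h.sy.le F.xS)) (mem_E F.D_x1 (h.sy.le F.x1S))

theorem f0E {s : G} (hs : s ∈ F.M) (e : F.ρ s = f0) (ss : F.inZ (s * s)) :
    ∃ y ∈ F.Y, cj y s ∈ F.E T := by
  obtain ⟨y, hy, j, hj, k⟩ := h.toT hs (n := 2) (by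
    rw [show s ^ 2 ^ 2 = s * s * (s * s) by simp [pow_succ, mul_assoc], ss.sq])
    (h.E_le h.fE).1 (e.trans F.ρf.symm)
  refine ⟨y, hy, k ▸ mul_mem h.fE (h.EJ hj (lb_tab.2.2.1 _ (F.π_lt j) ?_))⟩
  have hM := h.sy.leM (h.E_le h.fE).1
  rw [← F.ρf, ← F.ρ_ap hM hj, ← F.π_mul (cj_nm hM hj) hj, F.π_Z (mul_mem (cj_nm hM hj) hj), cj,
    inv_eq_of_mul_eq_one_right (h.E_sq h.fE), mul_assoc, ← k, ← cj_mul]
  exact (F.cj_Z (F.Y_M hy) (F.Y_cen hy F.dJ)).2 ss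

theorem f0_sq {s : G} (hs : s ∈ F.M) (e : F.ρ s = f0) (ss : F.inZ (s * s)) : s * s = 1 := by
  obtain ⟨y, -, k⟩ := h.f0E hs e ss
  exact cj_eq_one.1 ((cj_mul _ _ _).trans (h.E_sq k))

theorem JE {j : G} (hj : j ∈ F.J) (jj : j * j = 1) :
    ∃ m ∈ F.M, Commute m F.d ∧ cj m j ∈ F.E T := by
  by_cases n : F.inZ j
  · exact ⟨1, one_mem _, .one_left _, by simpa [cj] using h.ZE n⟩
  obtain ⟨m, hm, hd, e⟩ := h.Jw hj jj n
  exact ⟨m, hm, hd, h.EJ (cj_nm hm hj) (by rw [e]; split_ifs <;> decide)⟩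

theorem E3 {s : G} (hs : s ∈ T) (ss : s * s = 1) (hd : Commute s F.d) :
    ∃ m ∈ F.M, Commute m F.d ∧ cj m s ∈ F.E T := by
  rcases h.inv0' hs hd (ss ▸ F.ρ_one) with k | ⟨m, hm, md, ⟨-, k⟩ | k⟩
  · exact h.JE (h.sy.TJ s hs k) ss
  · obtain ⟨y, hy, j, hj, k⟩ := h.toT1 (cj_mem hm (h.sy.leM hs)) (cj_sq ss)
      (h.sy.le F.xS) (k.trans F.ρx.symm)
    have s2 : cj F.x j * j = 1 := by
      rw [cj, inv_eq_of_mul_eq_one_right F.xx, mul_assoc, ← k]; exact cj_sq (cj_sq ss)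
    have fx := F.π_mul (cj_nm F.xM hj) hj
    rw [s2, F.π_one, eq_comm, Nat.xor_eq_zero_iff, F.ρ_ap F.xM hj, F.ρx] at fx
    rw [cj_eq.2 ((F.CJx hj).2 fx).symm, F.sq_J hj] at s2
    obtain ⟨n, hn, nd, c, l⟩ := h.nine (F.π_lt j) fx 
      (by_contra fun q => F.z_ne ((if_neg q).symm.trans s2))
    obtain ⟨y', hy', j', hj', k', l'⟩ := h.cjx hn c
    have hn' := mul_mem (F.Y_M hy') hn
    refine ⟨y' * n * (y * m), mul_mem hn' (mul_mem (F.Y_M hy) hm),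
      ((F.Y_cen hy' F.dJ).mul_left nd).mul_left ((F.Y_cen hy F.dJ).mul_left md), ?_⟩
    rw [← cj_cj, ← cj_cj y, k, cj_mul, k']
    refine mul_mem (mul_mem (mem_E F.D_x (h.sy.le F.xS)) (h.EJ hj' (lb_tab.2.2.2.1 _ (F.π_lt _)
      (by simp at l' ⊢; omega)))) (h.EJ (cj_nm hn' hj) (lb_tab.2.2.2.1 _ (F.π_lt _) ?_))
    rwa [F.ρ_ap hn' hj, F.ρ_I_mul hn (F.Y_M hy') (F.ρ_Y hy')]
  · obtain ⟨y, hy, k⟩ := h.f0E (cj_mem hm (h.sy.leM hs)) k (.inl (cj_sq ss))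
    exact ⟨y * m, mul_mem (F.Y_M hy) hm, (F.Y_cen hy F.dJ).mul_left md, cj_cj y m s ▸ k⟩

theorem fac {s k : G} (hs : s ∈ F.E T) (e : cj k F.z = s) :
    ∃ e, F.D e ∧ e ∈ T ∧ F.D (e * s) ∧ e * s ∈ T := by
  obtain ⟨c, hc, l⟩ := (h.sy.syl.of_le (K := F.H) (fun t ht => mem_cen.2 (F.M_z (h.sy.leM ht)))
    le_top).exists_conj (isPGroup_cj k⁻¹ (h.sy.syl.isP.to_le (h.E_le.trans inf_le_left)))
    (cj_le_iff.2 fun u hu => mem_cen.2 (by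
      rw [← cj_inv k F.z, e]; exact cj_comm.2 (h.E_comm hu hs)))
  have hk := inv_mem (wcE (k := c * k⁻¹) fun u hu => by
    rw [← cj_cj]; exact l _ (conj_mem_cj hu))
  have ez : cj (c * k⁻¹)⁻¹ F.z = s := by
    rw [mul_inv_rev, inv_inv, ← cj_cj, cj_eq.2 (mem_cen.1 hc).inv_left, e]
  have hd := cj_nm hk (h.ZE (.inr (.inr (.inl rfl))))
  exact ⟨_, F.D_d.cj _, (h.E_le hd).1, ez ▸ cj_mul _ F.d F.z ▸ F.D_dz.cj _,
    (h.E_le (mul_mem hd hs)).1⟩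

omit h in
theorem trans_z {k m s t : G} (hk : k ∈ F.N ⊔ F.M) (hm : m ∈ F.N ⊔ F.M) (e : cj k F.z = t)
    (e' : cj m s = t) : ∃ k ∈ F.N ⊔ F.M, cj k F.z = s :=
  ⟨m⁻¹ * k, mul_mem (inv_mem hm) hk, by rw [← cj_cj, e, ← e', cj_inv]⟩

theorem zt {s : G} (hs : s ∈ F.S) (ss : s * s = 1) (e : ty (F.κ s) = 5) :
    ∃ k ∈ F.N ⊔ F.M, cj k F.z = s := by
  obtain ⟨-, -, -, n, hn, e'⟩ := F.cls hs ss fun e1 => by
    rw [e1, F.κ_one] at e; exact absurd e (by decide +kernel)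
  obtain ⟨h1, h2⟩ := rpJ (F := F) (by decide : 5 < 7)
  obtain ⟨k, hk, e2⟩ := h.Jz1 h1 (by rw [π, h2]; decide +kernel)
  exact trans_z hk (mem_sup_left hn) e2 (e ▸ e')

theorem pair {e e' : G} (he : F.D e) (he' : F.D e') (h1 : e ∈ T) (h2 : e' ∈ T) (n : e ≠ e') :
    ∃ k ∈ F.N ⊔ F.M, cj k F.z = e * e' := by
  have c := h.DcommT he he' h1 h2
  have Z : ∀ {e}, F.D e → F.inZ e → e = F.d ∨ e = F.d * F.z := fun he n => h.DJ he n.mem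
  have key : ∀ {e e'}, F.D e → F.D e' → e' ∈ T → F.inZ e → ¬ F.inZ e' →
      ∃ k ∈ F.N ⊔ F.M, cj k F.z = e * e' := fun {e e'} he he' h2 n1 n2 => by
    obtain ⟨m, hm, md, rfl⟩ := h.DF' he' h2 n2
    have hs := mul_mem (F.J_le n1.mem) F.xS
    obtain ⟨k, hk, e2⟩ := h.zt hs (by
      rw [(n1.comm (F.M_z F.xM) F.xd).mul_mul_mul_comm, he.sq, F.xx, one_mul]) (by
      rw [F.κS (F.J_le n1.mem) F.xS, F.κx]
      rcases Z he n1 with rfl | rfl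
      · rw [F.κd]; decide +kernel
      · rw [F.κS F.dS F.zS, F.κd, F.κz]; decide +kernel)
    exact ⟨m * k, mul_mem (mem_sup_right hm) hk, by
      rw [← cj_cj, e2, cj_mul, cj_eq.2 (n1.comm (F.M_z hm) md)]⟩
  by_cases n1 : F.inZ e <;> by_cases n2 : F.inZ e'
  · refine ⟨1, one_mem _, ?_⟩
    rcases Z he n1 with rfl | rfl <;> rcases Z he' n2 with rfl | rfl
    · exact absurd rfl n
    · simp [cj, ← mul_assoc, F.dd]
    · rw [c.eq]; simp [cj, ← mul_assoc, F.dd]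
    · exact absurd rfl n
  · exact key he he' h2 n1 n2
  · exact c.symm.eq ▸ key he' he h1 n2 n1
  by_cases r : F.ρ e = F.ρ e'
  · obtain ⟨hj, -, o, -⟩ := h.blk he h1 n1 he' h2 r
    exact h.Jz1 hj (o.resolve_left fun k => n (mul_left_cancel (he.sq.trans k.symm)))
  obtain ⟨l, -, r1, r2⟩ := pair_tab _ (h.Dtau he h1 n1) _ (h.Dtau he' h2 n2) r
  obtain ⟨m, hm, -, e3⟩ := h.tw.rz_wd F l
  have m1 := h.sy.leM h1
  have m2 := h.sy.leM h2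
  rw [← e3] at r1 r2
  have r1 := (F.ρ_cj hm m1 (by decide) r1).trans F.ρx.symm
  have r2 := (F.ρ_cj hm m2 (by decide) r2).trans F.ρx1.symm
  have L : ∀ {e s}, e ∈ T → s ∈ F.S → F.ρ (cj m e) = F.ρ s → cj m e ∈ F.S ⊔ F.Y :=
    fun he hs r => (mul_mem_cancel_left (inv_mem (mem_sup_left hs))).1 (sup_le_sup_right F.J_le _
      ((F.ρ_eq (F.S_M hs) (cj_mem hm (h.sy.leM he))).1 r.symm))
  obtain ⟨k, hk, l⟩ := (F.S_sylK.of_le le_sup_left (sup_le F.S_sylK.le le_sup_right)).exists_conj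
    ((isPGroup_cj m h.sy.syl.isP).to_inf_left (K := F.S ⊔ F.Y)) inf_le_right
  obtain ⟨q, hq, y, hy, rfl⟩ := exists_mul_of_mem_sup (F.S_M.trans F.M_NY) hk
  have L' : ∀ {e s}, e ∈ T → s ∈ F.S → F.ρ (cj m e) = F.ρ s → ∃ j ∈ F.J, cj (y * m) e = s * j :=
    fun {e s} he hs r => by
      have := cj_mem (inv_mem hq) (l _ ⟨conj_mem_cj he, L he hs r⟩)
      rw [← cj, ← cj_cj, cj_inv] at this
      refine ⟨s⁻¹ * cj y (cj m e), h.sy.TJ _ (h.sy.le (mul_mem (inv_mem hs) this)) ?_, by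
        simp [cj_cj]⟩
      rw [F.ρ_ker (F.S_M (mul_mem (inv_mem hs) this)), ← F.ρ_eq (F.S_M hs) (F.S_M this),
        F.ρ_cjY hy (cj_mem hm (h.sy.leM he)), r]
  obtain ⟨j1, hj1, a1⟩ := L' h1 F.xS r1
  obtain ⟨j2, hj2, a2⟩ := L' h2 F.x1S r2
  have s1 := mul_mem F.xS (F.J_le hj1)
  have s2 := mul_mem F.x1S (F.J_le hj2)
  have d2 := h.DS s2 (a2 ▸ he'.cj _)
  obtain ⟨k, hk, e4⟩ := h.zt (mul_mem s1 s2) (by
    rw [← a1, ← a2, ← cj_mul]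
    exact cj_sq (h.E_sq (mul_mem (mem_E he h1) (mem_E he' h2)))) (by
    obtain ⟨v, hv, c, hc, k⟩ := F.κ_J hj2
    have t := al_spec (al_spec pr_tab hv) hc
    rw [F.κS s1 s2, F.κS F.xS (F.J_le hj1), F.κx]
    rw [F.κS F.x1S (F.J_le hj2), F.κx1, k] at d2 ⊢
    simp only [d2, Bool.not_true, Bool.false_or, List.all_eq_true, Nat.beq_eq] at t
    refine t _ ?_
    rcases F.blkx hj1 (h.DS s1 (a1 ▸ he.cj _)) with e | e | e | e <;> rw [e]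
    · simp [F.κ_one]
    · simp [F.κw]
    · simp [jv, F.κ_ι _ (jc_tri (v := 272) (by decide) two_pos)]
    · simp [← F.ι_jc (v := 273) (by decide), F.κ_ι _ (jc_tri (v := 273) (by decide) one_lt_two)])
  exact trans_z hk (mem_sup_right (mul_mem (F.Y_M hy) hm)) e4 (by rw [cj_mul, a1, a2])

theorem fusJ {j k : G} (hj : j ∈ F.J) (e : cj k F.z = j) : ∃ k ∈ F.N ⊔ F.M, cj k F.z = j := by
  have jj : j * j = 1 := e ▸ cj_sq F.zz
  by_cases n : F.inZ j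
  · rcases n with n | n | n | n
    · exact absurd (cj_eq_one.1 (e.trans n)) F.z_ne
    · exact ⟨1, one_mem _, by simp [cj, n]⟩
    · exact absurd (n ▸ F.D_d) (h.nD e)
    · exact absurd (n ▸ F.D_dz) (h.nD e)
  obtain ⟨m, hm, -, hE⟩ := h.JE hj jj
  obtain ⟨f, h1, h2, h3, h4⟩ := h.fac hE (k := m * k) (by rw [← cj_cj, e])
  obtain ⟨k, hk, e⟩ := h.pair h1 h3 h2 h4 fun e' => F.z_ne (cj_eq_one.1 (e.trans (cj_eq_one.1
    (left_eq_mul.1 e'))))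
  exact trans_z hk (mem_sup_right hm) e (by rw [← mul_assoc, h1.sq, one_mul])

theorem fus {s k : G} (hs : s ∈ T) (e : cj k F.z = s) : ∃ k ∈ F.N ⊔ F.M, cj k F.z = s := by
  have key : ∀ {s k}, s ∈ F.S → cj k F.z = s → ty (F.κ s) ≠ 7 → ∃ k ∈ F.N ⊔ F.M, cj k F.z = s :=
    fun {s k} hs e n => by
      obtain ⟨lt, -, -, m, hm, e'⟩ := F.cls hs (e ▸ cj_sq F.zz) (e ▸ mt cj_eq_one.1 F.z_ne)
      obtain ⟨k, hk, e⟩ := h.fusJ (rpJ (F := F) (by omega : ty (F.κ s) < 7)).1 (k := m * k)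
        (by rw [← cj_cj, e, e'])
      exact trans_z hk (mem_sup_left hm) e e'
  obtain ⟨m, hm, -, hS⟩ := h.toS hs (e ▸ cj_sq F.zz)
  have e1 : cj (m * k) F.z = cj m s := by rw [← cj_cj, e]
  obtain ⟨k, hk, e⟩ : ∃ k ∈ F.N ⊔ F.M, cj k F.z = cj m s := by
    refine (em _).elim (fun e7 => ?_) (key hS e1)
    obtain ⟨-, -, -, n, hn, e'⟩ := F.cls hS (e1 ▸ cj_sq F.zz) (e1 ▸ mt cj_eq_one.1 F.z_ne)
    obtain ⟨m', hm', j, hj, e2, l⟩ := h.b3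
    rw [← e7, ← e', cj_cj] at e2
    obtain ⟨k, hk, e⟩ := key (mul_mem F.xS (F.J_le hj)) (k := m' * n * (m * k))
      (by rw [← cj_cj, e1, e2]) (F.xJ_ty hj (by simp at l ⊢; omega))
    exact trans_z hk (mul_mem (mem_sup_right hm') (mem_sup_left hn)) e e2
  exact trans_z hk (mem_sup_right hm) e rfl

end Fr.Two

end Cfsg.Agent.FE
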